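import Cfsg.Agent.R2.T1.Inf.Cov
import Cfsg.Agent.R2.T1.Inf.Act
import Cfsg.Agent.H952.F4.Count

/-!
# S5771, S5929: counting (helper11)

* `centralizer_eq`;
* `Irr ρ`, `St_eq`, `blue_of`, `blue` : the stabilizer of a proper `H`-stable subspace is the preimage of `H`;
* `count_sub`, `no_line`, `no_plane`;
* `no_fixed`.
-/

set_option autoImplicit false
set_option linter.unusedSectionVars false

namespace Cfsg.Agent.R2.T1

open Cfsg Cfsg.Lie Module
open Cfsg.Agent.H943.E7V.Block (D1 rho)
open Cfsg.Agent.H952.F4 (ev es matRep MaxAlt)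

variable {F : Type*} [Field F]

section irr
variable {M : Type*} [AddCommGroup M] [Module F M]

/-- irreducibility of a representation of `Gh F` -/
def Irr (ρ : Representation F (Gh F) M) : Prop :=
  ∀ U : Submodule F M, (∀ g : Gh F, ∀ w ∈ U, ρ g w ∈ U) → U ≠ ⊥ → U = ⊤

theorem irrV : Irr (V F) := fun _ hU h0 => irred hU h0

/-- the stabilizer of a subspace -/
def St (ρ : Representation F (Gh F) M) (W : Submodule F M) : Subgroup (Gh F) where
  carrier := {g | ∀ w, ρ g w ∈ W ↔ w ∈ W}
  one_mem' := by intro w; rw [map_one]; rfl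
  mul_mem' := by
    intro g h hg hh w
    rw [map_mul, Module.End.mul_apply, hg, hh]
  inv_mem' := by
    intro g hg w
    have h1 := hg (ρ g⁻¹ w)
    rw [← Module.End.mul_apply, ← map_mul, mul_inv_cancel, map_one, Module.End.one_apply] at h1
    exact h1.symm

theorem mem_St {ρ : Representation F (Gh F) M} {W : Submodule F M} {g : Gh F} : g ∈ St ρ W ↔ ∀ w, ρ g w ∈ W ↔ w ∈ W :=
  Iff.rfl

theorem ρ_inv (ρ : Representation F (Gh F) M) (g : Gh F) (w : M) : ρ g⁻¹ (ρ g w) = w := by
  rw [← Module.End.mul_apply, ← map_mul, inv_mul_cancel, map_one, Module.End.one_apply]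

theorem ρ_inv' (ρ : Representation F (Gh F) M) (g : Gh F) (w : M) : ρ g (ρ g⁻¹ w) = w := by
  rw [← Module.End.mul_apply, ← map_mul, mul_inv_cancel, map_one, Module.End.one_apply]

/-- on finite-dimensional spaces stability under `g` is enough -/
theorem mem_St_of [FiniteDimensional F M] {ρ : Representation F (Gh F) M} {W : Submodule F M} {g : Gh F}
    (h : ∀ w ∈ W, ρ g w ∈ W) : g ∈ St ρ W := by
  intro w
  refine ⟨fun hw => ?_, h w⟩
  have h1 : W.map (ρ g) = W := by
    apply Submodule.eq_of_le_of_finrank_eq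
    · rintro _ ⟨v, hv, rfl⟩
      exact h v hv
    · refine LinearEquiv.finrank_eq (LinearEquiv.symm (Submodule.equivMapOfInjective (ρ g) ?_ W))
      intro a b hab
      rw [← ρ_inv ρ g a, hab, ρ_inv]
  have h2 : ρ g w ∈ W.map (ρ g) := by rw [h1]; exact hw
  obtain ⟨v, hv, hvw⟩ := h2
  rw [← ρ_inv ρ g w, ← hvw, ρ_inv]
  exact hv

variable {H : Subgroup ↥(chevE7.group F)}

theorem comap_le_St {ρ : Representation F (Gh F) M} {W : Submodule F M} (hW : Stab ρ H W) :
    H.comap (ad F) ≤ St ρ W := by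
  intro g hg w
  constructor
  · intro h
    have h1 := hW g⁻¹ (by rw [map_inv]; exact inv_mem hg) _ h
    rwa [ρ_inv] at h1
  · exact hW g hg w

/-- the stabilizer of a proper non-zero `H`-stable subspace -/
theorem St_eq (hM : IsCoatom H) {ρ : Representation F (Gh F) M} (hρ : Irr ρ)
    {W : Submodule F M} (hW : Stab ρ H W) (h0 : W ≠ ⊥) (h1 : W ≠ ⊤) : St ρ W = H.comap (ad F) := by
  have h2 := comap_le_St hW
  have h3 : H ≤ (St ρ W).map (ad F) := by
    intro h hh
    obtain ⟨g, rfl⟩ := ad_surjective h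
    exact ⟨g, h2 hh, rfl⟩
  have hker : ∀ g, ad F g = 1 → g ∈ St ρ W := fun g hg => h2 (by rw [Subgroup.mem_comap, hg]; exact one_mem _)
  rcases eq_or_lt_of_le h3 with h4 | h4
  · refine le_antisymm (fun g hg => ?_) h2
    rw [Subgroup.mem_comap, h4]
    exact ⟨g, hg, rfl⟩
  · exfalso
    apply h1
    have h5 : (St ρ W).map (ad F) = ⊤ := hM.2 _ h4
    have h6 : ∀ g, g ∈ St ρ W := by
      intro g
      have h7 : ad F g ∈ (St ρ W).map (ad F) := by rw [h5]; trivial
      obtain ⟨s, hs, hs'⟩ := h7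
      have h8 : s⁻¹ * g ∈ St ρ W := hker _ (by rw [map_mul, map_inv, hs', inv_mul_cancel])
      have h9 := mul_mem hs h8
      rwa [mul_inv_cancel_left] at h9
    exact hρ W (fun g w hw => (h6 g w).2 hw) h0

/-- **blueprint lemma** -/
theorem blue_of (hM : IsCoatom H) [FiniteDimensional F M] {ρ : Representation F (Gh F) M} (hρ : Irr ρ)
    {W : Submodule F M} (hW : Stab ρ H W) (h0 : W ≠ ⊥) (h1 : W ≠ ⊤) {g : Gh F} (hg : ∀ w ∈ W, ρ g w ∈ W) :
    ad F g ∈ H := by
  have h2 := mem_St_of hg
  rw [St_eq hM hρ hW h0 h1] at h2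
  exact h2

/-- **blueprint lemma** for the 56-dimensional module -/
theorem blue (hM : IsCoatom H) {W : Submodule F (D1 → F)} (hW : Stab (V F) H W) (h0 : W ≠ ⊥) (h1 : W ≠ ⊤)
    {g : Gh F} (hg : ∀ w ∈ W, V F g w ∈ W) : ad F g ∈ H :=
  blue_of hM irrV hW h0 h1 hg

/-- the diagonal representation on `k`-tuples -/
noncomputable def rk (k : ℕ) (ρ : Representation F (Gh F) M) : Representation F (Gh F) (Fin k → M) where
  toFun g := { toFun := fun b i => ρ g (b i)
               map_add' := fun b c => by funext i; exact map_add (ρ g) _ _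
               map_smul' := fun t b => by funext i; exact map_smul (ρ g) _ _ }
  map_one' := by
    refine LinearMap.ext fun b => ?_
    funext i
    show ρ 1 (b i) = b i
    rw [map_one]; rfl
  map_mul' g h := by
    refine LinearMap.ext fun b => ?_
    funext i
    show ρ (g * h) (b i) = ρ g (ρ h (b i))
    rw [map_mul]; rfl

theorem rk_apply (k : ℕ) (ρ : Representation F (Gh F) M) (g : Gh F) (b : Fin k → M) (i : Fin k) :
    rk k ρ g b i = ρ g (b i) := rfl

/-- counting the bases of `W` -/
theorem count_sub [Finite F] [FiniteDimensional F M] (hM : IsCoatom H) {ρ : Representation F (Gh F) M} (hρ : Irr ρ)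
    {W : Submodule F M} (hW : Stab ρ H W) {k : ℕ} (hk : finrank F ↥W = k) (h1 : 1 ≤ k) (h27 : k < finrank F M) :
    (∏ i : Fin k, (Nat.card F ^ k - Nat.card F ^ i.val)) * Nat.card ↥(chevE7.group F) ≤
      Nat.card ↥H * Nat.card F ^ (finrank F M * k) := by
  classical
  have hbot : W ≠ ⊥ := by
    rintro rfl
    rw [finrank_bot] at hk
    omega
  have htop : W ≠ ⊤ := by
    rintro rfl
    rw [finrank_top] at hk
    omega
  have hSt := St_eq hM hρ hW hbot htop
  have hfinF := Fintype.ofFinite F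
  have hfinM : Finite M := Module.finite_of_finite F
  have hfinFk : FiniteDimensional F (Fin k → M) := inferInstance
  -- the set of bases
  set S : Set (Fin k → M) := Set.range fun s : {s : Fin k → ↥W // LinearIndependent F s} =>
    fun i => ((s.1 i : ↥W) : M) with hS
  have hinj : Function.Injective fun s : {s : Fin k → ↥W // LinearIndependent F s} =>
      (fun i => ((s.1 i : ↥W) : M) : Fin k → M) := by
    intro s s' h
    apply Subtype.ext
    funext i
    exact Subtype.ext (congrFun h i)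
  have hcardS : Nat.card S = ∏ i : Fin k, (Nat.card F ^ k - Nat.card F ^ i.val) := by
    rw [Nat.card_congr (Equiv.ofInjective _ hinj).symm]
    have := card_linearIndependent (K := F) (V := ↥W) (k := k) (le_of_eq hk.symm)
    rw [this, hk]
    simp only [Nat.card_eq_fintype_card]
  have hspan : ∀ s : {s : Fin k → ↥W // LinearIndependent F s},
      Submodule.span F (Set.range fun i => ((s.1 i : ↥W) : M)) = W := by
    intro s
    have hne : Nonempty (Fin k) := ⟨⟨0, h1⟩⟩
    have h2 : Submodule.span F (Set.range s.1) = ⊤ :=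
      s.2.span_eq_top_of_card_eq_finrank (by rw [Fintype.card_fin, hk])
    have h3 : (Set.range fun i => ((s.1 i : ↥W) : M)) = W.subtype '' Set.range s.1 := by
      rw [← Set.range_comp]; rfl
    rw [h3, ← Submodule.map_span, h2, Submodule.map_top, Submodule.range_subtype]
  have hcount := Cfsg.Agent.H952.F4.MaxA.count (ρ := rk k ρ) (H.comap (ad F)) S (by
    rintro ⟨s, hs⟩
    have h2 : s.1 ⟨0, h1⟩ = 0 := Subtype.ext (congrFun hs ⟨0, h1⟩)
    exact s.2.ne_zero _ h2) (by
    rintro _ ⟨s, rfl⟩ _ ⟨s', rfl⟩ x hx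
    rw [← hSt]
    have key : ∀ w ∈ W, ρ x w ∈ W := by
      intro w hw
      rw [← hspan s] at hw
      induction hw using Submodule.span_induction with
      | mem y hy =>
        obtain ⟨i, rfl⟩ := hy
        have h2 := congrFun hx i
        rw [rk_apply] at h2
        show ρ x (s.1 i : M) ∈ W
        rw [h2]
        exact (s'.1 i).2
      | zero => rw [map_zero]; exact zero_mem _
      | add y z _ _ hy hz => rw [map_add]; exact add_mem hy hz
      | smul t y _ hy => rw [map_smul]; exact W.smul_mem t hy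
    exact mem_St_of key)
  have hfr : finrank F (Fin k → M) = finrank F M * k := by
    rw [finrank_pi_fintype, Finset.sum_const, Finset.card_univ, Fintype.card_fin, smul_eq_mul, mul_comm]
  rw [hcardS, hfr] at hcount
  set s := ∏ i : Fin k, (Nat.card F ^ k - Nat.card F ^ i.val) with hs
  set X := Nat.card F ^ (finrank F M * k) with hX
  have e1 := Subgroup.card_mul_index (H.comap (ad F))
  have e2 := Subgroup.card_mul_index H
  rw [Subgroup.index_comap_of_surjective H ad_surjective] at e1
  have hpos : 0 < Nat.card ↥(H.comap (ad F)) := Nat.card_pos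
  have h4 : s * H.index ≤ X := by
    have h5 : Nat.card ↥(H.comap (ad F)) * (s * H.index) ≤ Nat.card ↥(H.comap (ad F)) * X := by
      calc Nat.card ↥(H.comap (ad F)) * (s * H.index) = s * (Nat.card ↥(H.comap (ad F)) * H.index) := by ring
        _ = s * Nat.card (Gh F) := by rw [e1]
        _ ≤ Nat.card ↥(H.comap (ad F)) * (X - 1) := hcount
        _ ≤ _ := Nat.mul_le_mul_left _ (Nat.sub_le _ _)
    exact Nat.le_of_mul_le_mul_left h5 hpos
  calc s * Nat.card ↥(chevE7.group F) = Nat.card ↥H * (s * H.index) := by rw [← e2]; ring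
    _ ≤ Nat.card ↥H * X := Nat.mul_le_mul_left _ h4

end irr

theorem finrank_V : finrank F (D1 → F) = 56 := by
  rw [finrank_fintype_fun_eq_card]
  decide +kernel

/-! ### the maximal subgroup -/

variable {H : Subgroup ↥(chevE7.group F)} {n : ℕ} {φ : ↥(alternatingGroup (Fin n)) →* ↥(chevE7.group F)}

theorem alt_nonab (hn : 5 ≤ n) : ∃ a b : ↥(alternatingGroup (Fin n)), a * b ≠ b * a := by
  by_contra hcon
  push Not at hcon
  have h4 : 4 ≤ Nat.card (Fin n) := by rw [Nat.card_eq_fintype_card, Fintype.card_fin]; omega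
  have h1 := alternatingGroup.center_eq_bot h4
  have h2 : Subgroup.center ↥(alternatingGroup (Fin n)) = ⊤ := by
    rw [eq_top_iff]
    intro x _
    rw [Subgroup.mem_center_iff]
    intro y
    exact hcon y x
  have h3 : Nontrivial ↥(alternatingGroup (Fin n)) :=
    alternatingGroup.nontrivial_of_three_le_card (by rw [Nat.card_eq_fintype_card, Fintype.card_fin]; omega)
  rw [h1] at h2
  exact bot_ne_top h2

/-- the centralizer of the alternating group is trivial -/
theorem centralizer_eq (hM : MaxAlt H n φ) (hn : 5 ≤ n) {z : ↥(chevE7.group F)} (hz : ∀ a, φ a * z = z * φ a) :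
    z = 1 := by
  have hs : IsSimpleGroup ↥(chevE7.group F) := simpleE7
  set C : Subgroup ↥(chevE7.group F) := Subgroup.centralizer (φ.range : Set ↥(chevE7.group F)) with hC
  have memC : ∀ x, x ∈ C ↔ ∀ a, φ a * x = x * φ a := by
    intro x
    rw [hC, Subgroup.mem_centralizer_iff]
    constructor
    · intro h a; exact h _ ⟨a, rfl⟩
    · rintro h _ ⟨a, rfl⟩; exact h a
  obtain ⟨a, b, hab⟩ := alt_nonab hn
  have hCn : ∀ h ∈ H, ∀ c ∈ C, h * c * h⁻¹ ∈ C := by
    intro h hh c hc
    rw [memC] at hc ⊢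
    intro a
    obtain ⟨a', ha'⟩ := hM.norm h⁻¹ (inv_mem hh) (φ a) ⟨a, rfl⟩
    rw [inv_inv] at ha'
    have h1 := hc a'
    rw [ha'] at h1
    calc φ a * (h * c * h⁻¹) = h * ((h⁻¹ * φ a * h) * c) * h⁻¹ := by group
      _ = h * (c * (h⁻¹ * φ a * h)) * h⁻¹ := by rw [h1]
      _ = h * c * h⁻¹ * φ a := by group
  have hCH : C ≤ H := by
    by_contra hcon
    have h1 : H ⊔ C = ⊤ := by
      apply hM.coatom.2
      refine lt_of_le_of_ne le_sup_left fun h => hcon ?_
      rw [h]; exact le_sup_right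
    have h2 : φ.range.Normal := by
      constructor
      intro x hx g
      have hg : g ∈ H ⊔ C := by rw [h1]; trivial
      have h3 : ∀ g ∈ H ⊔ C, ∀ x ∈ φ.range, g * x * g⁻¹ ∈ φ.range := by
        intro g hg
        rw [Subgroup.sup_eq_closure] at hg
        induction hg using Subgroup.closure_induction with
        | mem y hy =>
          intro x hx
          rcases hy with hy | hy
          · exact hM.norm y hy x hx
          · obtain ⟨a, rfl⟩ := hx
            have := (memC y).1 hy a
            rw [← this, mul_inv_cancel_right]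
            exact ⟨a, rfl⟩
        | one => intro x hx; simpa using hx
        | mul y z _ _ hy hz =>
          intro x hx
          have := hy _ (hz x hx)
          have e : y * (z * x * z⁻¹) * y⁻¹ = y * z * x * (y * z)⁻¹ := by group
          rwa [e] at this
        | inv y hy hy' =>
          -- conjugation by `y` maps the finite group `φ.range` onto itself
          intro x hx
          have hinj : Function.Injective fun x : φ.range => (⟨y * x.1 * y⁻¹, hy' x.1 x.2⟩ : φ.range) := by
            intro x x' h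
            have h4 := congrArg Subtype.val h
            apply Subtype.ext
            simpa using h4
          have hfin : Finite φ.range := Finite.of_surjective φ.rangeRestrict φ.rangeRestrict_surjective
          obtain ⟨x', hx'⟩ := Finite.surjective_of_injective hinj ⟨x, hx⟩
          have h5 : y * x'.1 * y⁻¹ = x := congrArg Subtype.val hx'
          have h6 : y⁻¹ * x * y⁻¹⁻¹ = x'.1 := by rw [← h5]; group
          rw [h6]
          exact x'.2
      exact h3 g hg x hx
    rcases h2.eq_bot_or_eq_top with h3 | h3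
    · apply hab
      apply hM.inj
      have h4 : ∀ a, φ a = 1 := fun a => by
        have : φ a ∈ φ.range := ⟨a, rfl⟩
        rwa [h3, Subgroup.mem_bot] at this
      rw [h4, h4]
    · exact hM.coatom.1 (top_le_iff.1 (h3 ▸ hM.le))
  have hbot : C = ⊥ := by
    by_contra hcon
    have h1 := hM.min C hCH hCn hcon
    apply hab
    apply hM.inj
    rw [map_mul, map_mul]
    exact (memC _).1 (h1 ⟨b, rfl⟩) a
  have h1 : z ∈ C := (memC z).2 hz
  rwa [hbot, Subgroup.mem_bot] at h1

/-! ### orders -/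

section card

variable [Finite F]

theorem two_le_card : 2 ≤ Nat.card F := by
  have : Nontrivial F := inferInstance
  exact Finite.one_lt_card

theorem card_le (hM : MaxAlt H n φ) (hn' : n ≤ 14) : Nat.card ↥H ≤ 87178291200 := by
  refine hM.card.trans ?_
  split_ifs
  · norm_num
  · exact (Nat.factorial_le hn').trans (by decide +kernel)

/-- lower bound for the order of `E₇(q)` -/
theorem order_ge : Nat.card F ^ 132 ≤ 4 * Nat.card ↥(chevE7.group F) := by
  have hq := two_le_card (F := F)
  have ho := order (K := F)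
  set q := Nat.card F with hqdef
  have hg : Nat.gcd 2 (q - 1) ≤ 2 := Nat.gcd_le_left _ (by norm_num)
  have key : ∀ a, 2 ^ a * (q ^ a - 1) ≥ (2 ^ a - 1) * q ^ a := by
    intro a
    have h4 : 2 ^ a ≤ q ^ a := Nat.pow_le_pow_left hq a
    have h5 : 1 ≤ 2 ^ a := Nat.one_le_pow _ _ (by norm_num)
    rw [Nat.mul_sub, Nat.sub_mul, mul_one, one_mul]
    omega
  have k2 := key 2
  have k6 := key 6
  have k8 := key 8
  have k10 := key 10
  have k12 := key 12
  have k14 := key 14
  have k18 := key 18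
  set N := Nat.card ↥(chevE7.group F) with hN
  have h1 : q ^ 63 * (q ^ 2 - 1) * (q ^ 6 - 1) * (q ^ 8 - 1) * (q ^ 10 - 1) * (q ^ 12 - 1) * (q ^ 14 - 1) *
      (q ^ 18 - 1) ≤ 2 * N := by
    rw [← ho]; exact Nat.mul_le_mul_right _ hg
  have h2 : (2 ^ 70 * 2) * N ≥ (2 ^ 2 - 1) * (2 ^ 6 - 1) * (2 ^ 8 - 1) * (2 ^ 10 - 1) * (2 ^ 12 - 1) * (2 ^ 14 - 1) *
      (2 ^ 18 - 1) * q ^ 133 := by
    calc (2 ^ 70 * 2) * N = 2 ^ 70 * (2 * N) := by ring
      _ ≥ 2 ^ 70 * (q ^ 63 * (q ^ 2 - 1) * (q ^ 6 - 1) * (q ^ 8 - 1) * (q ^ 10 - 1) * (q ^ 12 - 1) * (q ^ 14 - 1) *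
          (q ^ 18 - 1)) := Nat.mul_le_mul_left _ h1
      _ = q ^ 63 * (2 ^ 2 * (q ^ 2 - 1)) * (2 ^ 6 * (q ^ 6 - 1)) * (2 ^ 8 * (q ^ 8 - 1)) * (2 ^ 10 * (q ^ 10 - 1)) *
          (2 ^ 12 * (q ^ 12 - 1)) * (2 ^ 14 * (q ^ 14 - 1)) * (2 ^ 18 * (q ^ 18 - 1)) := by ring
      _ ≥ q ^ 63 * ((2 ^ 2 - 1) * q ^ 2) * ((2 ^ 6 - 1) * q ^ 6) * ((2 ^ 8 - 1) * q ^ 8) *
          ((2 ^ 10 - 1) * q ^ 10) * ((2 ^ 12 - 1) * q ^ 12) * ((2 ^ 14 - 1) * q ^ 14) * ((2 ^ 18 - 1) * q ^ 18) := by
        gcongr
      _ = _ := by ring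
  have h3 : q ^ 133 = q ^ 132 * q := pow_succ q 132
  have h4 : q ^ 132 * 2 ≤ q ^ 133 := by rw [h3]; exact Nat.mul_le_mul_left _ hq
  norm_num at h2
  omega

/-- no stable line -/
theorem no_line (hM : MaxAlt H n φ) (hn' : n ≤ 14) {W : Submodule F (D1 → F)} (hW : Stab (V F) H W) :
    finrank F ↥W ≠ 1 := by
  intro h1
  have h2 := count_sub hM.coatom irrV hW h1 le_rfl (by rw [finrank_V]; norm_num)
  have h3 := card_le hM hn'
  have hq := two_le_card (F := F)
  have h4 := order_ge (F := F)
  rw [finrank_V] at h2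
  simp only [Finset.univ_unique, Fin.default_eq_zero, Fin.val_zero, Finset.prod_singleton, pow_one, pow_zero, mul_one]
    at h2
  have h5 : 1 * Nat.card ↥(chevE7.group F) ≤ (Nat.card F - 1) * Nat.card ↥(chevE7.group F) :=
    Nat.mul_le_mul_right _ (by omega)
  have h6 : Nat.card ↥H * Nat.card F ^ 56 ≤ 87178291200 * Nat.card F ^ 56 := Nat.mul_le_mul_right _ h3
  have h7 : Nat.card F ^ 132 = Nat.card F ^ 76 * Nat.card F ^ 56 := by rw [← pow_add]
  have h8 : 2 ^ 76 ≤ Nat.card F ^ 76 := Nat.pow_le_pow_left hq 76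
  have h9 : 2 ^ 76 * Nat.card F ^ 56 ≤ Nat.card F ^ 132 := by rw [h7]; exact Nat.mul_le_mul_right _ h8
  have h10 : 0 < Nat.card F ^ 56 := by positivity
  norm_num at h9
  omega

/-- sharper lower bound -/
theorem order_ge' : Nat.card F ^ 137 < 4 * ((Nat.card F ^ 2 - 1) * (Nat.card F ^ 2 - Nat.card F) *
    Nat.card ↥(chevE7.group F)) := by
  have hq := two_le_card (F := F)
  have ho := order (K := F)
  set q := Nat.card F with hqdef
  set N := Nat.card ↥(chevE7.group F) with hN
  rcases eq_or_lt_of_le hq with h2 | h3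
  · rw [← h2] at ho ⊢
    norm_num at ho ⊢
    rw [ho]
    norm_num
  have hg : Nat.gcd 2 (q - 1) ≤ 2 := Nat.gcd_le_left _ (by norm_num)
  have key : ∀ a, 3 ^ a * (q ^ a - 1) ≥ (3 ^ a - 1) * q ^ a := by
    intro a
    have h4 : 3 ^ a ≤ q ^ a := Nat.pow_le_pow_left h3 a
    have h5 : 1 ≤ 3 ^ a := Nat.one_le_pow _ _ (by norm_num)
    rw [Nat.mul_sub, Nat.sub_mul, mul_one, one_mul]
    omega
  have k1 := key 1
  have k2 := key 2
  have k6 := key 6
  have k8 := key 8
  have k10 := key 10
  have k12 := key 12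
  have k14 := key 14
  have k18 := key 18
  have h1 : q ^ 63 * (q ^ 2 - 1) * (q ^ 6 - 1) * (q ^ 8 - 1) * (q ^ 10 - 1) * (q ^ 12 - 1) * (q ^ 14 - 1) *
      (q ^ 18 - 1) ≤ 2 * N := by
    rw [← ho]; exact Nat.mul_le_mul_right _ hg
  have e1 : q ^ 2 - q = q * (q ^ 1 - 1) := by
    rw [Nat.mul_sub, mul_one]; ring_nf
  have h2 : (3 ^ 73 * 2) * ((q ^ 2 - 1) * (q ^ 2 - q) * N) ≥ (3 ^ 2 - 1) * (3 ^ 1 - 1) * ((3 ^ 2 - 1) * (3 ^ 6 - 1) *
      (3 ^ 8 - 1) * (3 ^ 10 - 1) * (3 ^ 12 - 1) * (3 ^ 14 - 1) * (3 ^ 18 - 1)) * q ^ 137 := by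
    calc (3 ^ 73 * 2) * ((q ^ 2 - 1) * (q ^ 2 - q) * N) = 3 ^ 73 * ((q ^ 2 - 1) * (q ^ 2 - q)) * (2 * N) := by ring
      _ ≥ 3 ^ 73 * ((q ^ 2 - 1) * (q ^ 2 - q)) *
          (q ^ 63 * (q ^ 2 - 1) * (q ^ 6 - 1) * (q ^ 8 - 1) * (q ^ 10 - 1) * (q ^ 12 - 1) * (q ^ 14 - 1) *
          (q ^ 18 - 1)) := Nat.mul_le_mul_left _ h1
      _ = (3 ^ 2 * (q ^ 2 - 1)) * (q * (3 ^ 1 * (q ^ 1 - 1))) *
          (q ^ 63 * (3 ^ 2 * (q ^ 2 - 1)) * (3 ^ 6 * (q ^ 6 - 1)) * (3 ^ 8 * (q ^ 8 - 1)) * (3 ^ 10 * (q ^ 10 - 1)) *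
          (3 ^ 12 * (q ^ 12 - 1)) * (3 ^ 14 * (q ^ 14 - 1)) * (3 ^ 18 * (q ^ 18 - 1))) := by rw [e1]; ring
      _ ≥ ((3 ^ 2 - 1) * q ^ 2) * (q * ((3 ^ 1 - 1) * q ^ 1)) *
          (q ^ 63 * ((3 ^ 2 - 1) * q ^ 2) * ((3 ^ 6 - 1) * q ^ 6) * ((3 ^ 8 - 1) * q ^ 8) *
          ((3 ^ 10 - 1) * q ^ 10) * ((3 ^ 12 - 1) * q ^ 12) * ((3 ^ 14 - 1) * q ^ 14) * ((3 ^ 18 - 1) * q ^ 18)) := by
        gcongr
      _ = _ := by ring
  have hpos : 0 < q ^ 137 := by positivity
  norm_num at h2
  omega

/-- no stable plane -/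
theorem no_plane_of (hM : IsCoatom H) (hq8 : 4 * Nat.card ↥H ≤ Nat.card F ^ 25)
    {W : Submodule F (D1 → F)} (hW : Stab (V F) H W) : finrank F ↥W ≠ 2 := by
  intro h1
  have h2 := count_sub hM irrV hW h1 (by norm_num) (by rw [finrank_V]; norm_num)
  have hq := two_le_card (F := F)
  have h4 := order_ge' (F := F)
  rw [finrank_V] at h2
  simp only [Fin.prod_univ_two, Fin.val_zero, Fin.val_one, pow_zero, pow_one] at h2
  have h5 : Nat.card F ^ 137 = Nat.card F ^ 25 * Nat.card F ^ (56 * 2) := by rw [← pow_add]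
  have h6 : 4 * Nat.card ↥H * Nat.card F ^ (56 * 2) ≤ Nat.card F ^ 25 * Nat.card F ^ (56 * 2) :=
    Nat.mul_le_mul_right _ hq8
  rw [mul_assoc, ← h5] at h6
  omega

theorem no_plane (hM : MaxAlt H n φ) (hn' : n ≤ 14) (hq : 3 ≤ Nat.card F ∨ n ≤ 10)
    {W : Submodule F (D1 → F)} (hW : Stab (V F) H W) : finrank F ↥W ≠ 2 := by
  refine no_plane_of hM.coatom ?_ hW
  rcases hq with hq | hq
  · have h1 := card_le hM hn'
    have h2 : 3 ^ 25 ≤ Nat.card F ^ 25 := Nat.pow_le_pow_left hq 25
    norm_num at h2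
    omega
  · have h1 : Nat.card ↥H ≤ 3628800 := by
      refine hM.card.trans ?_
      split_ifs
      · norm_num
      · exact (Nat.factorial_le hq).trans (by decide +kernel)
    have h2 : 2 ^ 25 ≤ Nat.card F ^ 25 := Nat.pow_le_pow_left two_le_card 25
    norm_num at h2
    omega

/-- non-zero stable subspaces have dimension at least 3 -/
theorem three_le (hM : MaxAlt H n φ) (hn' : n ≤ 14) (hq : 3 ≤ Nat.card F ∨ n ≤ 10)
    {W : Submodule F (D1 → F)} (hW : Stab (V F) H W) (h0 : W ≠ ⊥) : 3 ≤ finrank F ↥W := by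
  have h1 := no_line hM hn' hW
  have h2 := no_plane hM hn' hq hW
  have h3 : finrank F ↥W ≠ 0 := fun h => h0 (Submodule.finrank_eq_zero.1 h)
  omega

/-! ### fixed vectors -/

theorem card_alt (hn : 5 ≤ n) : 2 * Nat.card ↥(alternatingGroup (Fin n)) = n.factorial := by
  have : Nontrivial (Fin n) := Fin.nontrivial_iff_two_le.2 (by omega)
  rw [two_mul_nat_card_alternatingGroup, Nat.card_perm, Nat.card_eq_fintype_card, Fintype.card_fin]

/-- at most four cosets -/
theorem four_cosets (hM : MaxAlt H n φ) (hn : 5 ≤ n) (g : Fin 5 → ↥(chevE7.group F)) (hg : ∀ i, g i ∈ H)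
    (h : ∀ i j, i < j → (g i)⁻¹ * g j ∉ φ.range) : False := by
  have hH : Finite ↥H := inferInstance
  have h' : ∀ i j, i ≠ j → (g i)⁻¹ * g j ∉ φ.range := by
    intro i j hij
    rcases lt_or_gt_of_ne hij with h1 | h1
    · exact h i j h1
    · intro h2
      apply h j i h1
      have h3 := inv_mem h2
      rwa [mul_inv_rev, inv_inv] at h3
  let f : Fin 5 × ↥(alternatingGroup (Fin n)) → ↥H := fun x => ⟨g x.1 * φ x.2, mul_mem (hg _) (hM.le ⟨x.2, rfl⟩)⟩
  have hf : Function.Injective f := by
    rintro ⟨i, a⟩ ⟨j, b⟩ hab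
    have h1 : g i * φ a = g j * φ b := congrArg Subtype.val hab
    have h2 : (g i)⁻¹ * g j = φ (a * b⁻¹) := by
      rw [map_mul, map_inv, inv_mul_eq_iff_eq_mul, ← mul_assoc, h1, mul_inv_cancel_right]
    have hij : i = j := by
      by_contra hne
      exact h' i j hne ⟨_, h2.symm⟩
    subst hij
    have h3 := hM.inj (mul_left_cancel h1)
    rw [h3]
  have h1 := Nat.card_le_card_of_injective f hf
  rw [Nat.card_prod, Nat.card_eq_fintype_card (α := Fin 5), Fintype.card_fin] at h1
  have h2 := card_alt hn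
  have h3 := hM.card
  have h4 : 0 < Nat.card ↥(alternatingGroup (Fin n)) := Nat.card_pos
  split_ifs at h3 with h6
  · subst h6
    have h7 : Nat.factorial 6 = 720 := rfl
    omega
  · omega

section nofix

variable (hM : MaxAlt H n φ) (hn : 5 ≤ n) (hn' : n ≤ 14)

include hM hn hn' in
/-- the heart of `no_fixed` -/
theorem no_fixed_aux {W : Submodule F (D1 → F)} (hW0 : W ≠ ⊥)
    (hst : ∀ x ∈ H.comap (ad F), ∀ w ∈ W, V F x w ∈ W)
    (hscal : ∀ g, ad F g ∈ φ.range → (∀ w ∈ W, V F g w = w) ∨ ∀ w ∈ W, V F g w = -w) : False := by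
  classical
  set Ĥ : Subgroup (Gh F) := H.comap (ad F) with hH
  have hmul : ∀ (x y : Gh F) (w : D1 → F), V F (x * y) w = V F x (V F y w) := V_mul
  have hsq : ∀ x ∈ Ĥ, (∀ w ∈ W, V F x (V F x w) = w) ∨ ∀ w ∈ W, V F x (V F x w) = -w := by
    intro x hx
    rcases hscal (x * x) (by rw [map_mul]; exact hM.sq _ hx) with h | h
    · exact Or.inl fun w hw => by rw [← hmul]; exact h w hw
    · exact Or.inr fun w hw => by rw [← hmul]; exact h w hw
  by_cases h2 : (2 : F) = 0
  · -- characteristic 2
    have hneg : ∀ w : D1 → F, -w = w := by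
      intro w
      funext a
      rw [Pi.neg_apply]
      linear_combination (-w a) * h2
    obtain ⟨w, hw, hw0, hw'⟩ := Cfsg.Agent.H952.F4.MaxA.exists_line (ρ := V F) Ĥ W hW0 hst (fun x hx w hw => by
      rcases hsq x hx with h | h
      · exact h w hw
      · rw [h w hw, hneg])
    refine no_line hM hn' (W := Submodule.span F {w}) ?_ (finrank_span_singleton hw0)
    intro g hg v hv
    obtain ⟨t, rfl⟩ := Submodule.mem_span_singleton.1 hv
    rw [map_smul]
    refine Submodule.smul_mem _ _ ?_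
    rcases hw' g hg with h | h
    · rw [h]; exact Submodule.mem_span_singleton_self w
    · rw [h]; exact neg_mem (Submodule.mem_span_singleton_self w)
  -- odd characteristic
  have hq3 : 3 ≤ Nat.card F := by
    have hq := two_le_card (F := F)
    by_contra hlt
    have h3 : Nat.card F = 2 := by omega
    apply h2
    have := Fintype.ofFinite F
    have h4 : ((Nat.card F : ℕ) : F) = 0 := by
      rw [Nat.card_eq_fintype_card]; exact Nat.cast_card_eq_zero F
    rw [h3] at h4
    exact_mod_cast h4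
  obtain ⟨w1, hw1, hw10⟩ := Submodule.exists_mem_ne_zero_of_ne_bot hW0
  have hself : ∀ w : D1 → F, w = -w → w = 0 := by
    intro w h
    funext a
    have h3 := congrFun h a
    rw [Pi.neg_apply] at h3
    have h4 : 2 * w a = 0 := by linear_combination h3
    exact (mul_eq_zero.1 h4).resolve_left h2
  -- the contradiction: no small stable subspace
  have hfin : ∀ w ∈ W, w ≠ 0 → ∀ u ∈ W, (∀ x ∈ Ĥ, V F x w ∈ Submodule.span F {w, u} ∧ V F x u ∈ Submodule.span F {w, u}) →
      False := by
    intro w hw hw0 u hu h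
    have hU : Stab (V F) H (Submodule.span F {w, u}) := by
      intro x hx v hv
      rw [Submodule.mem_span_pair] at hv
      obtain ⟨a, b, rfl⟩ := hv
      obtain ⟨h3, h4⟩ := h x hx
      rw [map_add, map_smul, map_smul]
      exact add_mem (Submodule.smul_mem _ _ h3) (Submodule.smul_mem _ _ h4)
    have hne : Submodule.span F {w, u} ≠ ⊥ := by
      intro h3
      apply hw0
      have h4 : w ∈ Submodule.span F {w, u} := Submodule.subset_span (by simp)
      rw [h3] at h4
      exact (Submodule.mem_bot F).1 h4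
    have h3 := three_le hM hn' (Or.inl hq3) hU hne
    have h4 : finrank F ↥(Submodule.span F ((({w, u} : Finset (D1 → F)) : Finset (D1 → F)) : Set (D1 → F))) ≤
        ({w, u} : Finset (D1 → F)).card := finrank_span_finset_le_card _
    have h5 : ({w, u} : Finset (D1 → F)).card ≤ 2 := Finset.card_le_two
    rw [Finset.coe_pair] at h4
    omega
  have hcomm : ∀ x ∈ Ĥ, ∀ y ∈ Ĥ, (∀ w ∈ W, V F x (V F y w) = V F y (V F x w)) ∨
      ∀ w ∈ W, V F x (V F y w) = - V F y (V F x w) := by
    intro x hx y hy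
    -- `x y = (x y)² y⁻¹ x⁻¹`
    have h3 : ∀ w ∈ W, V F x (V F y (V F x (V F y w))) = V F (x * y) (V F (x * y) w) := by
      intro w _
      rw [hmul, hmul]
    have hxy := hsq (x * y) (mul_mem hx hy)
    have hx2 := hsq x hx
    have hy2 := hsq y hy
    have e : ∀ w ∈ W, V F (x * y) (V F (x * y) (V F y (V F x w))) = V F x (V F y (V F x (V F y (V F y (V F x w))))) := by
      intro w _
      rw [hmul, hmul]
    rcases hxy with h | h <;> rcases hx2 with hx2 | hx2 <;> rcases hy2 with hy2 | hy2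
    all_goals
      first
      | (left
         intro w hw
         have h4 := e w hw
         rw [h _ (hst y hy _ (hst x hx w hw)), hy2 _ (hst x hx w hw)] at h4
         simp only [map_neg, hx2 w hw, _root_.neg_neg, neg_inj] at h4
         exact h4.symm)
      | (right
         intro w hw
         have h4 := e w hw
         rw [h _ (hst y hy _ (hst x hx w hw)), hy2 _ (hst x hx w hw)] at h4
         simp only [map_neg, hx2 w hw, _root_.neg_neg] at h4
         rw [h4]
         all_goals simp only [_root_.neg_neg])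
  by_cases hall : ∀ x ∈ Ĥ, ∀ y ∈ Ĥ, ∀ w ∈ W, V F x (V F y w) = V F y (V F x w)
  · -- Case I: everything commutes on `W`
    let K : Subgroup (Gh F) :=
      { carrier := {x | x ∈ Ĥ ∧ ∀ w ∈ W, V F x (V F x w) = w}
        one_mem' := ⟨one_mem _, fun w _ => by rw [V_one, V_one]⟩
        mul_mem' := by
          rintro x y ⟨hx, hx'⟩ ⟨hy, hy'⟩
          refine ⟨mul_mem hx hy, fun w hw => ?_⟩
          rw [hmul, hmul, hall y hy x hx _ (hst y hy w hw), hy' w hw, hx' w hw]
        inv_mem' := by
          rintro x ⟨hx, hx'⟩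
          refine ⟨inv_mem hx, fun w hw => ?_⟩
          have h1 : V F x⁻¹ w = V F x w := by
            conv_lhs => rw [← hx' w hw]
            rw [V_inv]
          rw [h1, V_inv] }
    obtain ⟨w, hw, hw0, hw'⟩ := Cfsg.Agent.H952.F4.MaxA.exists_line (ρ := V F) K W hW0 (fun x hx => hst x hx.1)
      (fun x hx => hx.2)
    by_cases hex : ∃ x0 ∈ Ĥ, ∀ w ∈ W, V F x0 (V F x0 w) = -w
    · obtain ⟨x0, hx0, hx0'⟩ := hex
      refine hfin w hw hw0 (V F x0 w) (hst x0 hx0 w hw) fun t ht => ?_
      have m1 : w ∈ Submodule.span F {w, V F x0 w} := Submodule.subset_span (by simp)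
      have m2 : V F x0 w ∈ Submodule.span F {w, V F x0 w} := Submodule.subset_span (by simp)
      rcases hsq t ht with h3 | h3
      · have h4 := hw' t ⟨ht, h3⟩
        rw [hall t ht x0 hx0 w hw]
        rcases h4 with h4 | h4
        · rw [h4]; exact ⟨m1, m2⟩
        · rw [h4, map_neg]; exact ⟨neg_mem m1, neg_mem m2⟩
      · have h4 : t * x0 ∈ K := by
          refine ⟨mul_mem ht hx0, fun v hv => ?_⟩
          rw [hmul, hmul, hall x0 hx0 t ht _ (hst x0 hx0 v hv), h3 _ (hst x0 hx0 _ (hst x0 hx0 v hv)), hx0' v hv,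
            _root_.neg_neg]
        have h5 := hw' _ h4
        rw [hmul] at h5
        have h6 : V F t w = - V F x0 (V F t (V F x0 w)) := by
          rw [hall t ht x0 hx0 w hw, hx0' _ (hst t ht w hw), _root_.neg_neg]
        rcases h5 with h5 | h5
        · rw [h6, h5]; exact ⟨neg_mem m2, m1⟩
        · rw [h6, h5, map_neg, _root_.neg_neg]; exact ⟨m2, neg_mem m1⟩
    · push Not at hex
      refine hfin w hw hw0 w hw fun t ht => ?_
      have m1 : w ∈ Submodule.span F {w, w} := Submodule.subset_span (by simp)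
      have h3 : ∀ v ∈ W, V F t (V F t v) = v := by
        rcases hsq t ht with h4 | h4
        · exact h4
        · obtain ⟨v, hv, hv'⟩ := hex t ht
          exact absurd (h4 v hv) hv'
      rcases hw' t ⟨ht, h3⟩ with h4 | h4
      · rw [h4]; exact ⟨m1, m1⟩
      · rw [h4]; exact ⟨neg_mem m1, neg_mem m1⟩
  · -- Case II
    push Not at hall
    obtain ⟨x, hx, y, hy, w0, hw0, hne⟩ := hall
    have hanti : ∀ w ∈ W, V F x (V F y w) = - V F y (V F x w) := by
      rcases hcomm x hx y hy with h | h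
      · exact absurd (h w0 hw0) hne
      · exact h
    -- no element of the preimage of `A` among the differences of cosets
    have hsc : ∀ g, ad F g ∈ φ.range → ∀ k ∈ Ĥ, ∀ w ∈ W, V F g (V F k w) = V F k (V F g w) := by
      intro g hg k hk w hw
      rcases hscal g hg with h | h
      · rw [h w hw, h _ (hst k hk w hw)]
      · rw [h w hw, h _ (hst k hk w hw), map_neg]
    have hyx : ∀ w ∈ W, V F y (V F x w) = - V F x (V F y w) := by
      intro w hw
      rw [hanti w hw, _root_.neg_neg]
    have nac : ∀ g, g ∈ Ĥ → ∀ k ∈ Ĥ, (∀ w ∈ W, V F g (V F k w) = - V F k (V F g w)) → ad F g ∉ φ.range := by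
      intro g hgH k hk hgk h
      apply hw10
      have h3 := hsc g h k hk w1 hw1
      rw [hgk w1 hw1] at h3
      have h4 := hself _ h3.symm
      rw [← V_inv g w1, ← V_inv k (V F g w1), h4, map_zero, map_zero]
    -- multiplication rules
    have acinv : ∀ g ∈ Ĥ, ∀ k ∈ Ĥ, (∀ w ∈ W, V F g (V F k w) = - V F k (V F g w)) →
        ∀ w ∈ W, V F g⁻¹ (V F k w) = - V F k (V F g⁻¹ w) := by
      intro g hg k hk h w hw
      have h3 := h _ (hst _ (inv_mem hg) w hw)
      rw [V_inv'] at h3
      have h4 : V F k w = V F g (- V F k (V F g⁻¹ w)) := by rw [map_neg, h3, _root_.neg_neg]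
      rw [h4, V_inv]
    have hac1 : ∀ w ∈ W, V F (x⁻¹ * y) (V F x w) = - V F x (V F (x⁻¹ * y) w) := by
      intro w hw
      rw [hmul, hmul, hyx w hw, map_neg, V_inv, V_inv']
    have hac2 : ∀ w ∈ W, V F (y⁻¹ * (x * y)) (V F y w) = - V F y (V F (y⁻¹ * (x * y)) w) := by
      intro w hw
      rw [hmul, hmul, hmul, hmul, hanti _ (hst y hy w hw), map_neg, V_inv, V_inv']
    have hac3 : ∀ w ∈ W, V F (x * y) (V F x w) = - V F x (V F (x * y) w) := by
      intro w hw
      rw [hmul, hmul, hyx w hw, map_neg]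
    have hfour : ∀ h ∈ Ĥ, ∃ k : Gh F, (k = 1 ∨ k = x ∨ k = y ∨ k = x * y) ∧
        ((∀ w ∈ W, V F h w = V F k w) ∨ ∀ w ∈ W, V F h w = - V F k w) := by
      intro h hh
      by_contra hcon
      push Not at hcon
      have hk : ∀ k, k ∈ Ĥ → (k = 1 ∨ k = x ∨ k = y ∨ k = x * y) → ad F (k⁻¹ * h) ∉ φ.range := by
        intro k hkH hk hr
        obtain ⟨⟨u, hu, hu'⟩, ⟨v, hv, hv'⟩⟩ := hcon k hk
        rcases hscal _ hr with h3 | h3
        · apply hu'
          have h4 := h3 u hu
          rw [hmul] at h4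
          nth_rewrite 2 [← h4]
          rw [V_inv']
        · apply hv'
          have h4 := h3 v hv
          rw [hmul] at h4
          have h5 : V F k (V F k⁻¹ (V F h v)) = V F k (-v) := by rw [h4]
          rw [V_inv', map_neg] at h5
          exact h5
      refine four_cosets hM hn ![1, ad F x, ad F y, ad F (x * y), ad F h] ?_ ?_
      · intro i
        fin_cases i
        · exact one_mem H
        · exact hx
        · exact hy
        · exact (mul_mem hx hy : x * y ∈ Ĥ)
        · exact hh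
      · have c01 : ad F x ∉ φ.range := nac x hx y hy hanti
        have c02 : ad F y ∉ φ.range := nac y hy x hx hyx
        have c03 : ad F (x * y) ∉ φ.range := nac _ (mul_mem hx hy) x hx hac3
        have c04 : ad F h ∉ φ.range := by
          have := hk 1 (one_mem _) (Or.inl rfl)
          rwa [inv_one, one_mul] at this
        have c12 : (ad F x)⁻¹ * ad F y ∉ φ.range := by
          rw [← map_inv, ← map_mul]
          exact nac _ (mul_mem (inv_mem hx) hy) x hx hac1
        have c13 : (ad F x)⁻¹ * ad F (x * y) ∉ φ.range := by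
          rw [map_mul, inv_mul_cancel_left]
          exact c02
        have c14 : (ad F x)⁻¹ * ad F h ∉ φ.range := by
          rw [← map_inv, ← map_mul]
          exact hk x hx (Or.inr (Or.inl rfl))
        have c23 : (ad F y)⁻¹ * ad F (x * y) ∉ φ.range := by
          rw [← map_inv, ← map_mul]
          exact nac _ (mul_mem (inv_mem hy) (mul_mem hx hy)) y hy hac2
        have c24 : (ad F y)⁻¹ * ad F h ∉ φ.range := by
          rw [← map_inv, ← map_mul]
          exact hk y hy (Or.inr (Or.inr (Or.inl rfl)))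
        have c34 : (ad F (x * y))⁻¹ * ad F h ∉ φ.range := by
          rw [← map_inv, ← map_mul]
          exact hk _ (mul_mem hx hy) (Or.inr (Or.inr (Or.inr rfl)))
        intro i j hij
        fin_cases i <;> fin_cases j <;> first | exact absurd hij (by decide) | skip
        · change (1 : ↥(chevE7.group F))⁻¹ * ad F x ∉ φ.range
          rw [inv_one, one_mul]; exact c01
        · change (1 : ↥(chevE7.group F))⁻¹ * ad F y ∉ φ.range
          rw [inv_one, one_mul]; exact c02
        · change (1 : ↥(chevE7.group F))⁻¹ * ad F (x * y) ∉ φ.range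
          rw [inv_one, one_mul]; exact c03
        · change (1 : ↥(chevE7.group F))⁻¹ * ad F h ∉ φ.range
          rw [inv_one, one_mul]; exact c04
        · exact c12
        · exact c13
        · exact c14
        · exact c23
        · exact c24
        · exact c34
    have hfin2 : ∀ w ∈ W, w ≠ 0 → ∀ u ∈ W, V F x w ∈ Submodule.span F {w, u} → V F x u ∈ Submodule.span F {w, u} →
        V F y w ∈ Submodule.span F {w, u} → V F y u ∈ Submodule.span F {w, u} → False := by
      intro w hw hw0 u hu h3 h4 h5 h6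
      have hxs : ∀ v ∈ Submodule.span F {w, u}, V F x v ∈ Submodule.span F {w, u} := by
        intro v hv
        rw [Submodule.mem_span_pair] at hv
        obtain ⟨a, b, rfl⟩ := hv
        rw [map_add, map_smul, map_smul]
        exact add_mem (Submodule.smul_mem _ _ h3) (Submodule.smul_mem _ _ h4)
      have hys : ∀ v ∈ Submodule.span F {w, u}, V F y v ∈ Submodule.span F {w, u} := by
        intro v hv
        rw [Submodule.mem_span_pair] at hv
        obtain ⟨a, b, rfl⟩ := hv
        rw [map_add, map_smul, map_smul]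
        exact add_mem (Submodule.smul_mem _ _ h5) (Submodule.smul_mem _ _ h6)
      have m1 : w ∈ Submodule.span F {w, u} := Submodule.subset_span (by simp)
      have m2 : u ∈ Submodule.span F {w, u} := Submodule.subset_span (by simp)
      refine hfin w hw hw0 u hu fun t ht => ?_
      obtain ⟨k, hk, hk'⟩ := hfour t ht
      have h7 : ∀ v ∈ Submodule.span F {w, u}, V F k v ∈ Submodule.span F {w, u} := by
        intro v hv
        rcases hk with rfl | rfl | rfl | rfl
        · rw [V_one]; exact hv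
        · exact hxs v hv
        · exact hys v hv
        · rw [hmul]; exact hxs _ (hys v hv)
      rcases hk' with h8 | h8
      · rw [h8 w hw, h8 u hu]; exact ⟨h7 w m1, h7 u m2⟩
      · rw [h8 w hw, h8 u hu]; exact ⟨neg_mem (h7 w m1), neg_mem (h7 u m2)⟩
    -- the case of an involution
    have hinv : ∀ x y : Gh F, x ∈ Ĥ → y ∈ Ĥ → (∀ w ∈ W, V F x (V F y w) = - V F y (V F x w)) →
        (∀ w ∈ W, V F y (V F y w) = w) → ∃ w ∈ W, w ≠ 0 ∧ V F y w = w := by
      intro x y hx hy hxy hy2
      by_cases h3 : V F y w1 + w1 = 0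
      · refine ⟨V F x w1, hst x hx w1 hw1, ?_, ?_⟩
        · intro h4
          apply hw10
          rw [← V_inv x w1, h4, map_zero]
        · have h4 := hxy w1 hw1
          rw [eq_neg_of_add_eq_zero_left h3, map_neg, neg_inj] at h4
          exact h4.symm
      · refine ⟨_, add_mem (hst y hy w1 hw1) hw1, h3, ?_⟩
        rw [map_add, hy2 w1 hw1, add_comm]
    rcases hsq y hy with hy2 | hy2
    · obtain ⟨w, hw, hw0, hyw⟩ := hinv x y hx hy hanti hy2
      have m1 : w ∈ Submodule.span F {w, V F x w} := Submodule.subset_span (by simp)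
      have m2 : V F x w ∈ Submodule.span F {w, V F x w} := Submodule.subset_span (by simp)
      refine hfin2 w hw hw0 (V F x w) (hst x hx w hw) m2 ?_ (by rw [hyw]; exact m1) ?_
      · rcases hsq x hx with h3 | h3
        · rw [h3 w hw]; exact m1
        · rw [h3 w hw]; exact neg_mem m1
      · rw [hyx w hw, hyw]; exact neg_mem m2
    rcases hsq x hx with hx2 | hx2
    · obtain ⟨w, hw, hw0, hxw⟩ := hinv y x hy hx hyx hx2
      have m1 : w ∈ Submodule.span F {w, V F y w} := Submodule.subset_span (by simp)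
      have m2 : V F y w ∈ Submodule.span F {w, V F y w} := Submodule.subset_span (by simp)
      refine hfin2 w hw hw0 (V F y w) (hst y hy w hw) (by rw [hxw]; exact m1) ?_ m2 ?_
      · rw [hanti w hw, hxw]; exact neg_mem m2
      · rw [hy2 w hw]; exact neg_mem m1
    -- quaternions
    obtain ⟨a, b, hab⟩ : ∃ a b : F, a ^ 2 + b ^ 2 = -1 := by
      have hc : CharP F (ringChar F) := inferInstance
      have : Fintype F := Fintype.ofFinite F
      have hp : Fact (ringChar F).Prime := ⟨CharP.char_is_prime F (ringChar F)⟩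
      obtain ⟨a, b, h3⟩ := CharP.sq_add_sq F (ringChar F) (-1)
      exact ⟨a, b, by rw [h3]; norm_num⟩
    have hzW : ∀ v ∈ W, V F x (V F y v) ∈ W := fun v hv => hst x hx _ (hst y hy v hv)
    obtain ⟨w, hw, hw0, hew⟩ : ∃ w ∈ W, w ≠ 0 ∧ a • V F x w + b • V F y w = w := by
      have hxxy : ∀ v ∈ W, V F x (V F x (V F y v)) = - V F y v := fun v hv => hx2 _ (hst y hy v hv)
      have hyxy : ∀ v ∈ W, V F y (V F x (V F y v)) = V F x v := fun v hv => by
        rw [hyx _ (hst y hy v hv), hy2 v hv, map_neg, _root_.neg_neg]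
      by_cases h3 : (a • V F x w1 + b • V F y w1) + w1 = 0
      · refine ⟨V F x (V F y w1), hzW w1 hw1, ?_, ?_⟩
        · intro h4
          apply hw10
          rw [← V_inv y w1, ← V_inv x (V F y w1), h4, map_zero, map_zero]
        · have h4 : a • V F x w1 + b • V F y w1 = -w1 := eq_neg_of_add_eq_zero_left h3
          have h5 : V F x (V F y (a • V F x w1 + b • V F y w1)) = V F x (V F y (-w1)) := by rw [h4]
          rw [map_add, map_smul, map_smul, map_add, map_smul, map_smul, hy2 w1 hw1, hyx w1 hw1, map_neg, map_neg,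
            hxxy w1 hw1, map_neg, map_neg] at h5
          rw [hxxy w1 hw1, hyxy w1 hw1]
          have h6 : V F x (V F y w1) = - (a • - - V F y w1 + b • - V F x w1) := by
            rw [h5, _root_.neg_neg]
          rw [h6, _root_.neg_neg]
          simp only [smul_neg, neg_add, _root_.neg_neg]
      · refine ⟨_, add_mem (add_mem (W.smul_mem a (hst x hx w1 hw1)) (W.smul_mem b (hst y hy w1 hw1))) hw1, h3, ?_⟩
        simp only [map_add, map_smul, hx2 w1 hw1, hy2 w1 hw1, hyx w1 hw1, smul_add, smul_neg, smul_smul]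
        have h4 : (a * a) • w1 + (b * b) • w1 = -w1 := by
          rw [← add_smul, show a * a + b * b = -1 by rw [← hab]; ring, neg_smul, one_smul]
        have h5 : -((a * a) • w1) = w1 + (b * b) • w1 := by
          have : (a * a) • w1 = -w1 - (b * b) • w1 := by rw [← h4]; abel
          rw [this]; abel
        rw [h5, mul_comm b a]
        abel
    have hX : V F x w = -(a • w) + b • V F x (V F y w) := by
      conv_lhs => rw [← hew]
      rw [map_add, map_smul, map_smul, hx2 w hw, smul_neg]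
    have hY : V F y w = -(a • V F x (V F y w)) - b • w := by
      conv_lhs => rw [← hew]
      rw [map_add, map_smul, map_smul, hy2 w hw, hyx w hw, smul_neg, smul_neg, sub_eq_add_neg]
    have m1 : w ∈ Submodule.span F {w, V F x (V F y w)} := Submodule.subset_span (by simp)
    have m2 : V F x (V F y w) ∈ Submodule.span F {w, V F x (V F y w)} := Submodule.subset_span (by simp)
    have mx : V F x w ∈ Submodule.span F {w, V F x (V F y w)} := by
      have h := add_mem (neg_mem (Submodule.smul_mem _ a m1)) (Submodule.smul_mem _ b m2)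
      rwa [← hX] at h
    have my : V F y w ∈ Submodule.span F {w, V F x (V F y w)} := by
      have h := sub_mem (neg_mem (Submodule.smul_mem _ a m2)) (Submodule.smul_mem _ b m1)
      rwa [← hY] at h
    refine hfin2 w hw hw0 (V F x (V F y w)) (hzW w hw) mx ?_ my ?_
    · rw [hx2 _ (hst y hy w hw)]; exact neg_mem my
    · rw [hyx _ (hst y hy w hw), hy2 w hw, map_neg, _root_.neg_neg]; exact mx

include hM hn hn' in
/-- **no fixed vectors** -/
theorem no_fixed {ψ : ↥(alternatingGroup (Fin n)) →* Gh F} (hψ : Lift φ ψ) :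
    Representation.invariants (MonoidHom.comp (V F) ψ) = ⊥ := by
  by_contra hne
  set W : Submodule F (D1 → F) := Representation.invariants (MonoidHom.comp (V F) ψ) with hWdef
  have memW : ∀ w, w ∈ W ↔ ∀ a, V F (ψ a) w = w := by
    intro w
    rw [hWdef, Representation.mem_invariants]
    rfl
  have hcom : commutator ↥(alternatingGroup (Fin n)) = ⊤ := alt_perfect hn
  -- elements of the preimage of the alternating group act as scalars on `W`
  have hscal : ∀ g, ad F g ∈ φ.range → (∀ w ∈ W, V F g w = w) ∨ ∀ w ∈ W, V F g w = -w := by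
    intro g hg
    obtain ⟨a, ha⟩ := hg
    have h1 : ad F ((ψ a)⁻¹ * g) = 1 := by rw [map_mul, map_inv, hψ, ha, inv_mul_cancel]
    have h2 : g = ψ a * ((ψ a)⁻¹ * g) := by rw [mul_inv_cancel_left]
    rcases ad_eq_one_iff.1 h1 with h3 | h3
    · left
      intro w hw
      rw [h2, V_mul, h3, Module.End.one_apply, (memW w).1 hw]
    · right
      intro w hw
      rw [h2, V_mul, neg_apply h3, map_neg, (memW w).1 hw]
  refine no_fixed_aux hM hn hn' hne ?_ hscal
  intro x hx w hw
  have h1 : ∀ a, ψ a ∈ Cfsg.Agent.H952.F4.MaxA.LS (V F) (V F x w) := by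
    intro a
    have h2 : ad F (x⁻¹ * ψ a * x) ∈ φ.range := by
      rw [map_mul, map_mul, map_inv, hψ]
      have := hM.norm (ad F x)⁻¹ (inv_mem hx) (φ a) ⟨a, rfl⟩
      rwa [inv_inv] at this
    have h3 : V F (ψ a) (V F x w) = V F x (V F (x⁻¹ * ψ a * x) w) := by
      rw [← V_mul, ← V_mul]
      congr 2
      group
    rcases hscal _ h2 with hc | hc
    · exact ⟨1, by rw [h3, hc w hw, Units.val_one, one_smul]⟩
    · exact ⟨-1, by rw [h3, hc w hw, map_neg, Units.val_neg, Units.val_one, neg_smul, one_smul]⟩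
  have h2 : (⊤ : Subgroup ↥(alternatingGroup (Fin n))) ≤
      (Cfsg.Agent.H952.F4.MaxA.VS (V F) (V F x w)).comap ψ := by
    rw [← hcom, commutator_def, Subgroup.commutator_le]
    intro a _ b _
    rw [Subgroup.mem_comap, commutatorElement_def, map_mul, map_mul, map_mul, map_inv, map_inv]
    exact Cfsg.Agent.H952.F4.MaxA.comm_mem (h1 a) (h1 b)
  rw [memW]
  intro a
  exact h2 (Subgroup.mem_top a)

end nofix

end card

end Cfsg.Agent.R2.T1
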