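import Cfsg.Agent.R2.T1.Inf.Tor
import Cfsg.Agent.R2.T1.Five.Diag

/-!
# S5771, S5929: the torus in the centre of the centralizer of an element of order 3 (helper11)

* `TL l j0 d c0 χ₁ χ₂` : the decidable conditions on the cocharacter `l`;
* `TL.conj` : `h λ(ζ) h⁻¹ = λ(ζ) ^ e` implies `h λ(μ) h⁻¹ = λ(μ) ^ e`;
* `torL` : for `x` of order 3 with `(ev (V F x) 1, ev (L F x) 1)` one of `(20, 49)`, `(2, 79)`, `(14, 49)`: a cyclic group of order
  `q ± 1` which contains `x`, acts trivially on the fixed points of `x` on the adjoint module, and is centralized by the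
  centralizer of `x`.
-/

set_option autoImplicit false
set_option maxRecDepth 100000

namespace Cfsg.Agent.R2.T1

open Cfsg Cfsg.Lie Module
open Cfsg.Agent.ChevalleyStructure Cfsg.Agent.ChevalleyStructure.Elts Cfsg.Agent.ChevalleyStructure.RootVec
  Cfsg.Agent.ChevalleyStructure.RootVecTab Cfsg.Agent.ChevalleyStructure.CoxeterGeomTypes
open Cfsg.Agent.H943.E7V.Block (D1 rho)
open Cfsg.Agent.H944.Kac Cfsg.Agent.H944.Tab Cfsg.Agent.H944.E7Two
open Cfsg.Agent.H952.F4 (ev es)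

universe u

section
variable {K : Type u} [Field K]

theorem V_Phi_apply (a : Fin chevE7.rank → Kˣ) (v : D1 → K) (s : D1) :
    V K (Phi K a) v s = ((wt s a : Kˣ) : K) * v s := by
  rw [V_Phi, Matrix.toLin'_apply, Matrix.mulVec_diagonal]
  rfl

/-- the coordinate subspaces -/
def sup1 (K : Type u) [Field K] (T : D1 → Prop) : Submodule K (D1 → K) where
  carrier := {v | ∀ s, ¬ T s → v s = 0}
  add_mem' := fun {a b} ha hb s hs => by rw [Pi.add_apply, ha s hs, hb s hs, add_zero]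
  zero_mem' := fun _ _ => rfl
  smul_mem' := fun c a ha s hs => by rw [Pi.smul_apply, ha s hs, smul_zero]

theorem mem_sup1 {T : D1 → Prop} {v : D1 → K} : v ∈ sup1 K T ↔ ∀ s, ¬ T s → v s = 0 := Iff.rfl

open Classical in
theorem finrank_sup1 (T : D1 → Prop) : finrank K ↥(sup1 K T) = (Finset.univ.filter fun s : D1 => T s).card := by
  have h1 := Cfsg.Agent.H944.E6T.ev_diag (fun s : D1 => if T s then (0 : K) else 1) 0 rfl
  have h2 : sup1 K T = LinearMap.ker (Matrix.toLin' (Matrix.diagonal fun s : D1 => if T s then (0 : K) else 1)) := by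
    ext v
    rw [mem_sup1, LinearMap.mem_ker, Matrix.toLin'_apply, funext_iff]
    refine forall_congr' fun s => ?_
    rw [Matrix.mulVec_diagonal]
    by_cases hs : T s
    · simp [hs]
    · simp [hs]
  rw [h2, ← ev_zero, h1]
  congr 1
  ext s
  simp

theorem wt_zpow (s : D1) (a : Fin chevE7.rank → Kˣ) (e : ℤ) : wt s (a ^ e) = wt s a ^ e := by
  unfold wt
  rw [← Finset.prod_zpow]
  refine Finset.prod_congr rfl fun i _ => ?_
  rw [Pi.pow_apply, ← zpow_mul, ← zpow_mul, mul_comm]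

variable {l : Fin chevE7.rank → ℤ} {j0 : ℕ} {d c0 χ₁ χ₂ : ℤ}

theorem card_D1 (hj : j0 < 7) (P : ℤ → Prop) [DecidablePred P] :
    (Finset.univ.filter fun s : D1 => P (c0 + d * rt chevE8 (nn s) j0)).card =
      (WL.map fun w => if P (chv j0 d c0 w) then 1 else 0).sum := by
  rw [Finset.card_filter, sum_D1 fun n => if P (c0 + d * rt chevE8 n j0) then 1 else 0]
  congr 1
  refine List.map_congr_left fun w hw => ?_
  rw [WL_rt w hw j0 hj]
  rfl

/-- the values at the dominating exponents -/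
theorem TL.dom (hT : TL l j0 d c0 χ₁ χ₂) {ζ : Kˣ} (hζ : IsPrimitiveRoot ζ 3) {h : Gh K} {e : ℤ} (he : e = 1 ∨ e = -1)
    (hh : h * Phi K (R2.T1.lam l ζ) * h⁻¹ = Phi K (R2.T1.lam l ζ) ^ e) {μ : Kˣ} {t : Fin chevE7.rank → Kˣ}
    (ht : Phi K t = h * Phi K (R2.T1.lam l μ) * h⁻¹) {χ : ℤ}
    (hdom : (WL.map fun w => if (chv j0 d c0 w ≠ e * χ ∧ (chv j0 d c0 w - e * χ) % 3 = 0) then 1 else 0).sum <
      (WL.map fun w => if chv j0 d c0 w = χ then 1 else 0).sum) :
    ∃ s : D1, c0 + d * rt chevE8 (nn s) j0 = e * χ ∧ wt s t = μ ^ χ := by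
  classical
  by_contra hcon
  have hcon' : ∀ s : D1, c0 + d * rt chevE8 (nn s) j0 = e * χ → wt s t ≠ μ ^ χ := by
    intro s h1 h2
    exact hcon ⟨s, h1, h2⟩
  have hinj : Function.Injective (V K h) := by
    intro a b hab
    have h1 := congrArg (V K h⁻¹) hab
    rwa [← Module.End.mul_apply, ← Module.End.mul_apply, ← map_mul, inv_mul_cancel, map_one] at h1
  have hle : (sup1 K fun s => c0 + d * rt chevE8 (nn s) j0 = χ).map (V K h) ≤
      sup1 K fun s => c0 + d * rt chevE8 (nn s) j0 ≠ e * χ ∧ (c0 + d * rt chevE8 (nn s) j0 - e * χ) % 3 = 0 := by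
    rintro _ ⟨v, hv, rfl⟩
    set w := V K h v with hw
    have hsc : ∀ ν : Kˣ, V K (Phi K (R2.T1.lam l ν)) v = ((ν ^ χ : Kˣ) : K) • v := by
      intro ν
      funext s
      rw [V_Phi_apply, hT.wt_lam, Pi.smul_apply, smul_eq_mul]
      by_cases hs : c0 + d * rt chevE8 (nn s) j0 = χ
      · rw [hs]
      · rw [hv s hs, mul_zero, mul_zero]
    have h1 : V K (Phi K (R2.T1.lam l ζ ^ e)) w = ((ζ ^ χ : Kˣ) : K) • w := by
      rw [map_zpow, ← hh, hw, ← Module.End.mul_apply, ← map_mul, inv_mul_cancel_right, map_mul, Module.End.mul_apply,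
        hsc, map_smul]
    have h2 : V K (Phi K t) w = ((μ ^ χ : Kˣ) : K) • w := by
      rw [ht, hw, ← Module.End.mul_apply, ← map_mul, inv_mul_cancel_right, map_mul, Module.End.mul_apply,
        hsc, map_smul]
    intro s hs
    by_contra hws
    have e1 := congrFun h1 s
    have e2 := congrFun h2 s
    rw [V_Phi_apply, Pi.smul_apply, smul_eq_mul] at e1 e2
    have e3 := Units.ext (mul_right_cancel₀ hws e1)
    have e4 := Units.ext (mul_right_cancel₀ hws e2)
    rw [wt_zpow, hT.wt_lam, ← zpow_mul] at e3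
    apply hs
    have h3 : (c0 + d * rt chevE8 (nn s) j0 - e * χ) % 3 = 0 := by
      have h4 : ζ ^ ((c0 + d * rt chevE8 (nn s) j0) * e - χ) = 1 := by
        rw [zpow_sub, e3, mul_inv_cancel]
      rw [hζ.zpow_eq_one_iff_dvd] at h4
      push_cast at h4
      rcases he with rfl | rfl <;> omega
    exact ⟨fun h5 => hcon' s h5 e4, h3⟩
  have h1 := Submodule.finrank_mono hle
  rw [Five.finrank_map_inj hinj, finrank_sup1, finrank_sup1] at h1
  have c1 := card_D1 (c0 := c0) (d := d) hT.lt (fun z => z = χ)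
  have c2 := card_D1 (c0 := c0) (d := d) hT.lt (fun z => z ≠ e * χ ∧ (z - e * χ) % 3 = 0)
  have c1' : (Finset.univ.filter fun s : D1 => c0 + d * rt chevE8 (nn s) j0 = χ).card =
      (WL.map fun w => if chv j0 d c0 w = χ then 1 else 0).sum := by
    rw [← c1]
  have c2' : (Finset.univ.filter fun s : D1 => c0 + d * rt chevE8 (nn s) j0 ≠ e * χ ∧
      (c0 + d * rt chevE8 (nn s) j0 - e * χ) % 3 = 0).card =
      (WL.map fun w => if (chv j0 d c0 w ≠ e * χ ∧ (chv j0 d c0 w - e * χ) % 3 = 0) then 1 else 0).sum := by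
    rw [← c2]
  have h2 : ∀ {p q : D1 → Prop} [DecidablePred p] (_ : ∀ s, p s ↔ q s), (Finset.univ.filter p).card =
      (@Finset.filter _ q (Classical.decPred q) Finset.univ).card := by
    intro p q _ hpq
    congr 1
    ext s
    simp only [Finset.mem_filter, Finset.mem_univ, true_and]
    exact hpq s
  rw [← h2 fun _ => Iff.rfl, ← h2 fun _ => Iff.rfl, c1', c2'] at h1
  omega

/-- **the normalizer of `⟨λ(ζ)⟩` normalizes the torus** -/
theorem TL.conj (h2 : (2 : K) ≠ 0) (hT : TL l j0 d c0 χ₁ χ₂) (hd : d ≠ 0) {ζ : Kˣ} (hζ : IsPrimitiveRoot ζ 3) {h : Gh K}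
    {e : ℤ} (he : e = 1 ∨ e = -1) (hh : h * Phi K (R2.T1.lam l ζ) * h⁻¹ = Phi K (R2.T1.lam l ζ) ^ e) (μ : Kˣ) :
    h * Phi K (R2.T1.lam l μ) * h⁻¹ = Phi K (R2.T1.lam l μ) ^ e := by
  -- the fixed points
  have hfix : ∀ X, L K (Phi K (R2.T1.lam l ζ)) X = X → L K (h * Phi K (R2.T1.lam l μ) * h⁻¹) X = X := by
    intro X hX
    have h1 : L K (Phi K (R2.T1.lam l ζ)) (L K h⁻¹ X) = L K h⁻¹ X := by
      have h3 : Phi K (R2.T1.lam l ζ) * h⁻¹ = h⁻¹ * Phi K (R2.T1.lam l ζ) ^ e := by rw [← hh]; group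
      rw [← Module.End.mul_apply, ← map_mul, h3, map_mul, Module.End.mul_apply]
      congr 1
      rcases he with rfl | rfl
      · rw [zpow_one, hX]
      · rw [zpow_neg_one]
        nth_rewrite 1 [← hX]
        rw [← Module.End.mul_apply, ← map_mul, inv_mul_cancel, map_one, Module.End.one_apply]
    rw [map_mul, map_mul, Module.End.mul_apply, Module.End.mul_apply, hT.fix hζ h1 μ, ← Module.End.mul_apply,
      ← map_mul, mul_inv_cancel, map_one, Module.End.one_apply]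
  have hinl : ∀ i : Fin chevE7.rank, L K (Phi K (R2.T1.lam l ζ)) (Pi.single (Sum.inl i) 1) = Pi.single (Sum.inl i) 1 := by
    intro i
    funext j
    rw [L_Phi_apply]
    by_cases hj : j = Sum.inl i
    · rw [hj]
      exact one_mul _
    · rw [Pi.single_eq_of_ne hj, mul_zero]
  obtain ⟨t, ht⟩ := Five.exists_Phi_of_fix h2 fun i => hfix _ (hinl i)
  have hs : ∀ i < 7, i ≠ j0 → rtv (chevE7.simple i) t = 1 := by
    intro i hi hij
    have hlt : chevE7.simple i < chevE7.nroots := simple_lt7 i hi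
    have hX : L K (Phi K (R2.T1.lam l ζ)) (Pi.single (Sum.inr ⟨chevE7.simple i, hlt⟩) 1) =
        Pi.single (Sum.inr ⟨chevE7.simple i, hlt⟩) 1 := by
      funext j
      rw [L_Phi_apply]
      by_cases hj : j = Sum.inr ⟨chevE7.simple i, hlt⟩
      · rw [hj]
        show ((rtv (chevE7.simple i) (R2.T1.lam l ζ) : Kˣ) : K) * _ = _
        rw [R2.T1.rtv_lam, hT.simple i hi, if_neg hij, zpow_zero, Units.val_one, one_mul]
      · rw [Pi.single_eq_of_ne hj, mul_zero]
    have h1 := congrFun (hfix _ hX) (Sum.inr ⟨chevE7.simple i, hlt⟩)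
    rw [← ht, L_Phi_apply, Pi.single_eq_same, mul_one] at h1
    exact Units.ext h1
  obtain ⟨s1, e1, f1⟩ := hT.dom hζ he hh ht (hT.dom₁ e he)
  obtain ⟨s2, e2, f2⟩ := hT.dom hζ he hh ht (hT.dom₂ e he)
  set τ := wt botv t with hτ
  set ν := rtv (chevE7.simple j0) t with hν
  rw [wt_one hT.lt hs, ← hτ, ← hν] at f1 f2
  have hdiff := hT.diff
  have hk : rt chevE7 0 0 = rt chevE7 0 0 := rfl
  have hκ : rt chevE8 (nn s1) j0 - rt chevE8 (nn s2) j0 = e := by
    have h3 : d * (rt chevE8 (nn s1) j0 - rt chevE8 (nn s2) j0) = d * e := by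
      rw [mul_sub]
      have : d * rt chevE8 (nn s1) j0 - d * rt chevE8 (nn s2) j0 = e * χ₁ - e * χ₂ := by rw [← e1, ← e2]; ring
      rw [this, ← mul_sub, hdiff, mul_comm]
    exact mul_left_cancel₀ hd h3
  have hee : e * e = 1 := by rcases he with rfl | rfl <;> rfl
  have hνe : ν ^ e = μ ^ d := by
    have h3 : ν ^ e = ν ^ rt chevE8 (nn s1) j0 * (ν ^ rt chevE8 (nn s2) j0)⁻¹ := by
      rw [← zpow_neg, ← zpow_add, ← hκ, sub_eq_add_neg]
    have h4 : μ ^ d = μ ^ χ₁ * (μ ^ χ₂)⁻¹ := by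
      rw [← zpow_neg, ← zpow_add, ← hdiff, sub_eq_add_neg]
    rw [h3, h4, ← f1, ← f2]
    rw [mul_inv, mul_mul_mul_comm, mul_inv_cancel, one_mul]
  have hν' : ν = μ ^ (d * e) := by
    rw [zpow_mul, ← hνe, ← zpow_mul, hee, zpow_one]
  have hτ' : τ = μ ^ (e * c0) := by
    have h3 : τ = μ ^ χ₂ * (ν ^ rt chevE8 (nn s2) j0)⁻¹ := by rw [← f2, mul_assoc, mul_inv_cancel, mul_one]
    rw [h3, hν', ← zpow_mul, ← zpow_neg, ← zpow_add]
    congr 1
    have h5 : χ₂ = e * (e * χ₂) := by rw [← mul_assoc, hee, one_mul]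
    rw [← e2] at h5
    rw [h5]
    ring
  rw [← ht, ← map_zpow]
  apply rho_injective
  rw [rho_Phi, rho_Phi]
  refine congrArg Matrix.diagonal (funext fun s => ?_)
  rw [wt_zpow, hT.wt_lam, wt_one hT.lt hs, ← hτ, ← hν, hτ', hν', ← zpow_mul, ← zpow_mul, ← zpow_add]
  congr 2
  ring

end

/-- `y` generates the torus of the element `x` of order 3 -/
structure IsTor {F : Type u} [Field F] (x y : Gh F) (m : ℕ) : Prop where
  pow : y ^ m = x
  order : orderOf y = 3 * m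
  card : 3 * m + 1 = Nat.card F ∨ 3 * m = Nat.card F + 1
  fixL : ∀ X, L F x X = X → L F y X = X
  comm : ∀ g, g * x = x * g → g * y = y * g
  inv : ∀ g, g * x * g⁻¹ = x⁻¹ → g * y * g⁻¹ = y⁻¹

theorem Phi_zpow_lam {K : Type u} [Field K] (l : Fin chevE7.rank → ℤ) (μ : Kˣ) (e : ℤ) :
    lam l μ ^ e = lam l (μ ^ e) := by
  funext i
  show (μ ^ l i) ^ e = (μ ^ e) ^ l i
  rw [← zpow_mul, ← zpow_mul, mul_comm]

/-- **the torus of an element of order 3**, general form -/
theorem TL.main {F : Type u} [Field F] [Finite F] (h2 : (2 : F) ≠ 0) (h3 : (3 : F) ≠ 0)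
    {l : Fin chevE7.rank → ℤ} {j0 : ℕ} {d c0 χ₁ χ₂ : ℤ} (hT : TL l j0 d c0 χ₁ χ₂) (hd : d ≠ 0) {x : Gh F}
    (hex : ∀ ζ : (AlgebraicClosure F)ˣ, IsPrimitiveRoot ζ 3 →
      ∃ g, Phi (AlgebraicClosure F) (R2.T1.lam l ζ) = g * emb (algebraMap F (AlgebraicClosure F)) x * g⁻¹) :
    ∃ (y : Gh F) (m : ℕ), IsTor x y m ∧ ((∀ w ∈ WL, chv j0 d c0 w % 3 = 0 → chv j0 d c0 w = 0) →
      ∀ v, V F x v = v → V F y v = v) := by
  have h3' : ((3 : ℕ) : F) ≠ 0 := by exact_mod_cast h3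
  let K := AlgebraicClosure F
  let f : F →+* K := algebraMap F K
  obtain ⟨s, hs⟩ := exists_frob f
  have h2K : (2 : K) ≠ 0 := by
    have h := (map_ne_zero f).2 h2
    rwa [map_ofNat] at h
  have hq3 := card_mod (by norm_num) h3'
  have hq0 : ((Nat.card F : ℕ) : K) = 0 := by
    have := Fintype.ofFinite F
    have h7 : (Nat.card F : F) = 0 := by
      rw [Nat.card_eq_fintype_card]
      exact FiniteField.cast_card_eq_zero F
    have h8 := congrArg f h7
    rwa [map_natCast, map_zero] at h8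
  have hq1 : 1 < Nat.card F := Finite.one_lt_card
  obtain ⟨m, hm, hm0, hmK⟩ : ∃ m : ℕ, (3 * m + 1 = Nat.card F ∨ 3 * m = Nat.card F + 1) ∧ 0 < m ∧
      ((3 * m : ℕ) : K) ≠ 0 := by
    rcases (by omega : Nat.card F % 3 = 1 ∨ Nat.card F % 3 = 2) with h | h
    · refine ⟨Nat.card F / 3, by omega, by omega, ?_⟩
      have h4 : 3 * (Nat.card F / 3) + 1 = Nat.card F := by omega
      have h5 : ((3 * (Nat.card F / 3) : ℕ) : K) + 1 = 0 := by
        rw [← hq0, ← h4]; push_cast; congr 3; omega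
      intro h6
      rw [h6, zero_add] at h5
      exact one_ne_zero h5
    · refine ⟨(Nat.card F + 1) / 3, by omega, by omega, ?_⟩
      have h4 : 3 * ((Nat.card F + 1) / 3) = Nat.card F + 1 := by omega
      rw [h4, Nat.cast_add, hq0, zero_add, Nat.cast_one]
      exact one_ne_zero
  have : NeZero ((3 * m : ℕ) : K) := ⟨hmK⟩
  obtain ⟨μ', hμ'⟩ : ∃ μ : K, IsPrimitiveRoot μ (3 * m) := HasEnoughRootsOfUnity.exists_primitiveRoot K (3 * m)
  have hμ0 : μ' ≠ 0 := hμ'.ne_zero (by omega)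
  obtain ⟨μ, hμu⟩ : ∃ μ : Kˣ, (μ : K) = μ' := ⟨Units.mk0 μ' hμ0, rfl⟩
  rw [← hμu] at hμ'
  have hμ : IsPrimitiveRoot μ (3 * m) := IsPrimitiveRoot.coe_units_iff.1 hμ'
  have hζ : IsPrimitiveRoot (μ ^ m) 3 := hμ.pow (by omega) (mul_comm 3 m)
  obtain ⟨g, hg⟩ := hex (μ ^ m) hζ
  change Phi K (R2.T1.lam l (μ ^ m)) = g * emb f x * g⁻¹ at hg
  have hxg : emb f x = g⁻¹ * Phi K (R2.T1.lam l (μ ^ m)) * g := by rw [hg]; group
  -- the Frobenius endomorphism
  obtain ⟨e, he, hsμ⟩ : ∃ e : ℤ, (e = 1 ∨ e = -1) ∧ Units.map (s : K →* K) μ = μ ^ e := by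
    rcases hm with h | h
    · refine ⟨1, Or.inl rfl, ?_⟩
      rw [zpow_one]
      apply Units.ext
      show s (μ : K) = μ
      rw [hs, ← h, pow_succ, ← Units.val_pow_eq_pow_val, hμ.pow_eq_one, Units.val_one, one_mul]
    · refine ⟨-1, Or.inr rfl, ?_⟩
      rw [zpow_neg_one]
      apply eq_inv_of_mul_eq_one_left
      apply Units.ext
      show s (μ : K) * μ = 1
      rw [hs, ← pow_succ, ← h, ← Units.val_pow_eq_pow_val, hμ.pow_eq_one, Units.val_one]
  have hsl : ∀ k : ℕ, emb s (Phi K (R2.T1.lam l (μ ^ k))) = Phi K (R2.T1.lam l (μ ^ k)) ^ e := by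
    intro k
    rw [emb_Phi, ← map_zpow, Phi_zpow_lam]
    congr 1
    funext i
    show Units.map (s : K →* K) ((μ ^ k) ^ l i) = ((μ ^ k) ^ e) ^ l i
    rw [map_zpow, map_pow, hsμ]
    congr 1
    rw [← zpow_natCast, ← zpow_natCast, ← zpow_mul, ← zpow_mul, mul_comm]
  set z : Gh K := g⁻¹ * Phi K (R2.T1.lam l μ) * g with hz
  have hconj : ∀ (h : Gh K) (e : ℤ), (e = 1 ∨ e = -1) → h * emb f x * h⁻¹ = emb f x ^ e → h * z * h⁻¹ = z ^ e := by
    intro h e he hh
    have h4 : (g * h * g⁻¹) * Phi K (R2.T1.lam l (μ ^ m)) * (g * h * g⁻¹)⁻¹ = Phi K (R2.T1.lam l (μ ^ m)) ^ e := by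
      have h5 : (g * h * g⁻¹) * Phi K (R2.T1.lam l (μ ^ m)) * (g * h * g⁻¹)⁻¹ = g * (h * emb f x * h⁻¹) * g⁻¹ := by
        rw [hg]; group
      rw [h5, hh, hg, ← MulAut.conj_apply, map_zpow, MulAut.conj_apply]
    have h6 := hT.conj h2K hd hζ he h4 μ
    have h7 : h * z * h⁻¹ = g⁻¹ * ((g * h * g⁻¹) * Phi K (R2.T1.lam l μ) * (g * h * g⁻¹)⁻¹) * g := by
      rw [hz]; group
    have h8 : z ^ e = g⁻¹ * Phi K (R2.T1.lam l μ) ^ e * g := by
      have h9 : z = MulAut.conj g⁻¹ (Phi K (R2.T1.lam l μ)) := by rw [MulAut.conj_apply, inv_inv]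
      rw [h9, ← map_zpow, MulAut.conj_apply, inv_inv]
    rw [h7, h6, h8]
  have hfz : emb s z = z := by
    have h4 : (emb s g * g⁻¹) * Phi K (R2.T1.lam l (μ ^ m)) * (emb s g * g⁻¹)⁻¹ = Phi K (R2.T1.lam l (μ ^ m)) ^ e := by
      rw [← hsl m, hg, map_mul, map_mul, emb_frob f s hs, map_inv]
      group
    have h6 := hT.conj h2K hd hζ he h4 μ
    have h7 := hsl 1
    rw [pow_one] at h7
    rw [hz, map_mul, map_mul, h7, ← h6, map_inv]
    group
  obtain ⟨y, hy⟩ := exists_of_emb_eq f s hs hfz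
  have hinj := emb_injective f
  have hzpow : ∀ k : ℕ, z ^ k = g⁻¹ * Phi K (R2.T1.lam l (μ ^ k)) * g := by
    intro k
    have h9 : z = MulAut.conj g⁻¹ (Phi K (R2.T1.lam l μ)) := by rw [MulAut.conj_apply, inv_inv]
    have h10 : R2.T1.lam l (μ ^ k) = R2.T1.lam l μ ^ k := by
      rw [← zpow_natCast, ← zpow_natCast, Phi_zpow_lam]
    rw [h9, ← map_pow, MulAut.conj_apply, inv_inv, ← map_pow, h10]
  refine ⟨y, m, ⟨?_, ?_, hm, fun X hX => ?_, fun g' hg' => ?_, fun g' hg' => ?_⟩, fun hV v hv => ?_⟩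
  · apply hinj
    rw [map_pow, hy, hzpow, hxg]
  · rw [← orderOf_injective (emb f) hinj, hy]
    have h4 : orderOf z = orderOf (R2.T1.lam l μ) := by
      have h9 : z = MulAut.conj g⁻¹ (Phi K (R2.T1.lam l μ)) := by rw [MulAut.conj_apply, inv_inv]
      rw [h9, MulEquiv.orderOf_eq, orderOf_injective (Phi K) isPhi.inj]
    rw [h4, hμ.eq_orderOf]
    apply Nat.dvd_antisymm
    · apply orderOf_dvd_of_pow_eq_one
      exact lam_pow l (pow_orderOf_eq_one μ)
    · apply orderOf_dvd_of_pow_eq_one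
      apply hT.lam_injective
      show R2.T1.lam l (μ ^ orderOf (R2.T1.lam l μ)) = R2.T1.lam l 1
      rw [lam_one, ← pow_orderOf_eq_one (R2.T1.lam l μ), ← zpow_natCast, ← zpow_natCast, Phi_zpow_lam]
  · have h4 : L K (emb f x) (fun i => f (X i)) = fun i => f (X i) := by rw [L_emb, hX]
    have h5 : L K (Phi K (R2.T1.lam l (μ ^ m))) (L K g fun i => f (X i)) = L K g fun i => f (X i) := by
      rw [hg, ← Module.End.mul_apply, ← map_mul, inv_mul_cancel_right, map_mul, Module.End.mul_apply, h4]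
    have h6 : L K z (fun i => f (X i)) = fun i => f (X i) := by
      rw [hz, map_mul, map_mul, Module.End.mul_apply, Module.End.mul_apply, hT.fix hζ h5 μ, ← Module.End.mul_apply,
        ← map_mul, inv_mul_cancel, map_one, Module.End.one_apply]
    rw [← hy, L_emb] at h6
    funext i
    exact f.injective (congrFun h6 i)
  · apply hinj
    have h4 := hconj (emb f g') 1 (Or.inl rfl) (by
      rw [zpow_one, ← map_mul, hg', map_mul, mul_inv_cancel_right])
    rw [zpow_one, mul_inv_eq_iff_eq_mul] at h4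
    rw [map_mul, map_mul, hy, h4]
  · apply hinj
    have h4 := hconj (emb f g') (-1) (Or.inr rfl) (by
      rw [zpow_neg_one, ← map_inv, ← map_inv, ← map_mul, ← map_mul, hg'])
    rw [map_mul, map_mul, map_inv, map_inv, hy, h4, zpow_neg_one]
  · have h4 : V K (emb f x) (fun i => f (v i)) = fun i => f (v i) := by rw [V_emb, hv]
    have h5 : V K (Phi K (R2.T1.lam l (μ ^ m))) (V K g fun i => f (v i)) = V K g fun i => f (v i) := by
      rw [hg, ← Module.End.mul_apply, ← map_mul, inv_mul_cancel_right, map_mul, Module.End.mul_apply, h4]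
    have h6 : V K (Phi K (R2.T1.lam l μ)) (V K g fun i => f (v i)) = V K g fun i => f (v i) := by
      funext t
      have h7 := congrFun h5 t
      rw [V_Phi_apply, hT.wt_lam] at h7 ⊢
      by_cases h8 : V K g (fun i => f (v i)) t = 0
      · rw [h8, mul_zero]
      · have h9 : (((μ ^ m) ^ (c0 + d * rt chevE8 (nn t) j0) : Kˣ) : K) = 1 := by
          apply mul_right_cancel₀ h8
          rw [h7, one_mul]
        have h10 : (μ ^ m) ^ (c0 + d * rt chevE8 (nn t) j0) = 1 := Units.ext h9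
        rw [hζ.zpow_eq_one_iff_dvd] at h10
        have h11 : nn t ∈ WL.map Prod.fst := (WL_mem _ (nn_lt t)).1 (rt_nn t)
        obtain ⟨w, hw, hwt⟩ := List.mem_map.1 h11
        have h12 : chv j0 d c0 w = c0 + d * rt chevE8 (nn t) j0 := by
          rw [← hwt, WL_rt w hw j0 hT.lt]
          rfl
        have h13 := hV w hw (by rw [h12]; exact Int.emod_eq_zero_of_dvd h10)
        rw [← h12, h13, zpow_zero, Units.val_one, one_mul]
    have h14 : V K z (fun i => f (v i)) = fun i => f (v i) := by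
      rw [hz, map_mul, map_mul, Module.End.mul_apply, Module.End.mul_apply, h6, ← Module.End.mul_apply,
        ← map_mul, inv_mul_cancel, map_one, Module.End.one_apply]
    rw [← hy, V_emb] at h14
    funext i
    exact f.injective (congrFun h14 i)

theorem nf49 : chkNf 3 20 49 [[0, 0, 0, 0, 0, 1, 0], [1, 0, 0, 0, 0, 0, 1]] = true := by decide +kernel
theorem nf79 : chkNf 3 2 79 [[0, 0, 0, 0, 0, 0, 1], [0, 0, 0, 0, 0, 0, 2]] = true := by decide +kernel
theorem nf14 : chkNf 3 14 49 [[0, 1, 0, 0, 0, 0, 0], [0, 1, 0, 0, 0, 0, 1]] = true := by decide +kernel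

section
variable {F : Type u} [Field F] [Finite F] (h2 : (2 : F) ≠ 0) (h3 : (3 : F) ≠ 0) {x : Gh F} (hx : x ^ 3 = 1)

include h3 hx in
theorem exists_lam_F {l : Fin chevE7.rank → ℤ} {j0 : ℕ} {d c0 χ₁ χ₂ : ℤ} (hT : TL l j0 d c0 χ₁ χ₂) {v0 l0 : ℕ}
    {S : List (List ℕ)} (hchk : chkNf 3 v0 l0 S = true)
    (hw : ∀ Y ∈ S, ∃ w : List (Fin 7), w.foldl (fun v j => srefl chevE7 7 j v) (fun i : Fin 7 =>
      ((Y.getD i 0 : ℕ) : ZMod 3)) = fun i : Fin 7 => ((if (i : ℕ) = j0 then d else 0 : ℤ) : ZMod 3))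
    (hv : ev (V F x) 1 = v0) (hl : ev (L F x) 1 = l0) (ζ : (AlgebraicClosure F)ˣ) (hζ : IsPrimitiveRoot ζ 3) :
    ∃ g, Phi (AlgebraicClosure F) (R2.T1.lam l ζ) = g * emb (algebraMap F (AlgebraicClosure F)) x * g⁻¹ := by
  obtain ⟨p, hpp, hp, hcop⟩ := exists_char (N := 3) (by exact_mod_cast h3)
  exact hT.exists_lam hchk hw hζ (frame p (by norm_num) hcop hx) (by rw [ev_V_one, hv]) (by rw [ev_L_one, hl])

/-- elements with fixed vectors have the same order in the adjoint group -/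
theorem orderOf_ad {F : Type u} [Field F] {y : Gh F} {v : D1 → F} (hv : v ≠ 0) (h : V F y v = v) :
    orderOf (ad F y) = orderOf y := by
  apply Nat.dvd_antisymm (orderOf_map_dvd _ _)
  apply orderOf_dvd_of_pow_eq_one
  have h1 : ad F (y ^ orderOf (ad F y)) = 1 := by rw [map_pow, pow_orderOf_eq_one]
  have h2 : ∀ k : ℕ, V F (y ^ k) v = v := by
    intro k
    induction k with
    | zero => rw [pow_zero, map_one, Module.End.one_apply]
    | succ k ih => rw [pow_succ, map_mul, Module.End.mul_apply, h, ih]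
  rcases ad_eq_one_iff.1 h1 with h3 | h3
  · exact faithful h3
  · have h4 := h2 (orderOf (ad F y))
    rw [h3] at h4
    have h5 : -v = v := h4
    obtain ⟨t, ht⟩ : ∃ t, v t ≠ 0 := by
      by_contra hcon
      apply hv
      funext t
      by_contra h6
      exact hcon ⟨t, h6⟩
    have h6 : -v t = v t := congrFun h5 t
    have h7 : (-1 : F) = 1 := by
      apply mul_right_cancel₀ ht
      rw [neg_one_mul, one_mul, h6]
    apply faithful
    rw [h3]
    refine LinearMap.ext fun w => funext fun t => ?_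
    show -w t = w t
    rw [← neg_one_mul, h7, one_mul]

include h2 h3 hx

/-- **the torus of the elements of order 3 of type `D₅ A₁`** -/
theorem tor49 (hv : ev (V F x) 1 = 20) (hl : ev (L F x) 1 = 49) :
    ∃ (y : Gh F) (m : ℕ), IsTor x y m ∧ ∀ v, V F x v = v → V F y v = v := by
  obtain ⟨y, m, h4, h5⟩ := TL6.main h2 h3 (by decide) (exists_lam_F h3 hx TL6 nf49 (fun Y hY => by
    simp only [List.mem_cons, List.not_mem_nil, or_false] at hY
    rcases hY with rfl | rfl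
    · exact ⟨[], by decide +kernel⟩
    · exact ⟨[6, 5, 4, 3, 1, 2, 0, 3, 2, 4, 3, 1, 5, 4, 3, 2, 0, 6, 5, 4, 3, 1, 2, 3, 4, 5], by decide +kernel⟩) hv hl)
  exact ⟨y, m, h4, h5 (by decide +kernel)⟩

/-- **the torus of the elements of order 3 of type `E₆`** -/
theorem tor79 (hv : ev (V F x) 1 = 2) (hl : ev (L F x) 1 = 79) : ∃ (y : Gh F) (m : ℕ), IsTor x y m := by
  obtain ⟨y, m, h4, -⟩ := TL7.main h2 h3 (by decide) (exists_lam_F h3 hx TL7 nf79 (fun Y hY => by
    simp only [List.mem_cons, List.not_mem_nil, or_false] at hY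
    rcases hY with rfl | rfl
    · exact ⟨[6, 5, 4, 3, 1, 2, 0, 3, 2, 4, 3, 1, 5, 4, 3, 2, 0, 6, 5, 4, 3, 1, 2, 3, 4, 5, 6], by decide +kernel⟩
    · exact ⟨[], by decide +kernel⟩) hv hl)
  exact ⟨y, m, h4⟩

/-- **the torus of the elements of order 3 of type `A₆`** -/
theorem tor14 (hv : ev (V F x) 1 = 14) (hl : ev (L F x) 1 = 49) : ∃ (y : Gh F) (m : ℕ), IsTor x y m := by
  obtain ⟨y, m, h4, -⟩ := TL2.main h2 h3 (by decide) (exists_lam_F h3 hx TL2 nf14 (fun Y hY => by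
    simp only [List.mem_cons, List.not_mem_nil, or_false] at hY
    rcases hY with rfl | rfl
    · exact ⟨[1, 3, 2, 0, 4, 3, 1, 2, 3, 4, 5, 4, 3, 1, 2, 0, 3, 2, 4, 3, 1, 6, 5, 4, 3, 1, 2, 0, 3, 2, 4, 3, 1, 5, 4,
        3, 2, 6, 5, 4, 3, 1], by decide +kernel⟩
    · exact ⟨[1, 3, 2, 0, 4, 3, 1, 2, 3, 4, 5, 4, 3, 1, 2, 0, 3, 2, 4, 3, 1], by decide +kernel⟩) hv hl)
  exact ⟨y, m, h4⟩

/-- **the torus of the elements of order 3 of type `D₆`** -/
theorem tor67 (hv : ev (V F x) 1 = 32) (hl : ev (L F x) 1 = 67) :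
    ∃ (y : Gh F) (m : ℕ), IsTor x y m ∧ ∀ v, V F x v = v → V F y v = v := by
  obtain ⟨y, m, h4, h5⟩ := TL1.main h2 h3 (by decide) (exists_lam_F h3 hx TL1 nf32 (fun Y hY => by
    simp only [List.mem_cons, List.not_mem_nil, or_false] at hY
    rcases hY with rfl | rfl
    · exact ⟨[6, 5, 4, 3, 1, 2, 0, 3, 2, 4, 3, 1, 5, 4, 3, 2, 0], by decide +kernel⟩
    · exact ⟨[], by decide +kernel⟩) hv hl)
  exact ⟨y, m, h4, h5 (by decide +kernel)⟩

end

end Cfsg.Agent.R2.T1
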