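import Cfsg.Agent.R2.T1.Inf.LMat

/-!
# S5771, S5929: the invariant symmetric form on the adjoint module, irreducibility (helper11)

* `kf F : (Idx → F) →ₗ[F] (Idx → F) →ₗ[F] F` : `κ(e_r, e_{-r}) = 1`, `κ(h_i, h_j) = C_{ij}`; `kf_L`, `kf_comm`, `kf_nondeg`
  (the latter for `2 ≠ 0`);
* `irrL` : for `2 ≠ 0` the adjoint module is irreducible.
-/

set_option autoImplicit false
set_option maxRecDepth 100000

namespace Cfsg.Agent.R2.T1

open Cfsg Cfsg.Lie Module
open Cfsg.Agent.ChevalleyStructure Cfsg.Agent.ChevalleyStructure.Elts Cfsg.Agent.ChevalleyStructure.Columns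
open scoped Matrix

universe u

theorem sum_car_cor : ∀ r < 126, ∑ i : Fin 7, car chevE7 i.val r * cor chevE7 r i.val = 2 := by decide +kernel

theorem sum_car_simple : ∀ r < 126, ∀ i < 7,
    ∑ k : Fin 7, car chevE7 i (chevE7.simple k.val) * cor chevE7 r k.val = car chevE7 i r := by decide +kernel

theorem car_symm : ∀ i < 7, ∀ j < 7, car chevE7 i (chevE7.simple j) = car chevE7 j (chevE7.simple i) := by
  decide +kernel

section
variable {F : Type u} [Field F]

theorem EM_EM {r : ℕ} (hr : r < 126) : EM F r * EM F r = (2 : F) • QM F r := by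
  have hne : r ≠ 125 - r := by omega
  have hne' : 125 - r ≠ r := by omega
  ext a b
  rw [Matrix.mul_apply, Matrix.smul_apply, smul_eq_mul, Fintype.sum_sum_type]
  rcases b with i | s <;> rcases a with j | w
  · rw [QM_ll, mul_zero]
    simp only [EM_ll, mul_zero, Finset.sum_const_zero, zero_add]
    refine Finset.sum_eq_zero fun u _ => ?_
    rw [EM_lr, EM_rl]
    by_cases h1 : u.val = r
    · rw [if_neg (by rw [h1]; exact hne), zero_mul]
    · rw [if_neg h1, mul_zero]
  · rw [QM_rl, mul_zero]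
    simp only [EM_ll, mul_zero, Finset.sum_const_zero, zero_add]
    refine Finset.sum_eq_zero fun u _ => ?_
    rw [EM_rr, EM_rl]
    by_cases h1 : u.val = r
    · rw [h1, cf_nil (F7_self hr), Int.cast_zero, zero_mul]
    · rw [if_neg h1, mul_zero]
  · rw [QM_lr, mul_zero]
    simp only [EM_ll, zero_mul, Finset.sum_const_zero, zero_add]
    refine Finset.sum_eq_zero fun u _ => ?_
    rw [EM_lr, EM_rr]
    by_cases h1 : u.val = 125 - r
    · have h2 : cf r s.val u.val = 0 := by
        by_contra h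
        have h3 := cf_ne hr h
        rcases F7_cases hr s.val with h4 | ⟨u', c, h4, -, -, -, -, -, -, h5, -⟩
        · rw [h3] at h4; exact absurd h4 (by simp)
        · rw [h3] at h4
          simp only [List.cons.injEq, Prod.mk.injEq, and_true] at h4
          exact h5 (h4.1 ▸ h1)
      rw [h2, Int.cast_zero, mul_zero]
    · rw [if_neg h1, zero_mul]
  · rw [QM_rr]
    have h1 : ∑ u : Fin chevE7.nroots, EM F r (Sum.inr w) (Sum.inr u) * EM F r (Sum.inr u) (Sum.inr s) = 0 := by
      refine Finset.sum_eq_zero fun u _ => ?_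
      rw [EM_rr, EM_rr]
      by_cases h : cf r s.val u.val = 0
      · rw [h, Int.cast_zero, mul_zero]
      · have h3 := cf_ne hr h
        rcases F7_cases hr s.val with h4 | ⟨u', c, h4, -, -, -, -, h6, -⟩
        · rw [h3] at h4; exact absurd h4 (by simp)
        · rw [h3] at h4
          simp only [List.cons.injEq, Prod.mk.injEq, and_true] at h4
          rw [← h4.1] at h6
          rw [cf_nil h6, Int.cast_zero, zero_mul]
    rw [h1, add_zero]
    by_cases hw : w.val = r
    · by_cases hs : s.val = 125 - r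
      · simp only [EM_rl, EM_lr, if_pos hw, if_pos hs]
        have h2 := congrArg (Int.cast (R := F)) (sum_car_cor r hr)
        push_cast at h2
        rw [mul_neg_one, ← h2, ← Finset.sum_neg_distrib]
        exact Finset.sum_congr rfl fun i _ => by rw [neg_mul]
      · simp only [EM_lr, if_neg hs, mul_zero, Finset.sum_const_zero]
    · simp only [EM_rl, if_neg hw, zero_mul, Finset.sum_const_zero, ite_self, mul_zero]

theorem cf_opp_zero {r : ℕ} (hr : r < 126) (s : ℕ) : cf r s (125 - r) = 0 := by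
  by_contra h
  have h3 := cf_ne hr h
  rcases F7_cases hr s with h4 | ⟨u', c, h4, -, -, -, -, -, -, h5, -⟩
  · rw [h3] at h4; exact absurd h4 (by simp)
  · rw [h3] at h4
    simp only [List.cons.injEq, Prod.mk.injEq, and_true] at h4
    exact h5 h4.1.symm

theorem cf_self_zero {r : ℕ} (hr : r < 126) (s : ℕ) : cf r s r = 0 := by
  by_contra h
  have h3 := cf_ne hr h
  rcases F7_cases hr s with h4 | ⟨u', c, h4, -, -, -, -, -, h5, -⟩
  · rw [h3] at h4; exact absurd h4 (by simp)
  · rw [h3] at h4
    simp only [List.cons.injEq, Prod.mk.injEq, and_true] at h4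
    exact h5 h4.1.symm

theorem EM_QM {r : ℕ} (hr : r < 126) : EM F r * QM F r = 0 := by
  have hne : r ≠ 125 - r := by omega
  ext a b
  rw [Matrix.mul_apply, Matrix.zero_apply, Fintype.sum_sum_type]
  rcases b with i | s
  · simp only [QM_ll, QM_rl, mul_zero, Finset.sum_const_zero, add_zero]
  · simp only [QM_lr, mul_zero, Finset.sum_const_zero, zero_add]
    refine Finset.sum_eq_zero fun u _ => ?_
    rw [QM_rr]
    by_cases hu : u.val = r
    · rcases a with j | w
      · rw [EM_lr, if_neg (by rw [hu]; exact hne), zero_mul]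
      · rw [EM_rr, hu, cf_nil (F7_self hr), Int.cast_zero, zero_mul]
    · rw [if_neg hu, ite_self, mul_zero]

theorem QM_EM {r : ℕ} (hr : r < 126) : QM F r * EM F r = 0 := by
  have hne : 125 - r ≠ r := by omega
  ext a b
  rw [Matrix.mul_apply, Matrix.zero_apply, Fintype.sum_sum_type]
  rcases a with j | w
  · simp only [QM_ll, QM_lr, zero_mul, Finset.sum_const_zero, add_zero]
  · simp only [QM_rl, zero_mul, Finset.sum_const_zero, zero_add]
    refine Finset.sum_eq_zero fun u _ => ?_
    rw [QM_rr]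
    by_cases hu : u.val = 125 - r
    · rcases b with j | s
      · rw [EM_rl, if_neg (show ¬ u.val = r by rw [hu]; exact hne), mul_zero]
      · rw [EM_rr, hu, cf_opp_zero hr, Int.cast_zero, mul_zero]
    · rw [if_neg hu, zero_mul]

theorem QM_QM {r : ℕ} (hr : r < 126) : QM F r * QM F r = 0 := by
  have hne : r ≠ 125 - r := by omega
  ext a b
  rw [Matrix.mul_apply, Matrix.zero_apply, Fintype.sum_sum_type]
  rcases b with i | s
  · simp only [QM_ll, QM_rl, mul_zero, Finset.sum_const_zero, add_zero]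
  · simp only [QM_lr, mul_zero, Finset.sum_const_zero, zero_add]
    refine Finset.sum_eq_zero fun u _ => ?_
    rcases a with j | w
    · rw [QM_lr, zero_mul]
    · rw [QM_rr, QM_rr]
      by_cases hu : u.val = r
      · rw [if_neg (by rw [hu]; exact hne), zero_mul]
      · rw [if_neg hu, ite_self, mul_zero]

variable (F)

/-- the matrix of the form -/
def KM : Matrix chevE7.Idx chevE7.Idx F := Matrix.of fun a b =>
  match a, b with
  | Sum.inl i, Sum.inl j => (car chevE7 i.val (chevE7.simple j.val) : F)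
  | Sum.inr u, Sum.inr s => if s.val = 125 - u.val then 1 else 0
  | _, _ => 0

variable {F}

theorem KM_ll (i j : Fin chevE7.rank) : KM F (Sum.inl i) (Sum.inl j) = (car chevE7 i.val (chevE7.simple j.val) : F) := rfl
theorem KM_rl (u : Fin chevE7.nroots) (i : Fin chevE7.rank) : KM F (Sum.inr u) (Sum.inl i) = 0 := rfl
theorem KM_lr (i : Fin chevE7.rank) (s : Fin chevE7.nroots) : KM F (Sum.inl i) (Sum.inr s) = 0 := rfl
theorem KM_rr (u s : Fin chevE7.nroots) : KM F (Sum.inr u) (Sum.inr s) = if s.val = 125 - u.val then 1 else 0 := rfl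

theorem KM_symm : (KM F)ᵀ = KM F := by
  ext a b
  rw [Matrix.transpose_apply]
  rcases a with i | u <;> rcases b with j | s
  · rw [KM_ll, KM_ll, car_symm j.val j.2 i.val i.2]
  · rw [KM_rl, KM_lr]
  · rw [KM_rl, KM_lr]
  · rw [KM_rr, KM_rr]
    have hu : u.val < 126 := u.2
    have hs : s.val < 126 := s.2
    have : (u.val = 125 - s.val) ↔ (s.val = 125 - u.val) := by omega
    simp only [this]

/-- the opposite root -/
def ng (u : Fin chevE7.nroots) : Fin chevE7.nroots := ⟨125 - u.val, by
  have hu : u.val < 126 := u.2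
  show 125 - u.val < 126
  omega⟩

theorem ng_val (u : Fin chevE7.nroots) : (ng u).val = 125 - u.val := rfl

theorem sum_KM (u : Fin chevE7.nroots) (f : Fin chevE7.nroots → F) :
    ∑ s, KM F (Sum.inr u) (Sum.inr s) * f s = f (ng u) := by
  rw [Finset.sum_eq_single (ng u)]
  · rw [KM_rr, if_pos (ng_val u), one_mul]
  · intro s _ hs
    rw [KM_rr, if_neg (show ¬ s.val = 125 - u.val from fun h => hs (Fin.ext h)), zero_mul]
  · intro h; exact absurd (Finset.mem_univ _) h

theorem KMEM_ll {r : ℕ} (i j : Fin chevE7.rank) : (KM F * EM F r) (Sum.inl i) (Sum.inl j) = 0 := by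
  rw [Matrix.mul_apply, Fintype.sum_sum_type]
  simp only [EM_ll, KM_lr, mul_zero, zero_mul, Finset.sum_const_zero, add_zero]

theorem KMEM_lr {r : ℕ} (hr : r < 126) (i : Fin chevE7.rank) (s : Fin chevE7.nroots) :
    (KM F * EM F r) (Sum.inl i) (Sum.inr s) = if s.val = 125 - r then (car chevE7 i.val r : F) else 0 := by
  rw [Matrix.mul_apply, Fintype.sum_sum_type]
  simp only [KM_lr, zero_mul, Finset.sum_const_zero, add_zero]
  by_cases hs : s.val = 125 - r
  · simp only [EM_lr, KM_ll, if_pos hs]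
    have h2 := congrArg (Int.cast (R := F)) (sum_car_simple r hr i.val i.2)
    push_cast at h2
    exact h2
  · simp only [EM_lr, if_neg hs, mul_zero, Finset.sum_const_zero]

theorem KMEM_rl {r : ℕ} (u : Fin chevE7.nroots) (j : Fin chevE7.rank) :
    (KM F * EM F r) (Sum.inr u) (Sum.inl j) = if (ng u).val = r then -(car chevE7 j.val r : F) else 0 := by
  rw [Matrix.mul_apply, Fintype.sum_sum_type]
  simp only [KM_rl, zero_mul, Finset.sum_const_zero, zero_add]
  rw [sum_KM u fun s => EM F r (Sum.inr s) (Sum.inl j), EM_rl]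

theorem KMEM_rr {r : ℕ} (u s : Fin chevE7.nroots) :
    (KM F * EM F r) (Sum.inr u) (Sum.inr s) = ((cf r s.val (125 - u.val) : ℤ) : F) := by
  rw [Matrix.mul_apply, Fintype.sum_sum_type]
  simp only [KM_rl, zero_mul, Finset.sum_const_zero, zero_add]
  rw [sum_KM u fun w => EM F r (Sum.inr w) (Sum.inr s), EM_rr, ng_val]

/-- `ad e_r` is skew -/
theorem KM_EM {r : ℕ} (hr : r < 126) : (EM F r)ᵀ * KM F = -(KM F * EM F r) := by
  have h0 : (EM F r)ᵀ * KM F = (KM F * EM F r)ᵀ := by rw [Matrix.transpose_mul, KM_symm]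
  rw [h0]
  ext a b
  rw [Matrix.transpose_apply, Matrix.neg_apply]
  rcases a with i | u <;> rcases b with j | s
  · rw [KMEM_ll, KMEM_ll, neg_zero]
  · rw [KMEM_lr hr, KMEM_rl, ng_val]
    have hs : s.val < 126 := s.2
    have : (125 - s.val = r) ↔ (s.val = 125 - r) := by omega
    simp only [this]
    split_ifs
    · rfl
    · rw [neg_zero]
  · rw [KMEM_lr hr, KMEM_rl, ng_val]
    have hu : u.val < 126 := u.2
    have : (125 - u.val = r) ↔ (u.val = 125 - r) := by omega
    simp only [this]
    split_ifs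
    · rw [neg_neg]
    · rw [neg_zero]
  · rw [KMEM_rr, KMEM_rr]
    have hu : u.val < 126 := u.2
    have hs : s.val < 126 := s.2
    have h1 := cf_opp hr (s := s.val) (u := 125 - u.val) hs (by omega)
    rw [show 125 - (125 - u.val) = u.val by omega] at h1
    rw [h1, Int.cast_neg]

theorem KM_QM {r : ℕ} (hr : r < 126) : (QM F r)ᵀ * KM F = KM F * QM F r := by
  have h0 : (QM F r)ᵀ * KM F = (KM F * QM F r)ᵀ := by rw [Matrix.transpose_mul, KM_symm]
  rw [h0]
  have hl : ∀ (i : Fin chevE7.rank) (b : chevE7.Idx), (KM F * QM F r) (Sum.inl i) b = 0 := by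
    intro i b
    rw [Matrix.mul_apply, Fintype.sum_sum_type]
    rcases b with j | s <;>
    simp only [KM_lr, QM_ll, QM_lr, mul_zero, zero_mul, Finset.sum_const_zero, add_zero]
  have hr' : ∀ (u : Fin chevE7.nroots) (j : Fin chevE7.rank), (KM F * QM F r) (Sum.inr u) (Sum.inl j) = 0 := by
    intro u j
    rw [Matrix.mul_apply, Fintype.sum_sum_type]
    simp only [KM_rl, QM_rl, zero_mul, mul_zero, Finset.sum_const_zero, add_zero]
  have hrr : ∀ u s : Fin chevE7.nroots, (KM F * QM F r) (Sum.inr u) (Sum.inr s) =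
      if s.val = 125 - r then (if u.val = 125 - r then -1 else 0) else 0 := by
    intro u s
    rw [Matrix.mul_apply, Fintype.sum_sum_type]
    simp only [KM_rl, zero_mul, Finset.sum_const_zero, zero_add]
    rw [sum_KM u fun w => QM F r (Sum.inr w) (Sum.inr s), QM_rr, ng_val]
    have hu : u.val < 126 := u.2
    have : (125 - u.val = r) ↔ (u.val = 125 - r) := by omega
    simp only [this]
  ext a b
  rw [Matrix.transpose_apply]
  rcases a with i | u <;> rcases b with j | s
  · rw [hl, hl]
  · rw [hl, hr']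
  · rw [hl, hr']
  · rw [hrr, hrr]
    split_ifs <;> rfl

theorem adM_KM (g : Gh F) : (adM F g)ᵀ * KM F * adM F g = KM F := by
  let S : Subgroup (Gh F) :=
    { carrier := {g | (adM F g)ᵀ * KM F * adM F g = KM F}
      one_mem' := by
        show (adM F 1)ᵀ * KM F * adM F 1 = KM F
        rw [map_one, Matrix.transpose_one, one_mul, mul_one]
      mul_mem' := by
        intro a b ha hb
        change (adM F a)ᵀ * KM F * adM F a = KM F at ha
        change (adM F b)ᵀ * KM F * adM F b = KM F at hb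
        show (adM F (a * b))ᵀ * KM F * adM F (a * b) = KM F
        rw [map_mul, Matrix.transpose_mul]
        calc (adM F b)ᵀ * (adM F a)ᵀ * KM F * (adM F a * adM F b) =
            (adM F b)ᵀ * ((adM F a)ᵀ * KM F * adM F a) * adM F b := by simp only [mul_assoc]
          _ = _ := by rw [ha, hb]
      inv_mem' := by
        intro a ha
        change (adM F a)ᵀ * KM F * adM F a = KM F at ha
        show (adM F a⁻¹)ᵀ * KM F * adM F a⁻¹ = KM F
        have h1 : adM F a * adM F a⁻¹ = 1 := by rw [← map_mul, mul_inv_cancel, map_one]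
        have h2 : (adM F a⁻¹)ᵀ * (adM F a)ᵀ = 1 := by rw [← Matrix.transpose_mul, h1, Matrix.transpose_one]
        calc (adM F a⁻¹)ᵀ * KM F * adM F a⁻¹ = (adM F a⁻¹)ᵀ * ((adM F a)ᵀ * KM F * adM F a) * adM F a⁻¹ := by rw [ha]
          _ = ((adM F a⁻¹)ᵀ * (adM F a)ᵀ) * KM F * (adM F a * adM F a⁻¹) := by simp only [mul_assoc]
          _ = _ := by rw [h1, h2, one_mul, mul_one] }
  refine mem_of_gens (S := S) (fun r hr t => ?_) g
  show (adM F (xs F r t))ᵀ * KM F * adM F (xs F r t) = KM F
  rw [adM_xs hr]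
  have h1 : (1 + t • EM F r + t ^ 2 • QM F r)ᵀ * KM F = KM F * (1 - t • EM F r + t ^ 2 • QM F r) := by
    rw [Matrix.transpose_add, Matrix.transpose_add, Matrix.transpose_one, Matrix.transpose_smul, Matrix.transpose_smul,
      add_mul, add_mul, one_mul, Matrix.smul_mul, Matrix.smul_mul, KM_EM hr, KM_QM hr, mul_add, mul_sub, mul_one,
      Matrix.mul_smul, Matrix.mul_smul, smul_neg, sub_eq_add_neg]
  have h2 : (1 - t • EM F r + t ^ 2 • QM F r) * (1 + t • EM F r + t ^ 2 • QM F r) = 1 := by
    have e1 := EM_EM (F := F) hr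
    have e2 := EM_QM (F := F) hr
    have e3 := QM_EM (F := F) hr
    have e4 := QM_QM (F := F) hr
    simp only [add_mul, sub_mul, mul_add, one_mul, mul_one, Matrix.smul_mul, Matrix.mul_smul, e1, e2, e3, e4, smul_zero,
      smul_smul, add_zero, sub_zero]
    module
  rw [h1, mul_assoc, h2, mul_one]

variable (F)

/-- **the invariant symmetric form** -/
noncomputable def kf : (chevE7.Idx → F) →ₗ[F] (chevE7.Idx → F) →ₗ[F] F :=
  LinearMap.mk₂ F (fun x y => x ⬝ᵥ KM F *ᵥ y) (fun x x' y => add_dotProduct _ _ _) (fun c x y => smul_dotProduct _ _ _)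
    (fun x y y' => by rw [Matrix.mulVec_add, dotProduct_add]) (fun c x y => by rw [Matrix.mulVec_smul, dotProduct_smul])

variable {F}

theorem kf_apply (x y : chevE7.Idx → F) : kf F x y = x ⬝ᵥ KM F *ᵥ y := rfl

/-- the form is invariant -/
theorem kf_L (g : Gh F) (x y : chevE7.Idx → F) : kf F (L F g x) (L F g y) = kf F x y := by
  rw [kf_apply, kf_apply, L_apply, L_apply]
  have h := adM_KM g
  conv_rhs => rw [← h]
  rw [← Matrix.mulVec_mulVec, ← Matrix.mulVec_mulVec, Matrix.dotProduct_mulVec x (adM F g)ᵀ, Matrix.vecMul_transpose]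
  rfl

/-- the form is symmetric -/
theorem kf_comm (x y : chevE7.Idx → F) : kf F x y = kf F y x := by
  rw [kf_apply, kf_apply, Matrix.dotProduct_mulVec, ← Matrix.mulVec_transpose, KM_symm, dotProduct_comm]

theorem KM_mulVec_inr (y : chevE7.Idx → F) (u : Fin chevE7.nroots) : (KM F *ᵥ y) (Sum.inr u) = y (Sum.inr (ng u)) := by
  rw [Matrix.mulVec, dotProduct, Fintype.sum_sum_type]
  simp only [KM_rl, zero_mul, Finset.sum_const_zero, zero_add]
  exact sum_KM u fun w => y (Sum.inr w)

theorem KM_mulVec_inl (y : chevE7.Idx → F) (i : Fin chevE7.rank) : (KM F *ᵥ y) (Sum.inl i) =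
    ∑ j : Fin chevE7.rank, (car chevE7 i.val (chevE7.simple j.val) : F) * y (Sum.inl j) := by
  rw [Matrix.mulVec, dotProduct, Fintype.sum_sum_type]
  simp only [KM_lr, zero_mul, Finset.sum_const_zero, add_zero, KM_ll]

/-- twice the inverse of the Cartan matrix -/
def iC : List (List ℤ) := [[4, 4, 6, 8, 6, 4, 2], [4, 7, 8, 12, 9, 6, 3], [6, 8, 12, 16, 12, 8, 4],
  [8, 12, 16, 24, 18, 12, 6], [6, 9, 12, 18, 15, 10, 5], [4, 6, 8, 12, 10, 8, 4], [2, 3, 4, 6, 5, 4, 3]]

theorem iC_mul : ∀ k < 7, ∀ i < 7, ∑ j : Fin 7, (iC.getD k []).getD j.val 0 * car chevE7 j.val (chevE7.simple i) =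
    if k = i then 2 else 0 := by decide +kernel

/-- the Cartan matrix is invertible in odd characteristic -/
theorem cartan_inj (h2 : (2 : F) ≠ 0) {y : Fin chevE7.rank → F}
    (h : ∀ i : Fin chevE7.rank, ∑ j : Fin chevE7.rank, (car chevE7 i.val (chevE7.simple j.val) : F) * y j = 0) : y = 0 := by
  funext k
  have h1 : ∑ i : Fin chevE7.rank, (((iC.getD k.val []).getD i.val 0 : ℤ) : F) *
      (∑ j : Fin chevE7.rank, (car chevE7 i.val (chevE7.simple j.val) : F) * y j) = 0 :=
    Finset.sum_eq_zero fun i _ => by rw [h, mul_zero]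
  have h3 : ∑ i : Fin chevE7.rank, (((iC.getD k.val []).getD i.val 0 : ℤ) : F) *
      (∑ j : Fin chevE7.rank, (car chevE7 i.val (chevE7.simple j.val) : F) * y j) =
      ∑ j : Fin chevE7.rank, ((∑ i : Fin chevE7.rank, (iC.getD k.val []).getD i.val 0 *
        car chevE7 i.val (chevE7.simple j.val) : ℤ) : F) * y j := by
    push_cast
    simp only [Finset.mul_sum, Finset.sum_mul]
    rw [Finset.sum_comm]
    exact Finset.sum_congr rfl fun i _ => Finset.sum_congr rfl fun j _ => (mul_assoc _ _ _).symm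
  rw [h3] at h1
  have h4 : ∀ j : Fin chevE7.rank, (∑ i : Fin chevE7.rank, (iC.getD k.val []).getD i.val 0 *
        car chevE7 i.val (chevE7.simple j.val) : ℤ) = if k = j then 2 else 0 := by
    intro j
    have h5 := iC_mul k.val k.2 j.val j.2
    have h6 : (k.val = j.val) ↔ (k = j) := ⟨fun h => Fin.ext h, fun h => congrArg Fin.val h⟩
    simp only [h6] at h5
    exact h5
  simp only [h4] at h1
  rw [Finset.sum_eq_single k] at h1
  · rw [if_pos rfl] at h1
    push_cast at h1
    exact (mul_eq_zero.1 h1).resolve_left h2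
  · intro j _ hj
    rw [if_neg (Ne.symm hj), Int.cast_zero, zero_mul]
  · intro h; exact absurd (Finset.mem_univ _) h

/-- the form is nondegenerate in odd characteristic -/
theorem kf_nondeg (h2 : (2 : F) ≠ 0) {y : chevE7.Idx → F} (h : ∀ x, kf F x y = 0) : y = 0 := by
  have h1 : ∀ a, (KM F *ᵥ y) a = 0 := by
    intro a
    have h3 := h (Pi.single a 1)
    rwa [kf_apply, single_one_dotProduct] at h3
  funext a
  rcases a with i | u
  · have h3 := cartan_inj h2 (y := fun j => y (Sum.inl j)) (fun i => by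
      rw [← KM_mulVec_inl]; exact h1 _)
    exact congrFun h3 i
  · have h3 := h1 (Sum.inr (ng u))
    rw [KM_mulVec_inr] at h3
    have h4 : ng (ng u) = u := Fin.ext (by
      have hu : u.val < 126 := u.2
      rw [ng_val, ng_val]; omega)
    rwa [h4] at h3

/-! ### irreducibility -/

/-- the basis of root vectors -/
def er (F : Type u) [Field F] (s : Fin chevE7.nroots) : chevE7.Idx → F := Pi.single (Sum.inr s) 1

/-- the basis of the Cartan subalgebra -/
def eh (F : Type u) [Field F] (i : Fin chevE7.rank) : chevE7.Idx → F := Pi.single (Sum.inl i) 1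

theorem L_xs {r : ℕ} (hr : r < 126) (t : F) (x : chevE7.Idx → F) :
    L F (xs F r t) x = x + t • (EM F r *ᵥ x) + t ^ 2 • (QM F r *ᵥ x) := by
  rw [L_apply]
  change adM F (xs F r t) *ᵥ x = _
  rw [adM_xs hr, Matrix.add_mulVec, Matrix.add_mulVec, Matrix.one_mulVec, Matrix.smul_mulVec, Matrix.smul_mulVec]

theorem QM_mulVec {r : Fin chevE7.nroots} (x : chevE7.Idx → F) :
    QM F r.val *ᵥ x = (-(x (Sum.inr (ng r)))) • er F r := by
  funext a
  rw [Matrix.mulVec, dotProduct, Fintype.sum_sum_type, Pi.smul_apply, smul_eq_mul, er]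
  rcases a with i | u
  · simp only [QM_ll, QM_lr, zero_mul, Finset.sum_const_zero, add_zero]
    rw [Pi.single_eq_of_ne (by simp), mul_zero]
  · simp only [QM_rl, zero_mul, Finset.sum_const_zero, zero_add]
    rw [Finset.sum_eq_single (ng r)]
    · rw [QM_rr, if_pos (ng_val r)]
      by_cases h : u = r
      · subst h
        rw [if_pos rfl, Pi.single_eq_same]; ring
      · rw [if_neg (fun h' => h (Fin.ext h')), Pi.single_eq_of_ne (by simp [h]), zero_mul, mul_zero]
    · intro s _ hs
      rw [QM_rr, if_neg (show ¬ s.val = 125 - r.val from fun h => hs (Fin.ext h)), zero_mul]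
    · intro h; exact absurd (Finset.mem_univ _) h

theorem EM_er_neg {r : ℕ} (hr : r < 126) (s : Fin chevE7.nroots) (hs : s.val = 125 - r) :
    EM F r *ᵥ er F s = ∑ i : Fin chevE7.rank, (cor chevE7 r i.val : F) • eh F i := by
  rw [er, Matrix.mulVec_single_one]
  funext a
  rw [Matrix.col_apply, Finset.sum_apply]
  simp only [Pi.smul_apply, smul_eq_mul, eh]
  rcases a with i | u
  · rw [EM_lr, if_pos hs, Finset.sum_eq_single i]
    · rw [Pi.single_eq_same, mul_one]
    · intro j _ hj
      rw [Pi.single_eq_of_ne (by simp [Ne.symm hj]), mul_zero]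
    · intro h; exact absurd (Finset.mem_univ _) h
  · rw [EM_rr, hs, cf_nil (F7_neg hr), Int.cast_zero]
    exact (Finset.sum_eq_zero fun i _ => by rw [Pi.single_eq_of_ne (by simp), mul_zero]).symm

theorem EM_er {r : ℕ} (s u : Fin chevE7.nroots) {c : ℤ} (h : F7 r s.val = [(u.val, c)]) (hr : r < 126) :
    EM F r *ᵥ er F s = (c : F) • er F u := by
  have hs : s.val ≠ 125 - r := by
    intro h1
    rw [h1, F7_neg hr] at h
    exact absurd h (by simp)
  rw [er, Matrix.mulVec_single_one]
  funext a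
  rw [Matrix.col_apply, Pi.smul_apply, smul_eq_mul, er]
  rcases a with i | w
  · rw [EM_lr, if_neg hs, Pi.single_eq_of_ne (by simp), mul_zero]
  · rw [EM_rr, cf_cons h]
    by_cases hw : w = u
    · subst hw
      rw [if_pos rfl, Pi.single_eq_same, mul_one]
    · rw [if_neg (fun h' => hw (Fin.ext h'.symm)), Pi.single_eq_of_ne (by simp [hw]), Int.cast_zero, mul_zero]

def chkUp7 (r : ℕ) : Bool := (List.range 7).any fun i => match F7 (chevE7.simple i) r with
  | [x] => decide (r < x.1) && decide (x.1 < 126) && decide (F7 (125 - chevE7.simple i) x.1 = [(r, x.2)])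
  | _ => false

theorem chkUp7_true : ∀ r < 125, 63 ≤ r → chkUp7 r = true := by decide +kernel

theorem up7 : ∀ r < 125, 63 ≤ r → ∃ i < 7, ∃ u < 126, ∃ c : ℤ, r < u ∧ F7 (chevE7.simple i) r = [(u, c)] ∧
    F7 (125 - chevE7.simple i) u = [(r, c)] := by
  intro r hr h63
  obtain ⟨i, hi, h⟩ := List.any_eq_true.1 (chkUp7_true r hr h63)
  rcases hl : F7 (chevE7.simple i) r with _ | ⟨x, _ | ⟨y, ys⟩⟩
  · rw [hl] at h; exact Bool.noConfusion h
  · rw [hl] at h
    simp only [Bool.and_eq_true, decide_eq_true_eq] at h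
    exact ⟨i, List.mem_range.1 hi, x.1, h.1.2, x.2, h.1.1, hl, h.2⟩
  · rw [hl] at h; exact Bool.noConfusion h

theorem simple7_lt : ∀ i < 7, chevE7.simple i < 126 := by decide +kernel

theorem cor_simple : ∀ i < 7, ∀ j < 7, cor chevE7 (chevE7.simple i) j = if j = i then 1 else 0 := by decide +kernel

section irr
variable (h2 : (2 : F) ≠ 0) {W : Submodule F (chevE7.Idx → F)} (hW : ∀ g : Gh F, ∀ w ∈ W, L F g w ∈ W)

include h2 hW

theorem EM_mem {r : ℕ} (hr : r < 126) {w : chevE7.Idx → F} (hw : w ∈ W) : EM F r *ᵥ w ∈ W := by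
  have h1 := sub_mem (hW (xs F r 1) w hw) (hW (xs F r (-1)) w hw)
  rw [L_xs hr, L_xs hr] at h1
  have h3 : w + (1 : F) • (EM F r *ᵥ w) + (1 : F) ^ 2 • (QM F r *ᵥ w) -
      (w + (-1 : F) • (EM F r *ᵥ w) + (-1 : F) ^ 2 • (QM F r *ᵥ w)) = (2 : F) • (EM F r *ᵥ w) := by module
  rw [h3] at h1
  exact (Submodule.smul_mem_iff _ h2).1 h1

theorem QM_mem {r : ℕ} (hr : r < 126) {w : chevE7.Idx → F} (hw : w ∈ W) : QM F r *ᵥ w ∈ W := by
  have h1 := sub_mem (add_mem (hW (xs F r 1) w hw) (hW (xs F r (-1)) w hw)) (W.smul_mem 2 hw)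
  rw [L_xs hr, L_xs hr] at h1
  have h3 : w + (1 : F) • (EM F r *ᵥ w) + (1 : F) ^ 2 • (QM F r *ᵥ w) +
      (w + (-1 : F) • (EM F r *ᵥ w) + (-1 : F) ^ 2 • (QM F r *ᵥ w)) - (2 : F) • w = (2 : F) • (QM F r *ᵥ w) := by module
  rw [h3] at h1
  exact (Submodule.smul_mem_iff _ h2).1 h1

theorem er_of_coord {w : chevE7.Idx → F} (hw : w ∈ W) {r : Fin chevE7.nroots} (h : w (Sum.inr (ng r)) ≠ 0) :
    er F r ∈ W := by
  have h1 := QM_mem h2 hW (r := r.val) r.2 hw
  rw [QM_mulVec] at h1
  exact (Submodule.smul_mem_iff _ (neg_ne_zero.2 h)).1 h1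

omit h2 hW in
theorem ng_ng (u : Fin chevE7.nroots) : ng (ng u) = u := Fin.ext (by
  have hu : u.val < 126 := u.2
  rw [ng_val, ng_val]; omega)

theorem er_ng {r : Fin chevE7.nroots} (h : er F r ∈ W) : er F (ng r) ∈ W := by
  refine er_of_coord h2 hW h ?_
  rw [ng_ng, er, Pi.single_eq_same]
  exact one_ne_zero

theorem er_step {r : ℕ} (hr : r < 126) {s u : Fin chevE7.nroots} {c : ℤ} (h : F7 r s.val = [(u.val, c)])
    (hs : er F s ∈ W) : er F u ∈ W := by
  have h1 := EM_mem h2 hW hr hs
  rw [EM_er s u h hr] at h1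
  have hc : (c : F) ≠ 0 := by
    rcases F7_cases hr s.val with h3 | ⟨u', c', h3, -, -, h4, -⟩
    · rw [h] at h3; exact absurd h3 (by simp)
    · rw [h] at h3
      simp only [List.cons.injEq, Prod.mk.injEq, and_true] at h3
      rw [← h3.2] at h4
      exact cast_ne h4
  exact (Submodule.smul_mem_iff _ hc).1 h1

/-- the top root -/
theorem er_top {s : Fin chevE7.nroots} (hs : er F s ∈ W) : ∃ u : Fin chevE7.nroots, u.val = 125 ∧ er F u ∈ W := by
  have key : ∀ k : ℕ, ∀ s : Fin chevE7.nroots, 63 ≤ s.val → 125 ≤ s.val + k → er F s ∈ W →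
      ∃ u : Fin chevE7.nroots, u.val = 125 ∧ er F u ∈ W := by
    intro k
    induction k with
    | zero =>
      intro s _ hk h
      have : s.val < 126 := s.2
      exact ⟨s, by omega, h⟩
    | succ k ih =>
      intro s h63 hk h
      have hs : s.val < 126 := s.2
      by_cases h125 : s.val = 125
      · exact ⟨s, h125, h⟩
      obtain ⟨i, hi, u, hu, c, h3, h4, -⟩ := up7 s.val (by omega) h63
      exact ih ⟨u, hu⟩ (by show 63 ≤ u; omega) (by show 125 ≤ u + k; omega)
        (er_step h2 hW (simple7_lt i hi) (s := s) (u := ⟨u, hu⟩) h4 h)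
  by_cases h63 : 63 ≤ s.val
  · exact key 125 s h63 (by omega) hs
  · exact key 125 (ng s) (by rw [ng_val]; omega) (by omega) (er_ng h2 hW hs)

theorem er_all {s : Fin chevE7.nroots} (hs : er F s ∈ W) (u : Fin chevE7.nroots) : er F u ∈ W := by
  obtain ⟨v, hv, hvW⟩ := er_top h2 hW hs
  have key : ∀ k : ℕ, ∀ u : Fin chevE7.nroots, 63 ≤ u.val → 125 ≤ u.val + k → er F u ∈ W := by
    intro k
    induction k with
    | zero =>
      intro u _ hk
      have hu : u.val < 126 := u.2
      have : u = v := Fin.ext (by omega)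
      rw [this]; exact hvW
    | succ k ih =>
      intro u h63 hk
      have hu : u.val < 126 := u.2
      by_cases h125 : u.val = 125
      · have : u = v := Fin.ext (by omega)
        rw [this]; exact hvW
      obtain ⟨i, hi, w, hw, c, h3, -, h4⟩ := up7 u.val (by omega) h63
      exact er_step h2 hW (r := 125 - chevE7.simple i) (by omega) (s := ⟨w, hw⟩) (u := u) h4
        (ih ⟨w, hw⟩ (by show 63 ≤ w; omega) (by show 125 ≤ w + k; omega))
  by_cases h63 : 63 ≤ u.val
  · exact key 125 u h63 (by omega)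
  · have h3 := key 125 (ng u) (by rw [ng_val]; omega) (by omega)
    have h4 := er_ng h2 hW h3
    rwa [ng_ng] at h4

/-- **the adjoint module is irreducible in odd characteristic** -/
theorem irrL_aux (h0 : W ≠ ⊥) : W = ⊤ := by
  obtain ⟨w, hw, hw0⟩ := Submodule.exists_mem_ne_zero_of_ne_bot h0
  obtain ⟨s, hs⟩ : ∃ s, er F s ∈ W := by
    by_cases h : ∃ u : Fin chevE7.nroots, w (Sum.inr u) ≠ 0
    · obtain ⟨u, hu⟩ := h
      exact ⟨ng u, er_of_coord h2 hW hw (by rw [ng_ng]; exact hu)⟩
    · push Not at h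
      -- some simple root does not vanish
      obtain ⟨i, hi⟩ : ∃ i : Fin chevE7.rank, ∑ j : Fin chevE7.rank,
          (car chevE7 i.val (chevE7.simple j.val) : F) * w (Sum.inl j) ≠ 0 := by
        by_contra hcon
        push Not at hcon
        apply hw0
        have h3 := cartan_inj h2 (y := fun j => w (Sum.inl j)) hcon
        funext a
        rcases a with j | u
        · exact congrFun h3 j
        · exact h u
      have hlt := simple7_lt i.val i.2
      have h3 := EM_mem h2 hW hlt hw
      have h4 : EM F (chevE7.simple i.val) *ᵥ w =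
          (-∑ j : Fin chevE7.rank, (car chevE7 i.val (chevE7.simple j.val) : F) * w (Sum.inl j)) •
            er F ⟨chevE7.simple i.val, hlt⟩ := by
        funext a
        rw [Matrix.mulVec, dotProduct, Fintype.sum_sum_type, Pi.smul_apply, smul_eq_mul, er]
        simp only [h, mul_zero, Finset.sum_const_zero, add_zero]
        rcases a with j | u
        · simp only [EM_ll, zero_mul, Finset.sum_const_zero]
          rw [Pi.single_eq_of_ne (by simp), mul_zero]
        · simp only [EM_rl]
          by_cases hu : u = ⟨chevE7.simple i.val, hlt⟩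
          · subst hu
            rw [Pi.single_eq_same, mul_one, ← Finset.sum_neg_distrib]
            refine Finset.sum_congr rfl fun j _ => ?_
            rw [if_pos rfl, neg_mul, car_symm j.val j.2 i.val i.2]
          · rw [Pi.single_eq_of_ne (by simp [hu]), mul_zero]
            refine Finset.sum_eq_zero fun j _ => ?_
            rw [if_neg (fun h' => hu (Fin.ext h')), zero_mul]
      rw [h4] at h3
      exact ⟨_, (Submodule.smul_mem_iff _ (neg_ne_zero.2 hi)).1 h3⟩
  have hall := er_all h2 hW hs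
  have hh : ∀ i : Fin chevE7.rank, eh F i ∈ W := by
    intro i
    have hlt := simple7_lt i.val i.2
    have h3 := EM_mem h2 hW hlt (hall (ng ⟨chevE7.simple i.val, hlt⟩))
    rw [EM_er_neg hlt _ (ng_val _), Finset.sum_eq_single i] at h3
    · rw [cor_simple i.val i.2 i.val i.2, if_pos rfl, Int.cast_one, one_smul] at h3
      exact h3
    · intro j _ hj
      rw [cor_simple i.val i.2 j.val j.2, if_neg (fun h => hj (Fin.ext h)), Int.cast_zero, zero_smul]
    · intro h; exact absurd (Finset.mem_univ _) h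
  rw [eq_top_iff]
  intro v _
  have hv : v = ∑ j, v j • (Pi.single j (1 : F) : chevE7.Idx → F) := by
    ext k
    simp [Finset.sum_apply, Pi.single_apply]
  rw [hv]
  refine Submodule.sum_mem _ fun j _ => W.smul_mem _ ?_
  rcases j with i | r
  · exact hh i
  · exact hall r

end irr

end

end Cfsg.Agent.R2.T1
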