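import Mathlib
import Cfsg.Agent.H699.IBrGen
import Cfsg.Agent.Blocks.ExistsModular
import Cfsg.Agent.H952.F4.Defs
import Cfsg.Agent.H952.F4.Chg

/-!
# Artin's formula for the dimensions of the spaces of invariants in coprime characteristic (helper11)

* `sum_bc` : for a group `T` of order prime to `p`, the sum of the values of the Brauer character of `σ` is
  `|T| · dim (invariants)`;
* `om σ x` : the average of the values of the Brauer character at the generators of `⟨x⟩`, in terms of the dimensions
  of the fixed spaces of the powers of `x`;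
* `artin` : `|T| · dim (invariants) = ∑ x : T, om σ x`, over any field of characteristic `p` embedded in the residue field,
  in particular over finite fields;
* `om_one`, `om_prime`, `om_four`, `om_six`, ... : the values.
-/

set_option autoImplicit false

universe u v

namespace Cfsg.Agent.R2.T1.Art

open Cfsg IsLocalRing Module Polynomial Cfsg.Agent.H657 Cfsg.Agent.H699.IBrLift
open Cfsg.Agent.H952.F4 (ev es)

attribute [local instance] Above.isAlgClosed

section proj

variable {K : Type*} [Field K] {W : Type*} [AddCommGroup W] [Module K W] [FiniteDimensional K W]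

theorem det_proj {U : Submodule K W} {e : Module.End K W} (he : LinearMap.IsProj U e) (t : K) :
    LinearMap.det (e + t • (1 - e)) = t ^ (finrank K W - finrank K ↥U) := by
  have hc := he.isCompl
  have h1 : e + t • (1 - e) = (U.prodEquivOfIsCompl (LinearMap.ker e) hc).conj
      (LinearMap.prodMap LinearMap.id (t • LinearMap.id)) := by
    have h2 : (1 : Module.End K W) = (U.prodEquivOfIsCompl (LinearMap.ker e) hc).conj
        (LinearMap.prodMap LinearMap.id LinearMap.id) := by
      rw [LinearMap.prodMap_id, LinearEquiv.conj_id]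
      rfl
    have h3 := he.eq_conj_prodMap
    have h4 : e + t • (1 - e) = (U.prodEquivOfIsCompl (LinearMap.ker e) hc).conj (LinearMap.prodMap LinearMap.id 0) +
        t • ((U.prodEquivOfIsCompl (LinearMap.ker e) hc).conj (LinearMap.prodMap LinearMap.id LinearMap.id) -
        (U.prodEquivOfIsCompl (LinearMap.ker e) hc).conj (LinearMap.prodMap LinearMap.id 0)) := by
      rw [← h2, ← h3]
    rw [h4, ← map_sub, ← map_smul, ← map_add]
    congr 1
    refine LinearMap.ext fun x => ?_
    refine Prod.ext ?_ ?_
    · simp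
    · simp
  rw [h1, LinearEquiv.conj_apply, LinearMap.comp_assoc, LinearMap.det_conj, LinearMap.det_prodMap, LinearMap.det_id,
    one_mul, LinearMap.det_smul, LinearMap.det_id, mul_one]
  congr 1
  have h3 := Submodule.finrank_add_eq_of_isCompl hc
  omega

end proj

section resid

variable {V : ValuationSubring ℂ} {T : Type u} [Group T] [Finite T] {M : Ideal AlgInt} {p : ℕ}

theorem det_avg {K : Type*} [Field K] {W : Type*} [AddCommGroup W] [Module K W] [FiniteDimensional K W]
    {T : Type*} [Group T] [Fintype T] [Invertible (Fintype.card T : K)] (σ : Representation K T W) (t : K) :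
    LinearMap.det (σ.asAlgebraHom (GroupAlgebra.average K T + t • (1 - GroupAlgebra.average K T))) =
      t ^ (finrank K W - finrank K ↥σ.invariants) := by
  rw [map_add, map_smul, map_sub, map_one]
  exact det_proj σ.isProj_averageMap t

/-- the dimension of the invariants is additive -/
theorem sum_inv {K : Type*} [Field K] [Infinite K] {W : Type*} [AddCommGroup W] [Module K W] [FiniteDimensional K W]
    {T : Type*} [Group T] [Fintype T] (hT : (Fintype.card T : K) ≠ 0) (σ : Representation K T W) {m : ℕ} {n : Fin m → ℕ}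
    (σ' : ∀ l, Representation K T (Fin (n l) → K))
    (h : ∀ a : MonoidAlgebra K T, LinearMap.det (σ.asAlgebraHom a) = ∏ l, LinearMap.det ((σ' l).asAlgebraHom a)) :
    finrank K ↥σ.invariants = ∑ l, finrank K ↥(σ' l).invariants := by
  have : Invertible (Fintype.card T : K) := invertibleOfNonzero hT
  have hinj : ∀ {a b : ℕ}, (∀ t : K, t ^ a = t ^ b) → a = b := by
    intro a b hab
    have h1 : (X ^ a : K[X]) = X ^ b := Polynomial.funext fun t => by
      rw [eval_pow, eval_X, eval_pow, eval_X, hab]
    have h2 := congrArg natDegree h1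
    rwa [natDegree_X_pow, natDegree_X_pow] at h2
  have h1 : finrank K W = ∑ l, n l := by
    apply hinj
    intro t
    have h2 := h (t • 1)
    simp only [map_smul, map_one] at h2
    rw [LinearMap.det_smul, map_one, mul_one] at h2
    rw [h2, ← Finset.prod_pow_eq_pow_sum]
    refine Finset.prod_congr rfl fun l _ => ?_
    rw [LinearMap.det_smul, map_one, mul_one, finrank_fin_fun]
  have h2 : finrank K W - finrank K ↥σ.invariants = ∑ l, (n l - finrank K ↥(σ' l).invariants) := by
    apply hinj
    intro t
    rw [← det_avg σ t, h, ← Finset.prod_pow_eq_pow_sum]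
    refine Finset.prod_congr rfl fun l _ => ?_
    rw [det_avg, finrank_fin_fun]
  have h3 : finrank K ↥σ.invariants ≤ finrank K W := Submodule.finrank_le _
  have h4 : ∀ l, finrank K ↥(σ' l).invariants ≤ n l := fun l => by
    have := Submodule.finrank_le (σ' l).invariants
    rwa [finrank_fin_fun] at this
  have h5 : ∑ l, n l = ∑ l, (n l - finrank K ↥(σ' l).invariants) + ∑ l, finrank K ↥(σ' l).invariants := by
    rw [← Finset.sum_add_distrib]
    exact Finset.sum_congr rfl fun l _ => by have := h4 l; omega
  omega

theorem inv_eq {K : Type*} [Field K] {W : Type*} [AddCommGroup W] [Module K W] {T : Type*} [Group T]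
    {σ : Representation K T W} (hσ : σ.IsIrreducible) : σ.invariants = ⊥ ∨ σ.invariants = ⊤ := by
  let U : Subrepresentation σ := ⟨σ.invariants, fun g v hv => by
    have h1 : σ g v = v := (Representation.mem_invariants _ _).1 hv g
    rw [h1]
    exact hv⟩
  have := hσ
  rcases this.eq_bot_or_eq_top U with h | h
  · left
    exact congrArg Subrepresentation.toSubmodule h
  · right
    exact congrArg Subrepresentation.toSubmodule h

theorem sum_trace {K : Type*} [Field K] {W : Type*} [AddCommGroup W] [Module K W] [FiniteDimensional K W]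
    {T : Type*} [Group T] [Fintype T] (hT : (Fintype.card T : K) ≠ 0) (σ : Representation K T W) :
    ∑ g, LinearMap.trace K W (σ g) = (Fintype.card T : K) * (finrank K ↥σ.invariants : K) := by
  have : Invertible (Fintype.card T : K) := invertibleOfNonzero hT
  have h1 := σ.isProj_averageMap.trace
  rw [← h1]
  have h2 : (Fintype.card T : K) • σ.averageMap = ∑ g, σ g := by
    rw [Representation.averageMap, GroupAlgebra.average, map_smul, map_sum, smul_smul, mul_invOf_self, one_smul]
    refine Finset.sum_congr rfl fun g _ => ?_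
    rw [MonoidAlgebra.of_apply, Representation.asAlgebraHom_single, one_smul]
  rw [← smul_eq_mul, ← map_smul, h2, map_sum]

theorem irr_sum [Fintype T] (hM : IsPModular p M) (hV : Above M V) (hcard : ¬ p ∣ Nat.card T) {n : ℕ}
    (σ : Representation (ResidueField V) T (Fin n → ResidueField V)) (hσ : σ.IsIrreducible) :
    ∑ g, bc p σ g = (Fintype.card T : ℂ) * (finrank (ResidueField V) ↥σ.invariants : ℂ) := by
  have hp : Fact p.Prime := ⟨hM.1⟩
  have hch : CharP (ResidueField V) p := hV.charP hM
  have hT : (Fintype.card T : ResidueField V) ≠ 0 := by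
    intro h
    rw [CharP.cast_eq_zero_iff (ResidueField V) p, ← Nat.card_eq_fintype_card] at h
    exact hcard h
  rcases inv_eq hσ with h | h
  · rw [h, finrank_bot, Nat.cast_zero, mul_zero]
    let i : IBr V T := ⟨fun g => LinearMap.trace (ResidueField V) _ (σ g), n, σ, hσ, fun _ => rfl⟩
    have hreg := isPRegular_of_card (p := p) hcard
    have h1 : ∀ g, bc p σ g = phi p i g := fun g => (phi_eq_bc i σ hσ (fun _ => rfl) (hreg g)).symm
    obtain ⟨N, ρ, hρ, hρi⟩ := isIrrCharacter_phi hM hV hcard i
    have hTC : (Fintype.card T : ℂ) ≠ 0 := by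
      have : 0 < Fintype.card T := Fintype.card_pos
      exact_mod_cast this.ne'
    have h2 : ∑ g, bc p σ g = (Fintype.card T : ℂ) * (finrank ℂ ↥ρ.invariants : ℂ) := by
      rw [← sum_trace hTC ρ]
      refine Finset.sum_congr rfl fun g _ => ?_
      rw [h1, ← hρi]
      rfl
    rw [h2]
    rcases inv_eq hρ with h3 | h3
    · rw [h3, finrank_bot, Nat.cast_zero, mul_zero]
    · exfalso
      -- the trivial character
      have htriv : ∀ g v, ρ g v = v := by
        intro g v
        have h4 : v ∈ ρ.invariants := by rw [h3]; trivial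
        exact (Representation.mem_invariants _ _).1 h4 g
      have hone : ∀ g, bc p σ g = (N : ℂ) := by
        intro g
        rw [h1, ← hρi]
        show LinearMap.trace ℂ _ (ρ g) = _
        have h4 : ρ g = 1 := LinearMap.ext (htriv g)
        rw [h4, LinearMap.trace_one, finrank_fin_fun]
      have hN : N = 1 := by
        have hne := finrank_ne_zero' ρ hρ
        rw [finrank_fin_fun] at hne
        by_contra hN1
        obtain ⟨v, hv⟩ : ∃ v : Fin N → ℂ, v ≠ 0 := by
          have : Nonempty (Fin N) := ⟨⟨0, Nat.pos_of_ne_zero hne⟩⟩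
          exact ⟨fun _ => 1, fun h => one_ne_zero (congrFun h this.some)⟩
        let U : Subrepresentation ρ := ⟨Submodule.span ℂ {v}, fun g w hw => by rw [htriv]; exact hw⟩
        have := hρ
        rcases this.eq_bot_or_eq_top U with h4 | h4
        · have h5 : Submodule.span ℂ {v} = ⊥ := congrArg Subrepresentation.toSubmodule h4
          exact hv (Submodule.span_singleton_eq_bot.1 h5)
        · have h5 : Submodule.span ℂ {v} = ⊤ := congrArg Subrepresentation.toSubmodule h4
          have h6 := finrank_span_singleton (K := ℂ) hv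
          rw [h5, finrank_top, finrank_fin_fun] at h6
          exact hN1 h6
      have h4 := sum_trace hT σ
      rw [h, finrank_bot, Nat.cast_zero, mul_zero] at h4
      have h5 : ∀ g, LinearMap.trace (ResidueField V) _ (σ g) = 1 := by
        intro g
        obtain ⟨z, hz1, hz2⟩ := bc_spec (p := p) σ (hreg g)
        rw [← hz2]
        have h6 : (z : ℂ) = ((1 : V) : ℂ) := by rw [← hz1, hone, hN]; simp
        rw [Subtype.ext h6, map_one]
      rw [Finset.sum_congr rfl fun g _ => h5 g, Finset.sum_const, Finset.card_univ, nsmul_eq_mul, mul_one] at h4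
      exact hT h4
  · have h1 : ∀ g, bc p σ g = (n : ℂ) := by
      intro g
      have h2 : σ g = σ 1 := by
        rw [map_one]
        refine LinearMap.ext fun v => ?_
        have h4 : v ∈ σ.invariants := by rw [h]; trivial
        exact (Representation.mem_invariants _ _).1 h4 g
      have h3 : bc p σ g = bc p σ 1 := by unfold bc; rw [h2]
      rw [h3, bc_one, finrank_fin_fun]
    rw [Finset.sum_congr rfl fun g _ => h1 g, Finset.sum_const, Finset.card_univ, nsmul_eq_mul, h, finrank_top,
      finrank_fin_fun]

/-- **the sum of the values of the Brauer character** -/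
theorem sum_bc [Fintype T] (hM : IsPModular p M) (hV : Above M V) (hcard : ¬ p ∣ Nat.card T) {W : Type v}
    [AddCommGroup W] [Module (ResidueField V) W] [FiniteDimensional (ResidueField V) W]
    (σ : Representation (ResidueField V) T W) :
    ∑ g, bc p σ g = (Fintype.card T : ℂ) * (finrank (ResidueField V) ↥σ.invariants : ℂ) := by
  have hp : Fact p.Prime := ⟨hM.1⟩
  have hch : CharP (ResidueField V) p := hV.charP hM
  have hinf : Infinite (ResidueField V) := IsAlgClosed.instInfinite
  have hT : (Fintype.card T : ResidueField V) ≠ 0 := by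
    intro h
    rw [CharP.cast_eq_zero_iff (ResidueField V) p, ← Nat.card_eq_fintype_card] at h
    exact hcard h
  obtain ⟨m, n, σ', hσ', hdet⟩ := Factors.exists_factors σ
  have hpoly : ∀ g, LinearMap.charpoly (σ g) = ∏ l, LinearMap.charpoly (σ' l g) := by
    intro g
    refine Polynomial.funext fun t => ?_
    have h2 := hdet (MonoidAlgebra.single 1 t - MonoidAlgebra.single g 1)
    rw [map_sub, Representation.asAlgebraHom_single, Representation.asAlgebraHom_single, map_one,
      one_smul, ← Algebra.algebraMap_eq_smul_one, ← LinearMap.eval_charpoly] at h2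
    rw [h2, eval_prod]
    refine Finset.prod_congr rfl fun l _ => ?_
    rw [map_sub, Representation.asAlgebraHom_single, Representation.asAlgebraHom_single, map_one,
      one_smul, ← Algebra.algebraMap_eq_smul_one, ← LinearMap.eval_charpoly]
  have hbc : ∀ g, bc p σ g = ∑ l, bc p (σ' l) g := by
    intro g
    unfold bc
    rw [hpoly, roots_prod _ _ (Finset.prod_ne_zero_iff.2 fun i _ =>
      (LinearMap.charpoly_monic _).ne_zero), Multiset.map_bind, Multiset.sum_bind]
    rfl
  rw [Finset.sum_congr rfl fun g _ => hbc g, Finset.sum_comm, sum_inv hT σ σ' hdet, Nat.cast_sum, Finset.mul_sum]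
  exact Finset.sum_congr rfl fun l _ => irr_sum hM hV hcard (σ' l) (hσ' l)


/-! ### cyclic groups -/

/-- the rational average of the Brauer character at the generators of `⟨x⟩` -/
noncomputable def om {K : Type*} [Field K] {W : Type*} [AddCommGroup W] [Module K W] {T : Type*} [Group T]
    (σ : Representation K T W) (x : T) : ℚ :=
  (∑ a ∈ (orderOf x).divisorsAntidiagonal, (ArithmeticFunction.moebius a.1 : ℚ) * ((a.2 : ℚ) * (ev (σ (x ^ a.1)) 1 : ℚ))) /
    ((orderOf x).totient : ℚ)

theorem mem_zpowers_pow {T : Type*} [Group T] [Finite T] {x y : T} {d e : ℕ} (hde : e * d = orderOf x) :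
    y ∈ Subgroup.zpowers (x ^ e) ↔ y ∈ Subgroup.zpowers x ∧ orderOf y ∣ d := by
  have hn := orderOf_pos x
  have he : e ≠ 0 := by rintro rfl; rw [zero_mul] at hde; omega
  constructor
  · rintro ⟨k, rfl⟩
    refine ⟨⟨(e : ℤ) * k, ?_⟩, ?_⟩
    · show x ^ ((e : ℤ) * k) = (x ^ e) ^ k
      rw [zpow_mul, zpow_natCast]
    · apply orderOf_dvd_of_pow_eq_one
      show ((x ^ e) ^ k) ^ d = 1
      rw [← zpow_natCast, ← zpow_mul, mul_comm k, zpow_mul, zpow_natCast, ← pow_mul, hde, pow_orderOf_eq_one, one_zpow]
  · rintro ⟨⟨k, rfl⟩, h⟩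
    have h1 : (x ^ k) ^ d = 1 := orderOf_dvd_iff_pow_eq_one.1 h
    have h2 : (orderOf x : ℤ) ∣ k * d := by
      rw [orderOf_dvd_iff_zpow_eq_one, zpow_mul, zpow_natCast, h1]
    rw [← hde, Nat.cast_mul] at h2
    have hd : (d : ℤ) ≠ 0 := by
      intro h0
      have : d = 0 := by exact_mod_cast h0
      rw [this, mul_zero] at hde; omega
    obtain ⟨j, hj⟩ := Int.dvd_of_mul_dvd_mul_right hd h2
    refine ⟨j, ?_⟩
    show (x ^ e) ^ j = x ^ k
    rw [hj, zpow_mul, zpow_natCast]

theorem inv_zpowers {K : Type*} [Field K] {W : Type*} [AddCommGroup W] [Module K W] {T : Type*} [Group T]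
    (σ : Representation K T W) (z : T) :
    Representation.invariants (MonoidHom.comp σ (Subgroup.zpowers z).subtype) =
      Module.End.eigenspace (σ z) 1 := by
  ext v
  rw [Representation.mem_invariants, Module.End.mem_eigenspace_iff, one_smul]
  constructor
  · intro h
    exact h ⟨z, Subgroup.mem_zpowers z⟩
  · rintro h ⟨y, k, rfl⟩
    show σ (z ^ k) v = v
    let S : Subgroup T :=
      { carrier := {g | σ g v = v}
        one_mem' := by show σ 1 v = v; rw [map_one]; rfl
        mul_mem' := by
          intro a b ha hb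
          show σ (a * b) v = v
          rw [map_mul, Module.End.mul_apply, show σ b v = v from hb, show σ a v = v from ha]
        inv_mem' := by
          intro a ha
          show σ a⁻¹ v = v
          have h1 : σ a⁻¹ (σ a v) = v := by rw [← Module.End.mul_apply, ← map_mul, inv_mul_cancel, map_one]; rfl
          rwa [show σ a v = v from ha] at h1 }
    exact S.zpow_mem (show z ∈ S from h) k

open Classical in
theorem sum_cyc [Fintype T] (hM : IsPModular p M) (hV : Above M V) (hcard : ¬ p ∣ Nat.card T) {W : Type v}
    [AddCommGroup W] [Module (ResidueField V) W] [FiniteDimensional (ResidueField V) W]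
    (σ : Representation (ResidueField V) T W) {x : T} {d e : ℕ} (hde : e * d = orderOf x) :
    ∑ y ∈ Finset.univ.filter (fun y => y ∈ Subgroup.zpowers x ∧ orderOf y ∣ d), bc p σ y =
      (d : ℂ) * (ev (σ (x ^ e)) 1 : ℂ) := by
  classical
  have h1 := sum_bc hM hV (T := ↥(Subgroup.zpowers (x ^ e))) (fun h => hcard (h.trans (Subgroup.card_subgroup_dvd_card _)))
    (MonoidHom.comp σ (Subgroup.zpowers (x ^ e)).subtype)
  rw [inv_zpowers] at h1
  have h2 : Fintype.card ↥(Subgroup.zpowers (x ^ e)) = d := by
    have hn := orderOf_pos x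
    have he : e ≠ 0 := by rintro rfl; rw [zero_mul] at hde; omega
    rw [Fintype.card_zpowers, orderOf_pow_of_dvd he (Dvd.intro d hde), ← hde, Nat.mul_div_cancel_left _ (Nat.pos_of_ne_zero he)]
  rw [h2] at h1
  rw [ev, ← h1]
  have h3 : ∀ g : ↥(Subgroup.zpowers (x ^ e)), bc p (MonoidHom.comp σ (Subgroup.zpowers (x ^ e)).subtype) g =
      bc p σ (g : T) := fun g => rfl
  rw [Finset.sum_congr rfl fun g _ => h3 g]
  rw [← Finset.sum_subtype (Finset.univ.filter (fun y => y ∈ Subgroup.zpowers x ∧ orderOf y ∣ d)) (fun y => by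
    rw [Finset.mem_filter, and_iff_right (Finset.mem_univ y), ← mem_zpowers_pow hde]) (fun y => bc p σ y)]

open Classical in
theorem om_eq [Fintype T] (hM : IsPModular p M) (hV : Above M V) (hcard : ¬ p ∣ Nat.card T) {W : Type v}
    [AddCommGroup W] [Module (ResidueField V) W] [FiniteDimensional (ResidueField V) W]
    (σ : Representation (ResidueField V) T W) (x : T) :
    (om σ x : ℂ) = (∑ y ∈ Finset.univ.filter (fun y => Subgroup.zpowers y = Subgroup.zpowers x), bc p σ y) /
      ((orderOf x).totient : ℂ) := by
  classical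
  have hn := orderOf_pos x
  have h1 := (ArithmeticFunction.sum_eq_iff_sum_mul_moebius_eq_on (R := ℂ)
    (f := fun m => ∑ y ∈ Finset.univ.filter (fun y => y ∈ Subgroup.zpowers x ∧ orderOf y = m), bc p σ y)
    (g := fun d => (d : ℂ) * (ev (σ (x ^ (orderOf x / d))) 1 : ℂ)) {m | m ∣ orderOf x}
    (fun m n hmn hn => hmn.trans hn)).1 (by
      intro d hd0 hd
      rw [← sum_cyc hM hV hcard σ (Nat.div_mul_cancel hd)]
      rw [← Finset.sum_biUnion]
      · apply Finset.sum_congr _ fun _ _ => rfl
        ext y
        rw [Finset.mem_biUnion, Finset.mem_filter]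
        constructor
        · rintro ⟨m, hm, hy⟩
          rw [Finset.mem_filter] at hy
          rw [Nat.mem_divisors] at hm
          exact ⟨Finset.mem_univ _, hy.2.1, hy.2.2 ▸ hm.1⟩
        · rintro ⟨-, hy1, hy2⟩
          exact ⟨orderOf y, Nat.mem_divisors.2 ⟨hy2, hd0.ne'⟩, by rw [Finset.mem_filter]; exact ⟨Finset.mem_univ _, hy1, rfl⟩⟩
      · intro a _ b _ hab
        rw [Function.onFun, Finset.disjoint_left]
        intro y hy hy'
        rw [Finset.mem_filter] at hy hy'
        exact hab (hy.2.2.symm.trans hy'.2.2)) (orderOf x) hn dvd_rfl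
  have h2 : (Finset.univ.filter (fun y => y ∈ Subgroup.zpowers x ∧ orderOf y = orderOf x)) =
      Finset.univ.filter (fun y : T => Subgroup.zpowers y = Subgroup.zpowers x) := by
    ext y
    rw [Finset.mem_filter, Finset.mem_filter, and_iff_right (Finset.mem_univ y), and_iff_right (Finset.mem_univ y)]
    constructor
    · rintro ⟨h3, h4⟩
      apply Subgroup.eq_of_le_of_card_ge
      · rw [Subgroup.zpowers_le]; exact h3
      · rw [Nat.card_zpowers, Nat.card_zpowers, h4]
    · intro h3
      refine ⟨h3 ▸ Subgroup.mem_zpowers y, ?_⟩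
      rw [← Nat.card_zpowers, ← Nat.card_zpowers, h3]
  rw [h2] at h1
  rw [← h1, om]
  push_cast
  congr 1
  refine Finset.sum_congr rfl fun a ha => ?_
  rw [Nat.mem_divisorsAntidiagonal] at ha
  have h3 : orderOf x / a.2 = a.1 := by
    rw [← ha.1]
    exact Nat.mul_div_cancel _ (Nat.pos_of_ne_zero fun h => ha.2 (by rw [← ha.1, h, mul_zero]))
  rw [h3]

open Classical in
theorem card_gen {T : Type*} [Group T] [Fintype T] (y : T) :
    (Finset.univ.filter (fun x : T => Subgroup.zpowers x = Subgroup.zpowers y)).card = (orderOf y).totient := by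
  classical
  have h1 := IsCyclic.card_orderOf_eq_totient (α := ↥(Subgroup.zpowers y)) (d := orderOf y) (by
    rw [Fintype.card_zpowers])
  rw [← h1]
  symm
  refine Finset.card_bij (fun x _ => (x : T)) ?_ ?_ ?_
  · intro x hx
    rw [Finset.mem_filter] at hx ⊢
    refine ⟨Finset.mem_univ _, ?_⟩
    apply Subgroup.eq_of_le_of_card_ge
    · rw [Subgroup.zpowers_le]; exact x.2
    · rw [Nat.card_zpowers, Nat.card_zpowers, ← hx.2, Subgroup.orderOf_coe]
  · intro a _ b _ h
    exact Subtype.ext h
  · intro b hb
    rw [Finset.mem_filter] at hb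
    have hb1 : b ∈ Subgroup.zpowers y := by rw [← hb.2]; exact Subgroup.mem_zpowers b
    refine ⟨⟨b, hb1⟩, ?_, rfl⟩
    rw [Finset.mem_filter]
    refine ⟨Finset.mem_univ _, ?_⟩
    rw [← Subgroup.orderOf_coe]
    show orderOf b = _
    rw [← Nat.card_zpowers, ← Nat.card_zpowers, hb.2]

/-- Artin's formula over the residue field -/
theorem artin_res [Fintype T] (hM : IsPModular p M) (hV : Above M V) (hcard : ¬ p ∣ Nat.card T) {W : Type v}
    [AddCommGroup W] [Module (ResidueField V) W] [FiniteDimensional (ResidueField V) W]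
    (σ : Representation (ResidueField V) T W) :
    ((Fintype.card T : ℕ) : ℚ) * (finrank (ResidueField V) ↥σ.invariants : ℚ) = ∑ x : T, om σ x := by
  classical
  have h0 : ((((Fintype.card T : ℕ) : ℚ) * (finrank (ResidueField V) ↥σ.invariants : ℚ) : ℚ) : ℂ) =
      ((∑ x : T, om σ x : ℚ) : ℂ) := by
    push_cast
    rw [← sum_bc hM hV hcard σ, Finset.sum_congr rfl fun x _ => om_eq hM hV hcard σ x]
    simp_rw [Finset.sum_filter, Finset.sum_div]
    rw [Finset.sum_comm]
    refine Finset.sum_congr rfl fun y _ => ?_
    have h1 : ∀ x : T, (if Subgroup.zpowers y = Subgroup.zpowers x then bc p σ y else 0) / ((orderOf x).totient : ℂ) =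
        if Subgroup.zpowers x = Subgroup.zpowers y then bc p σ y / ((orderOf y).totient : ℂ) else 0 := by
      intro x
      by_cases h : Subgroup.zpowers x = Subgroup.zpowers y
      · rw [if_pos h.symm, if_pos h]
        congr 2
        rw [← Nat.card_zpowers, ← Nat.card_zpowers, h]
      · rw [if_neg (fun h' => h h'.symm), if_neg h, zero_div]
    rw [Finset.sum_congr rfl fun x _ => h1 x, ← Finset.sum_filter, Finset.sum_const, card_gen, nsmul_eq_mul]
    have h2 : ((orderOf y).totient : ℂ) ≠ 0 := by
      have := Nat.totient_pos.2 (orderOf_pos y)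
      exact_mod_cast this.ne'
    field_simp
  exact_mod_cast h0

end resid

/-! ### finite fields -/

section fin

theorem exists_hom_resid (p : ℕ) [hp : Fact p.Prime] (F : Type*) [Field F] [Finite F] [CharP F p] (K : Type*) [Field K]
    [IsAlgClosed K] [CharP K p] : Nonempty (F →+* K) := by
  letI : Algebra (ZMod p) F := ZMod.algebra F p
  letI : Algebra (ZMod p) K := ZMod.algebra K p
  have : Algebra.IsAlgebraic (ZMod p) F := inferInstance
  exact ⟨(IsAlgClosed.lift (R := ZMod p) (S := F) (M := K)).toRingHom⟩

section mat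
variable {F : Type*} [Field F] {T : Type*} [Group T] [Fintype T] {m : ℕ}

/-- the dimension of the invariants is the rank of the average -/
theorem finrank_inv_rank (hT : (Fintype.card T : F) ≠ 0) (R : T →* Matrix (Fin m) (Fin m) F)
    (σ : Representation F T (Fin m → F)) (hσ : ∀ g, σ g = Matrix.toLin' (R g)) :
    finrank F ↥σ.invariants = (∑ g, R g).rank := by
  have : Invertible (Fintype.card T : F) := invertibleOfNonzero hT
  have h1 : LinearMap.range (Matrix.toLin' (∑ g, R g)) = σ.invariants := by
    rw [map_sum]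
    ext v
    constructor
    · rintro ⟨w, rfl⟩
      rw [Representation.mem_invariants]
      intro g
      rw [LinearMap.sum_apply, map_sum]
      refine Fintype.sum_bijective (fun h => g * h) (Group.mulLeft_bijective g) _ _ fun h => ?_
      rw [hσ, ← Matrix.toLin'_mul_apply, ← map_mul]
    · intro hv
      rw [Representation.mem_invariants] at hv
      refine ⟨(⅟(Fintype.card T : F)) • v, ?_⟩
      rw [map_smul, LinearMap.sum_apply]
      have h2 : ∀ g, Matrix.toLin' (R g) v = v := fun g => by rw [← hσ]; exact hv g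
      rw [Finset.sum_congr rfl fun g _ => h2 g, Finset.sum_const, Finset.card_univ, ← Nat.cast_smul_eq_nsmul F,
        smul_smul, invOf_mul_self, one_smul]
  rw [← h1, Matrix.rank_eq_finrank_range_toLin _ (Pi.basisFun F (Fin m)) (Pi.basisFun F (Fin m))]
  rw [Matrix.toLin_eq_toLin']

end mat

/-- **Artin's formula** -/
theorem artin {F : Type*} [Field F] [Finite F] {W : Type*} [AddCommGroup W] [Module F W] [FiniteDimensional F W]
    {T : Type u} [Group T] [Fintype T] (hT : (Fintype.card T : F) ≠ 0) (σ : Representation F T W) :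
    (Fintype.card T : ℚ) * (finrank F ↥σ.invariants : ℚ) = ∑ x : T, om σ x := by
  classical
  obtain ⟨p, hp⟩ := CharP.exists F
  have hpp : Fact p.Prime := ⟨CharP.char_is_prime F p⟩
  obtain ⟨M, hM⟩ := Cfsg.Agent.Blocks.ExistsModular.exists_isPModular hpp.1
  obtain ⟨V, hV⟩ := Cfsg.Agent.H657.exists_above hM
  have hch : CharP (ResidueField V) p := hV.charP hM
  obtain ⟨f⟩ := exists_hom_resid p F (ResidueField V)
  have hcard : ¬ p ∣ Nat.card T := by
    intro h
    apply hT
    rw [CharP.cast_eq_zero_iff F p, ← Nat.card_eq_fintype_card]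
    exact h
  have hT' : (Fintype.card T : ResidueField V) ≠ 0 := by
    intro h
    rw [CharP.cast_eq_zero_iff (ResidueField V) p, ← Nat.card_eq_fintype_card] at h
    exact hcard h
  let b := Module.finBasis F W
  let m := finrank F W
  -- matrices
  let R : T →* Matrix (Fin m) (Fin m) F :=
    ((LinearMap.toMatrixAlgEquiv b : (W →ₗ[F] W) ≃ₐ[F] Matrix (Fin m) (Fin m) F) : (W →ₗ[F] W) →* _).comp σ
  let R' : T →* Matrix (Fin m) (Fin m) (ResidueField V) :=
    MonoidHom.comp (RingHom.toMonoidHom (f.mapMatrix (m := Fin m))) R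
  let σ1 : Representation F T (Fin m → F) :=
    ((Matrix.toLinAlgEquiv' : Matrix (Fin m) (Fin m) F ≃ₐ[F] _) : Matrix (Fin m) (Fin m) F →* _).comp R
  let σ2 : Representation (ResidueField V) T (Fin m → ResidueField V) :=
    ((Matrix.toLinAlgEquiv' : Matrix (Fin m) (Fin m) (ResidueField V) ≃ₐ[ResidueField V] _) :
      Matrix (Fin m) (Fin m) (ResidueField V) →* _).comp R'
  have e1 : ∀ g, σ1 g = b.equivFun.conj (σ g) := by
    intro g
    show Matrix.toLin' (LinearMap.toMatrix b b (σ g)) = _
    refine LinearMap.ext fun v => ?_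
    rw [Matrix.toLin'_apply, LinearEquiv.conj_apply_apply]
    have h1 := LinearMap.toMatrix_mulVec_repr b b (σ g) (b.equivFun.symm v)
    have h2 : (b.repr (b.equivFun.symm v) : Fin m → F) = v := b.equivFun.apply_symm_apply v
    rw [h2] at h1
    exact h1
  have hev1 : ∀ g μ, ev (σ1 g) μ = ev (σ g) μ := by
    intro g μ
    rw [e1]
    have h1 : Module.End.eigenspace (b.equivFun.conj (σ g)) μ = (Module.End.eigenspace (σ g) μ).map (b.equivFun : W →ₗ[F] _) := by
      ext v
      rw [Module.End.mem_eigenspace_iff, Submodule.mem_map]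
      constructor
      · intro h
        refine ⟨b.equivFun.symm v, ?_, b.equivFun.apply_symm_apply v⟩
        rw [Module.End.mem_eigenspace_iff]
        apply b.equivFun.injective
        rw [map_smul, b.equivFun.apply_symm_apply, ← h, LinearEquiv.conj_apply_apply]
      · rintro ⟨w, hw, rfl⟩
        rw [Module.End.mem_eigenspace_iff] at hw
        show b.equivFun.conj (σ g) (b.equivFun w) = μ • b.equivFun w
        rw [LinearEquiv.conj_apply_apply, b.equivFun.symm_apply_apply, hw, map_smul]
    rw [ev, h1, LinearEquiv.finrank_map_eq]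
    rfl
  have hinv1 : finrank F ↥σ1.invariants = finrank F ↥σ.invariants := by
    have h1 : σ1.invariants = σ.invariants.map (b.equivFun : W →ₗ[F] _) := by
      ext v
      rw [Representation.mem_invariants, Submodule.mem_map]
      constructor
      · intro h
        refine ⟨b.equivFun.symm v, ?_, b.equivFun.apply_symm_apply v⟩
        rw [Representation.mem_invariants]
        intro g
        apply b.equivFun.injective
        rw [b.equivFun.apply_symm_apply]
        have h2 := h g
        rwa [e1, LinearEquiv.conj_apply_apply] at h2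
      · rintro ⟨w, hw, rfl⟩ g
        rw [Representation.mem_invariants] at hw
        rw [e1]
        show b.equivFun.conj (σ g) (b.equivFun w) = b.equivFun w
        rw [LinearEquiv.conj_apply_apply, b.equivFun.symm_apply_apply, hw g]
    rw [h1, LinearEquiv.finrank_map_eq]
  have hσ1 : ∀ g, σ1 g = Matrix.toLin' (R g) := fun g => rfl
  have hσ2 : ∀ g, σ2 g = Matrix.toLin' (R' g) := fun g => rfl
  have hinv2 : finrank (ResidueField V) ↥σ2.invariants = finrank F ↥σ1.invariants := by
    rw [finrank_inv_rank hT R σ1 hσ1, finrank_inv_rank hT' R' σ2 hσ2]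
    have h1 : ∑ g, R' g = (∑ g, R g).map f := by
      have h2 : (∑ g, R g).map f = f.mapMatrix (∑ g, R g) := rfl
      rw [h2, map_sum]
      rfl
    rw [h1, Cfsg.Agent.H593.RobinsonRank.rank_map]
  have hev2 : ∀ g, ev (σ2 g) 1 = ev (σ1 g) 1 := by
    intro g
    have h1 := Cfsg.Agent.H815.F4Chg.ev_map f (R g) 1
    rw [map_one] at h1
    exact h1
  have hom : ∀ x, om σ x = om σ2 x := by
    intro x
    unfold om
    congr 1
    refine Finset.sum_congr rfl fun a _ => ?_
    rw [hev2, hev1]
  rw [Finset.sum_congr rfl fun x _ => hom x, ← artin_res hM hV hcard σ2, hinv2, hinv1]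

end fin

/-! ### the values -/

section values
variable {K : Type*} [Field K] {W : Type*} [AddCommGroup W] [Module K W] {T : Type*} [Group T]
  (σ : Representation K T W)

theorem ev_one : ev (σ 1) 1 = finrank K W := by
  rw [ev, map_one]
  have h1 : Module.End.eigenspace (1 : Module.End K W) 1 = ⊤ := by
    rw [eq_top_iff]
    intro v _
    rw [Module.End.mem_eigenspace_iff, one_smul]
    rfl
  rw [h1, finrank_top]

theorem om_one : om σ 1 = finrank K W := by
  have h := ev_one σ
  rw [map_one] at h
  unfold om
  rw [orderOf_one, Nat.divisorsAntidiagonal_one]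
  simp [h]

theorem antidiag {r : ℕ} (hr : r.Prime) : r.divisorsAntidiagonal = {(1, r), (r, 1)} := by
  ext ⟨a, b⟩
  rw [Nat.mem_divisorsAntidiagonal, Finset.mem_insert, Finset.mem_singleton, Prod.mk.injEq, Prod.mk.injEq]
  constructor
  · rintro ⟨h, -⟩
    have h' : a * b = r := h
    rcases (Nat.dvd_prime hr).1 (Dvd.intro b h') with h1 | h1
    · left
      rw [h1, one_mul] at h'
      exact ⟨h1, h'⟩
    · right
      rw [h1] at h'
      exact ⟨h1, Nat.eq_of_mul_eq_mul_left hr.pos (h'.trans (mul_one r).symm)⟩
  · rintro (⟨rfl, rfl⟩ | ⟨rfl, rfl⟩)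
    · exact ⟨one_mul _, hr.ne_zero⟩
    · exact ⟨mul_one _, hr.ne_zero⟩

theorem om_prime {x : T} {r : ℕ} (hr : r.Prime) (h : orderOf x = r) :
    om σ x = ((r : ℚ) * ev (σ x) 1 - finrank K W) / ((r : ℚ) - 1) := by
  unfold om
  rw [h, antidiag hr]
  have h1 : (1, r) ≠ (r, 1) := fun h2 => hr.one_lt.ne (Prod.mk.inj h2).1
  rw [Finset.sum_insert (by simp [h1]), Finset.sum_singleton]
  have h2 : x ^ r = 1 := by rw [← h]; exact pow_orderOf_eq_one x
  have h3 : ((r.totient : ℕ) : ℚ) = (r : ℚ) - 1 := by
    rw [Nat.totient_prime hr, Nat.cast_sub hr.one_lt.le, Nat.cast_one]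
  rw [h3, ArithmeticFunction.moebius_apply_prime hr, h2, ev_one σ]
  simp
  ring

theorem om_four {x : T} (h : orderOf x = 4) : om σ x = 2 * ev (σ x) 1 - ev (σ (x ^ 2)) 1 := by
  unfold om
  have h1 : (4 : ℕ).divisorsAntidiagonal = {(1, 4), (2, 2), (4, 1)} := by decide
  have h2 : (4 : ℕ).totient = 2 := by decide
  have h3 : ArithmeticFunction.moebius 4 = 0 := by
    rw [ArithmeticFunction.moebius_eq_zero_of_not_squarefree]
    decide
  have h4 : ArithmeticFunction.moebius 2 = -1 := ArithmeticFunction.moebius_apply_prime Nat.prime_two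
  rw [h, h1, h2, Finset.sum_insert (by decide), Finset.sum_insert (by decide), Finset.sum_singleton, h3, h4]
  simp
  ring

theorem om_six {x : T} (h : orderOf x = 6) :
    om σ x = (6 * ev (σ x) 1 - 3 * ev (σ (x ^ 2)) 1 - 2 * ev (σ (x ^ 3)) 1 + finrank K W) / 2 := by
  unfold om
  have h1 : (6 : ℕ).divisorsAntidiagonal = {(1, 6), (2, 3), (3, 2), (6, 1)} := by decide
  have h2 : (6 : ℕ).totient = 2 := by decide
  have h4 : ArithmeticFunction.moebius 2 = -1 := ArithmeticFunction.moebius_apply_prime Nat.prime_two
  have h5 : ArithmeticFunction.moebius 3 = -1 := ArithmeticFunction.moebius_apply_prime Nat.prime_three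
  have h3 : ArithmeticFunction.moebius 6 = 1 := by
    have h6 := ArithmeticFunction.isMultiplicative_moebius.map_mul_of_coprime (m := 2) (n := 3) (by decide)
    rw [h4, h5] at h6
    exact h6
  have h6 : x ^ 6 = 1 := by rw [← h]; exact pow_orderOf_eq_one x
  rw [h, h1, h2, Finset.sum_insert (by decide), Finset.sum_insert (by decide), Finset.sum_insert (by decide),
    Finset.sum_singleton, h3, h4, h5, h6, ev_one σ]
  simp
  ring

theorem om_fifteen {x : T} (h : orderOf x = 15) :
    om σ x = (15 * ev (σ x) 1 - 5 * ev (σ (x ^ 3)) 1 - 3 * ev (σ (x ^ 5)) 1 + finrank K W) / 8 := by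
  unfold om
  have h1 : (15 : ℕ).divisorsAntidiagonal = {(1, 15), (3, 5), (5, 3), (15, 1)} := by decide
  have h2 : (15 : ℕ).totient = 8 := by decide
  have h4 : ArithmeticFunction.moebius 3 = -1 := ArithmeticFunction.moebius_apply_prime Nat.prime_three
  have h5 : ArithmeticFunction.moebius 5 = -1 := ArithmeticFunction.moebius_apply_prime Nat.prime_five
  have h3 : ArithmeticFunction.moebius 15 = 1 := by
    have h6 := ArithmeticFunction.isMultiplicative_moebius.map_mul_of_coprime (m := 3) (n := 5) (by decide)
    rw [h4, h5] at h6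
    exact h6
  have h6 : x ^ 15 = 1 := by rw [← h]; exact pow_orderOf_eq_one x
  rw [h, h1, h2, Finset.sum_insert (by decide), Finset.sum_insert (by decide), Finset.sum_insert (by decide),
    Finset.sum_singleton, h3, h4, h5, h6, ev_one σ]
  simp
  ring

/-- `om` of a restriction -/
theorem om_comp {A : Type*} [Group A] (f : A →* T) (hf : Function.Injective f) (x : A) :
    om (MonoidHom.comp σ f) x = om σ (f x) := by
  unfold om
  rw [orderOf_injective f hf]
  congr 1
  refine Finset.sum_congr rfl fun a _ => ?_
  rw [← map_pow]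
  rfl

end values

end Cfsg.Agent.R2.T1.Art
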