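import Cfsg.Agent.R2.T1.Inf.Cen
import Cfsg.Agent.H943.E7V.TorMain

/-!
# S5771, S5929: elements of order prime to `p` are toral (helper11)
-/

set_option autoImplicit false

namespace Cfsg.Agent.R2.T1

open Cfsg Cfsg.Lie Module
open Cfsg.Agent.ChevalleyStructure.StTheta Cfsg.Agent.ChevalleyStructure.StEmbed
open Cfsg.Agent.H943.E7V.Block (D1 rho)
open Cfsg.Agent.H944.E7Two (e7T)
open Cfsg.Agent.BpExc.TorAll (HAlg)

universe u

/-- semisimple elements of `Gh K` are conjugate into the torus -/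
theorem frameK (p : ℕ) [Fact p.Prime] {K : Type u} [Field K] [IsAlgClosed K] [CharP K p] (hk : HAlg p K)
    {y : Gh K} {N : ℕ} (hN0 : N ≠ 0) (hN : N.Coprime p) (hy : y ^ N = 1) :
    ∃ (g : Gh K) (c : Fin chevE7.rank → Kˣ), Phi K c = g * y * g⁻¹ ∧ c ^ N = 1 := by
  set x' : ↥(chevE7.group K) := ad K y with hx'
  have hxN : x' ^ N = 1 := by rw [hx', ← map_pow, hy, map_one]
  obtain ⟨g, hg⟩ := Cfsg.Agent.H944.TorAnyChev.exists_conj_mem_TT e7T p hk hN0 hN hxN
  obtain ⟨a, ha⟩ := Cfsg.Agent.H129.StCover.exists_theta_phi isPhi e7T hg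
  obtain ⟨g', hg'⟩ := ad_surjective g
  obtain ⟨c, hc⟩ : ∃ c, Phi K c = g' * y * g'⁻¹ := by
    have h1 : (Phi K a)⁻¹ * (g' * y * g'⁻¹) ∈ (ad K).ker := by
      have ha' : ad K (Phi K a) = g * x' * g⁻¹ := ha
      rw [MonoidHom.mem_ker, map_mul, map_inv, ha', map_mul, map_mul, map_inv, hg', inv_mul_cancel]
    rw [ker_ad] at h1
    obtain ⟨b, hb⟩ := isPhi.center_le h1
    exact ⟨a * b, by rw [map_mul, hb, mul_inv_cancel_left]⟩
  refine ⟨g', c, hc, ?_⟩
  apply isPhi.inj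
  rw [map_pow, hc, conj_pow, hy, mul_one, mul_inv_cancel, map_one]

/-- **raw frame** over the algebraic closure of a finite field -/
theorem frame (p : ℕ) [Fact p.Prime] {F : Type u} [Field F] [Finite F] [CharP F p]
    {x : Gh F} {N : ℕ} (hN0 : N ≠ 0) (hN : N.Coprime p) (hx : x ^ N = 1) :
    ∃ (g : Gh (AlgebraicClosure F)) (c : Fin chevE7.rank → (AlgebraicClosure F)ˣ),
      Phi (AlgebraicClosure F) c = g * emb (algebraMap F (AlgebraicClosure F)) x * g⁻¹ ∧ c ^ N = 1 := by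
  have : CharP (AlgebraicClosure F) p :=
    charP_of_injective_algebraMap (algebraMap F (AlgebraicClosure F)).injective p
  exact frameK p (Cfsg.Agent.H944.RootVals.hAlg_closure p F) hN0 hN (by rw [← map_pow, hx, map_one])

end Cfsg.Agent.R2.T1
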