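import Cfsg.Agent.R2.T1.Inf.Dia
import Cfsg.Agent.ChevalleyStructure.Columns

/-!
# S5771, S5929: the action of the root elements on the adjoint module (helper11)

* `F7 r s` : `[(u, c)]` if `r + s = u` is a root, `[e_r, e_s] = c e_u`, otherwise `[]`;
* `EM F r`, `QM F r` : `adM (xs F r t) = 1 + t • EM F r + t ^ 2 • QM F r`.
-/

set_option autoImplicit false
set_option maxRecDepth 100000

namespace Cfsg.Agent.R2.T1

open Cfsg Cfsg.Lie Module
open Cfsg.Agent.ChevalleyStructure Cfsg.Agent.ChevalleyStructure.Elts Cfsg.Agent.ChevalleyStructure.Columns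
open Cfsg.Agent.ChevalleyStructure.StTheta Cfsg.Agent.ChevalleyStructure.StEmbed Cfsg.Agent.ChevalleyStructure.StBasic
open Cfsg.Agent.H944.E7Two (e7T)
open scoped Matrix

universe u

/-- the sum of two roots and the structure constant -/
def F7 (r s : ℕ) : List (ℕ × ℤ) := look (row chevE7 r) s

theorem F7_eq (r s : ℕ) : chevE7.chainEntry r s = F7 r s := chainEntry_eq_look chevE7 r s

def chkR (r : ℕ) : Bool := sortedFrom 0 (row chevE7 r) && (Nat.beq (chevE7.negIdx.getD r 0) (125 - r)) &&
  (row chevE7 r).all fun e => match e.2.toList with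
  | [x] => decide (e.1 < 126) && decide (x.1 < 126) && decide (x.2 * x.2 = 1) &&
    decide (look (row chevE7 r) (125 - x.1) = [(125 - e.1, -x.2)]) &&
    decide (look (row chevE7 r) x.1 = []) && !(Nat.beq x.1 r) && !(Nat.beq x.1 (125 - r)) && !(Nat.beq e.1 r) &&
    !(Nat.beq e.1 (125 - r))
  | _ => false

theorem chkR_true : (List.range 126).all chkR = true := by decide +kernel

theorem look_mem : ∀ (l : List (ℕ × Array (ℕ × ℤ))) (s : ℕ), look l s = [] ∨ ∃ e ∈ l, e.1 = s ∧ look l s = e.2.toList := by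
  intro l
  induction l with
  | nil => intro s; left; rfl
  | cons e es ih =>
    intro s
    rw [look_cons]
    by_cases h : e.1 = s
    · right
      exact ⟨e, by simp, h, if_pos h⟩
    · rw [if_neg h]
      rcases ih s with h1 | ⟨e', he', h1, h2⟩
      · exact Or.inl h1
      · exact Or.inr ⟨e', List.mem_cons_of_mem _ he', h1, h2⟩

theorem sorted7 {r : ℕ} (hr : r < 126) : sortedFrom 0 (row chevE7 r) = true := by
  have h := List.all_eq_true.1 chkR_true r (List.mem_range.2 hr)
  simp only [chkR, Bool.and_eq_true] at h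
  exact h.1.1

theorem neg7 {r : ℕ} (hr : r < 126) : chevE7.negIdx.getD r 0 = 125 - r := by
  have h := List.all_eq_true.1 chkR_true r (List.mem_range.2 hr)
  simp only [chkR, Bool.and_eq_true] at h
  exact Nat.eq_of_beq_eq_true h.1.2

/-- the properties of the structure constants -/
theorem F7_cases {r : ℕ} (hr : r < 126) (s : ℕ) : F7 r s = [] ∨ ∃ u c, F7 r s = [(u, c)] ∧ s < 126 ∧ u < 126 ∧
    c * c = 1 ∧ F7 r (125 - u) = [(125 - s, -c)] ∧ F7 r u = [] ∧ u ≠ r ∧ u ≠ 125 - r ∧ s ≠ r ∧ s ≠ 125 - r := by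
  rcases look_mem (row chevE7 r) s with h | ⟨e, he, h1, h2⟩
  · exact Or.inl h
  right
  have h := List.all_eq_true.1 chkR_true r (List.mem_range.2 hr)
  simp only [chkR, Bool.and_eq_true] at h
  have h3 := List.all_eq_true.1 h.2 e he
  rcases hl : e.2.toList with _ | ⟨x, _ | ⟨y, ys⟩⟩
  · rw [hl] at h3; exact Bool.noConfusion h3
  · rw [hl] at h3
    simp only [Bool.and_eq_true, decide_eq_true_eq, Bool.not_eq_true'] at h3
    obtain ⟨⟨⟨⟨⟨⟨⟨⟨k1, k2⟩, k3⟩, k4⟩, k5⟩, k6⟩, k7⟩, k8⟩, k9⟩ := h3
    have nb : ∀ a b : ℕ, Nat.beq a b = false → a ≠ b := by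
      rintro a b hab rfl
      rw [Nat.beq_refl] at hab
      exact Bool.noConfusion hab
    rw [h1] at k1 k4 k8 k9
    refine ⟨x.1, x.2, ?_, k1, k2, k3, k4, k5, nb _ _ k6, nb _ _ k7, nb _ _ k8, nb _ _ k9⟩
    show look _ _ = _
    rw [h2, hl]
  · rw [hl] at h3; exact Bool.noConfusion h3

theorem F7_self {r : ℕ} (hr : r < 126) : F7 r r = [] := by
  rcases F7_cases hr r with h | ⟨u, c, -, -, -, -, -, -, -, -, h, -⟩
  · exact h
  · exact absurd rfl h

theorem F7_neg {r : ℕ} (hr : r < 126) : F7 r (125 - r) = [] := by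
  rcases F7_cases hr (125 - r) with h | ⟨u, c, -, -, -, -, -, -, -, -, -, h⟩
  · exact h
  · exact absurd rfl h

/-- the coefficient of `e_u` in `[e_r, e_s]` -/
def cf (r s u : ℕ) : ℤ :=
  match F7 r s with
  | [x] => if x.1 = u then x.2 else 0
  | _ => 0

theorem cf_nil {r s : ℕ} (h : F7 r s = []) (u : ℕ) : cf r s u = 0 := by
  unfold cf; rw [h]

theorem cf_cons {r s u : ℕ} {c : ℤ} (h : F7 r s = [(u, c)]) (w : ℕ) : cf r s w = if u = w then c else 0 := by
  unfold cf; rw [h]

theorem cf_ne {r s u : ℕ} (hr : r < 126) (h : cf r s u ≠ 0) : F7 r s = [(u, cf r s u)] := by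
  rcases F7_cases hr s with h1 | ⟨u', c, h1, -⟩
  · exact absurd (cf_nil h1 u) h
  · have h2 := cf_cons h1 u
    by_cases h3 : u' = u
    · rw [h2, if_pos h3, h1, h3]
    · rw [if_neg h3] at h2; exact absurd h2 h

/-- antisymmetry -/
theorem cf_opp {r : ℕ} (hr : r < 126) {s u : ℕ} (hs : s < 126) (hu : u < 126) :
    cf r (125 - u) (125 - s) = - cf r s u := by
  have key : ∀ s u : ℕ, s < 126 → u < 126 → cf r s u ≠ 0 → cf r (125 - u) (125 - s) = - cf r s u := by
    intro s u hs hu h
    have h1 := cf_ne hr h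
    rcases F7_cases hr s with h2 | ⟨u', c, h2, -, -, -, h3, -⟩
    · rw [h1] at h2; exact absurd h2 (by simp)
    · rw [h1] at h2
      simp only [List.cons.injEq, Prod.mk.injEq, and_true] at h2
      obtain ⟨rfl, h4⟩ := h2
      rw [cf_cons h3, if_pos rfl, h4]
  by_cases h : cf r s u = 0
  · by_cases h' : cf r (125 - u) (125 - s) = 0
    · rw [h, h', neg_zero]
    · have h1 := key (125 - u) (125 - s) (by omega) (by omega) h'
      rw [show 125 - (125 - s) = s by omega, show 125 - (125 - u) = u by omega, h] at h1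
      exact absurd (neg_eq_zero.1 h1.symm) h'
  · exact key s u hs hu h

section
variable (F : Type u) [Field F]

/-- `ad e_r` -/
def EM (r : ℕ) : Matrix chevE7.Idx chevE7.Idx F := Matrix.of fun a b =>
  match a, b with
  | Sum.inl _, Sum.inl _ => 0
  | Sum.inr u, Sum.inl i => if u.val = r then -(car chevE7 i.val r : F) else 0
  | Sum.inl i, Sum.inr s => if s.val = 125 - r then (cor chevE7 r i.val : F) else 0
  | Sum.inr u, Sum.inr s => ((cf r s.val u.val : ℤ) : F)

/-- `(ad e_r)² / 2` -/
def QM (r : ℕ) : Matrix chevE7.Idx chevE7.Idx F := Matrix.of fun a b =>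
  match a, b with
  | Sum.inr u, Sum.inr s => if s.val = 125 - r then (if u.val = r then -1 else 0) else 0
  | _, _ => 0

variable {F}

theorem EM_ll (r : ℕ) (j i : Fin chevE7.rank) : EM F r (Sum.inl j) (Sum.inl i) = 0 := rfl
theorem EM_rl (r : ℕ) (u : Fin chevE7.nroots) (i : Fin chevE7.rank) :
    EM F r (Sum.inr u) (Sum.inl i) = if u.val = r then -(car chevE7 i.val r : F) else 0 := rfl
theorem EM_lr (r : ℕ) (i : Fin chevE7.rank) (s : Fin chevE7.nroots) :
    EM F r (Sum.inl i) (Sum.inr s) = if s.val = 125 - r then (cor chevE7 r i.val : F) else 0 := rfl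
theorem EM_rr (r : ℕ) (u s : Fin chevE7.nroots) : EM F r (Sum.inr u) (Sum.inr s) = ((cf r s.val u.val : ℤ) : F) := rfl
theorem QM_ll (r : ℕ) (j i : Fin chevE7.rank) : QM F r (Sum.inl j) (Sum.inl i) = 0 := rfl
theorem QM_rl (r : ℕ) (u : Fin chevE7.nroots) (i : Fin chevE7.rank) : QM F r (Sum.inr u) (Sum.inl i) = 0 := rfl
theorem QM_lr (r : ℕ) (i : Fin chevE7.rank) (s : Fin chevE7.nroots) : QM F r (Sum.inl i) (Sum.inr s) = 0 := rfl
theorem QM_rr (r : ℕ) (u s : Fin chevE7.nroots) : QM F r (Sum.inr u) (Sum.inr s) =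
    if s.val = 125 - r then (if u.val = r then -1 else 0) else 0 := rfl

/-- **the root elements on the adjoint module** -/
theorem adM_xs {r : ℕ} (hr : r < 126) (t : F) : adM F (xs F r t) = 1 + t • EM F r + t ^ 2 • QM F r := by
  let ρ : Fin chevE7.nroots := ⟨r, hr⟩
  have h1 : adM F (xs F r t) = chevE7.xMat F ρ t := by
    rw [adM_apply]
    have h2 : (((ad F (xs F r t) : ↥(chevE7.group F)) : GL chevE7.Idx F) : Matrix chevE7.Idx chevE7.Idx F) =
      chevE7.x F r t := theta_stGen e7T.inList r t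
    rw [h2]
    unfold ChevalleyDatum.x
    exact dif_pos hr
  rw [h1]
  ext a b
  rw [Matrix.add_apply, Matrix.add_apply, Matrix.smul_apply, Matrix.smul_apply, smul_eq_mul, smul_eq_mul]
  have hne : r ≠ 125 - r := by omega
  rcases b with i | s
  · rcases a with j | w
    · rw [xMat_inl_inl, EM_ll, QM_ll, Matrix.one_apply]
      simp only [Sum.inl.injEq, mul_zero, add_zero]
    · rw [xMat_inr_inl, EM_rl, QM_rl, Matrix.one_apply_ne (by simp)]
      have h3 : (w = ρ) ↔ (w.val = r) := ⟨fun h => congrArg Fin.val h, fun h => Fin.ext h⟩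
      simp only [h3]
      split_ifs <;> simp [ρ, mul_comm]
  · by_cases hs1 : s = ρ
    · subst hs1
      rw [xMat_self]
      rcases a with j | w
      · rw [dl_inl, EM_lr, QM_lr, Matrix.one_apply_ne (by simp), if_neg (show ¬ (ρ.val = 125 - r) from hne)]
        simp
      · rw [dl_inr, EM_rr, QM_rr, cf_nil (F7_self hr), if_neg (show ¬ (ρ.val = 125 - r) from hne), Matrix.one_apply]
        have h3 : (Sum.inr w = (Sum.inr ρ : chevE7.Idx)) ↔ (w.val = ρ.val) := by
          rw [Sum.inr.injEq]
          exact ⟨fun h => congrArg Fin.val h, fun h => Fin.ext h⟩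
        simp only [h3]
        simp
    · by_cases hs2 : s.val = chevE7.negIdx.getD ρ.val 0
      · rw [xMat_neg chevE7 ρ t a s hs2 hs1]
        have hs3 : s.val = 125 - r := hs2.trans (neg7 hr)
        rcases a with j | w
        · rw [dl_inl, dl_inl, EM_lr, QM_lr, if_pos hs3, Matrix.one_apply_ne (by simp)]
          simp only [Sum.inl.injEq]
          rw [Finset.sum_eq_single j]
          · rw [if_pos rfl]; ring
          · intro i _ hij
            rw [if_neg (Ne.symm hij), mul_zero]
          · intro h; exact absurd (Finset.mem_univ _) h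
        · rw [dl_inr, dl_inr, EM_rr, QM_rr, if_pos hs3, hs3, cf_nil (F7_neg hr), Matrix.one_apply]
          have h3 : (Sum.inr w = (Sum.inr s : chevE7.Idx)) ↔ (w.val = 125 - r) := by
            rw [Sum.inr.injEq, ← hs3]
            exact ⟨fun h => congrArg Fin.val h, fun h => Fin.ext h⟩
          simp only [h3]
          have h4 : ∑ i : Fin chevE7.rank, ((cor chevE7 ρ.val i.val : ℤ) : F) * t *
              (if (Sum.inr w : chevE7.Idx) = Sum.inl i then 1 else 0) = 0 :=
            Finset.sum_eq_zero fun i _ => by rw [if_neg (by simp), mul_zero]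
          rw [h4]
          have h5 : (if w.val = ρ.val then (1 : F) else 0) = if w.val = r then 1 else 0 := rfl
          rw [h5]
          split_ifs <;> simp [sub_eq_add_neg]
      · rw [xMat_ne chevE7 ρ t a s hs2 hs1 (sorted7 hr), F7_eq]
        have hs3 : s.val ≠ 125 - r := fun h => hs2 (h.trans (neg7 hr).symm)
        rcases F7_cases hr s.val with h2 | ⟨u, c, h2, -⟩
        · have h2' : F7 ρ.val s.val = [] := h2
          rw [h2', chSum_nil]
          rcases a with j | w
          · rw [dl_inl, EM_lr, QM_lr, if_neg hs3, Matrix.one_apply_ne (by simp)]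
            simp
          · rw [dl_inr, EM_rr, QM_rr, if_neg hs3, cf_nil h2, Matrix.one_apply]
            have h3 : (Sum.inr w = (Sum.inr s : chevE7.Idx)) ↔ (w.val = s.val) := by
              rw [Sum.inr.injEq]
              exact ⟨fun h => congrArg Fin.val h, fun h => Fin.ext h⟩
            simp only [h3]
            simp
        · have h2' : F7 ρ.val s.val = [(u, c)] := h2
          rw [h2', chSum_cons, chSum_nil, add_zero, pow_one]
          rcases a with j | w
          · rw [dl_inl, dl_inl, EM_lr, QM_lr, if_neg hs3, Matrix.one_apply_ne (by simp)]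
            simp
          · rw [dl_inr, dl_inr, EM_rr, QM_rr, if_neg hs3, cf_cons h2, Matrix.one_apply]
            have h3 : (Sum.inr w = (Sum.inr s : chevE7.Idx)) ↔ (w.val = s.val) := by
              rw [Sum.inr.injEq]
              exact ⟨fun h => congrArg Fin.val h, fun h => Fin.ext h⟩
            have h4 : (w.val = u) ↔ (u = w.val) := eq_comm
            simp only [h3, h4]
            split_ifs <;> push_cast <;> ring

end

end Cfsg.Agent.R2.T1
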