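import Mathlib
import Cfsg.Agent.R2.T1.Inf.Defs
import Cfsg.Agent.KFacts.En.Roots

/-!
# The root elements on the 56-dimensional module of `E₇` (helper11)

`mv r s` : the root element `x_r(1) - 1` maps the basis vector `s` to `c` times the basis vector `u`, `mv r s = some (u, c)`.
-/

set_option autoImplicit false
set_option maxRecDepth 100000

namespace Cfsg.Agent.R2.T1

open Cfsg Cfsg.Lie Module
open Cfsg.Agent.ChevalleyStructure.StTheta Cfsg.Agent.ChevalleyStructure.StEmbed Cfsg.Agent.ChevalleyStructure.StBasic
open Cfsg.Agent.ChevalleyStructure Cfsg.Agent.ChevalleyStructure.Elts Cfsg.Agent.ChevalleyStructure.RootVec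
  Cfsg.Agent.ChevalleyStructure.RootVecTab Cfsg.Agent.ChevalleyStructure.CoxeterGeomTypes
open Cfsg.Agent.KFacts.En.Roots Cfsg.Agent.H120.StSeven
open Cfsg.Agent.H943.E7V.Block

/-- the table of `s + r = u` with signs -/
def T56 : List (List (ℕ × ℕ × ℤ)) :=
  [
   [(227, 120, -1), (228, 122, 1), (229, 125, -1), (230, 129, 1), (231, 134, -1), (232, 140, 1), (233, 146,
   1), (234, 151, 1), (235, 155, 1), (236, 158, 1), (237, 160, 1), (238, 161, 1)],    [(220, 120, -1), (221,
   122, 1), (222, 125, -1), (223, 129, 1), (224, 134, -1), (225, 146, 1), (232, 168, 1), (234, 173, 1), (235,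
   177, 1), (236, 180, 1), (237, 182, 1), (238, 183, 1)],    [(215, 120, -1), (216, 122, 1), (217, 125, -1),
   (218, 129, 1), (224, 140, -1), (225, 151, -1), (231, 168, 1), (233, 173, 1), (235, 187, -1), (236, 190,
   -1), (237, 192, -1), (238, 193, -1)],    [(211, 120, -1), (212, 122, 1), (213, 125, -1), (218, 134, 1),
   (223, 140, -1), (225, 155, 1), (230, 168, 1), (233, 177, -1), (234, 187, -1), (236, 196, 1), (237, 198, 1),
   (238, 199, 1)],    [(208, 120, -1), (209, 122, 1), (213, 129, -1), (217, 134, 1), (222, 140, -1), (225,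
   158, -1), (229, 168, 1), (233, 180, 1), (234, 190, 1), (235, 196, 1), (237, 201, -1), (238, 202, -1)],
   [(206, 120, -1), (209, 125, 1), (212, 129, -1), (216, 134, 1), (221, 140, -1), (225, 160, 1), (228, 168,
   1), (233, 182, -1), (234, 192, -1), (235, 198, -1), (236, 201, -1), (238, 203, 1)],    [(206, 122, -1),
   (208, 125, 1), (211, 129, -1), (215, 134, 1), (220, 140, -1), (225, 161, -1), (227, 168, 1), (233, 183, 1),
   (234, 193, 1), (235, 199, 1), (236, 202, 1), (237, 203, 1)],    [(201, 120, -1), (202, 122, 1), (203, 125,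
   -1), (218, 146, 1), (223, 151, 1), (224, 155, 1), (230, 173, -1), (231, 177, -1), (232, 187, -1), (236,
   206, -1), (237, 208, -1), (238, 209, -1)],    [(198, 120, -1), (199, 122, 1), (203, 129, -1), (217, 146,
   1), (222, 151, 1), (224, 158, -1), (229, 173, -1), (231, 180, 1), (232, 190, 1), (235, 206, -1), (237, 211,
   1), (238, 212, 1)],    [(196, 120, -1), (199, 125, 1), (202, 129, -1), (216, 146, 1), (221, 151, 1), (224,
   160, 1), (228, 173, -1), (231, 182, -1), (232, 192, -1), (235, 208, 1), (236, 211, 1), (238, 213, -1)],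
   [(196, 122, -1), (198, 125, 1), (201, 129, -1), (215, 146, 1), (220, 151, 1), (224, 161, -1), (227, 173,
   -1), (231, 183, 1), (232, 193, 1), (235, 209, -1), (236, 212, -1), (237, 213, -1)],    [(192, 120, -1),
   (193, 122, 1), (203, 134, -1), (213, 146, 1), (222, 155, -1), (223, 158, -1), (229, 177, 1), (230, 180, 1),
   (232, 196, -1), (234, 206, -1), (237, 215, -1), (238, 216, -1)],    [(190, 120, -1), (193, 125, 1), (202,
   134, -1), (212, 146, 1), (221, 155, -1), (223, 160, 1), (228, 177, 1), (230, 182, -1), (232, 198, 1), (234,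
   208, 1), (236, 215, -1), (238, 217, 1)],    [(190, 122, -1), (192, 125, 1), (201, 134, -1), (211, 146, 1),
   (220, 155, -1), (223, 161, -1), (227, 177, 1), (230, 183, 1), (232, 199, -1), (234, 209, -1), (236, 216,
   1), (237, 217, 1)],    [(187, 120, -1), (193, 129, 1), (199, 134, -1), (209, 146, 1), (221, 158, 1), (222,
   160, 1), (228, 180, -1), (229, 182, -1), (232, 201, -1), (234, 211, -1), (235, 215, -1), (238, 218, -1)],
   [(187, 122, -1), (192, 129, 1), (198, 134, -1), (208, 146, 1), (220, 158, 1), (222, 161, -1), (227, 180,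
   -1), (229, 183, 1), (232, 202, 1), (234, 212, 1), (235, 216, 1), (237, 218, -1)],    [(187, 125, -1), (190,
   129, 1), (196, 134, -1), (206, 146, 1), (220, 160, -1), (221, 161, -1), (227, 182, 1), (228, 183, 1), (232,
   203, -1), (234, 213, -1), (235, 217, -1), (236, 218, -1)],    [(182, 120, -1), (183, 122, 1), (203, 140,
   -1), (213, 151, -1), (217, 155, -1), (218, 158, -1), (229, 187, -1), (230, 190, -1), (231, 196, -1), (233,
   206, -1), (237, 220, 1), (238, 221, 1)],    [(180, 120, -1), (183, 125, 1), (202, 140, -1), (212, 151, -1),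
   (216, 155, -1), (218, 160, 1), (228, 187, -1), (230, 192, 1), (231, 198, 1), (233, 208, 1), (236, 220, 1),
   (238, 222, -1)],    [(180, 122, -1), (182, 125, 1), (201, 140, -1), (211, 151, -1), (215, 155, -1), (218,
   161, -1), (227, 187, -1), (230, 193, -1), (231, 199, -1), (233, 209, -1), (236, 221, -1), (237, 222, -1)],
   [(177, 120, -1), (183, 129, 1), (199, 140, -1), (209, 151, -1), (216, 158, 1), (217, 160, 1), (228, 190,
   1), (229, 192, 1), (231, 201, -1), (233, 211, -1), (235, 220, 1), (238, 223, 1)],    [(177, 122, -1), (182,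
   129, 1), (198, 140, -1), (208, 151, -1), (215, 158, 1), (217, 161, -1), (227, 190, 1), (229, 193, -1),
   (231, 202, 1), (233, 212, 1), (235, 221, -1), (237, 223, 1)],    [(177, 125, -1), (180, 129, 1), (196, 140,
   -1), (206, 151, -1), (215, 160, -1), (216, 161, -1), (227, 192, -1), (228, 193, -1), (231, 203, -1), (233,
   213, -1), (235, 222, 1), (236, 223, 1)],    [(173, 120, -1), (183, 134, 1), (193, 140, -1), (209, 155, 1),
   (212, 158, 1), (213, 160, 1), (228, 196, -1), (229, 198, -1), (230, 201, -1), (233, 215, 1), (234, 220, 1),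
   (238, 224, -1)],    [(173, 122, -1), (182, 134, 1), (192, 140, -1), (208, 155, 1), (211, 158, 1), (213,
   161, -1), (227, 196, -1), (229, 199, 1), (230, 202, 1), (233, 216, -1), (234, 221, -1), (237, 224, -1)],
   [(173, 125, -1), (180, 134, 1), (190, 140, -1), (206, 155, 1), (211, 160, -1), (212, 161, -1), (227, 198,
   1), (228, 199, 1), (230, 203, -1), (233, 217, 1), (234, 222, 1), (236, 224, -1)],    [(173, 129, -1), (177,
   134, 1), (187, 140, -1), (206, 158, -1), (208, 160, -1), (209, 161, -1), (227, 201, -1), (228, 202, -1),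
   (229, 203, -1), (233, 218, -1), (234, 223, -1), (235, 224, -1)],    [(168, 120, -1), (183, 146, 1), (193,
   151, 1), (199, 155, 1), (202, 158, 1), (203, 160, 1), (228, 206, 1), (229, 208, 1), (230, 211, 1), (231,
   215, 1), (232, 220, 1), (238, 225, 1)],    [(168, 122, -1), (182, 146, 1), (192, 151, 1), (198, 155, 1),
   (201, 158, 1), (203, 161, -1), (227, 206, 1), (229, 209, -1), (230, 212, -1), (231, 216, -1), (232, 221,
   -1), (237, 225, 1)],    [(168, 125, -1), (180, 146, 1), (190, 151, 1), (196, 155, 1), (201, 160, -1), (202,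
   161, -1), (227, 208, -1), (228, 209, -1), (230, 213, 1), (231, 217, 1), (232, 222, 1), (236, 225, 1)],
   [(168, 129, -1), (177, 146, 1), (187, 151, 1), (196, 158, -1), (198, 160, -1), (199, 161, -1), (227, 211,
   1), (228, 212, 1), (229, 213, 1), (231, 218, -1), (232, 223, -1), (235, 225, 1)],    [(168, 134, -1), (173,
   146, 1), (187, 155, -1), (190, 158, -1), (192, 160, -1), (193, 161, -1), (227, 215, -1), (228, 216, -1),
   (229, 217, -1), (230, 218, -1), (232, 224, 1), (234, 225, 1)],    [(168, 140, -1), (173, 151, -1), (177,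
   155, -1), (180, 158, -1), (182, 160, -1), (183, 161, -1), (227, 220, 1), (228, 221, 1), (229, 222, 1),
   (230, 223, 1), (231, 224, 1), (233, 225, 1)],    [(160, 120, -1), (161, 122, 1), (203, 168, 1), (213, 173,
   1), (217, 177, 1), (218, 180, 1), (222, 187, 1), (223, 190, 1), (224, 196, 1), (225, 206, 1), (237, 227,
   1), (238, 228, 1)],    [(158, 120, -1), (161, 125, 1), (202, 168, 1), (212, 173, 1), (216, 177, 1), (218,
   182, -1), (221, 187, 1), (223, 192, -1), (224, 198, -1), (225, 208, -1), (236, 227, 1), (238, 229, -1)],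
   [(158, 122, -1), (160, 125, 1), (201, 168, 1), (211, 173, 1), (215, 177, 1), (218, 183, 1), (220, 187, 1),
   (223, 193, 1), (224, 199, 1), (225, 209, 1), (236, 228, -1), (237, 229, -1)],    [(155, 120, -1), (161,
   129, 1), (199, 168, 1), (209, 173, 1), (216, 180, -1), (217, 182, -1), (221, 190, -1), (222, 192, -1),
   (224, 201, 1), (225, 211, 1), (235, 227, 1), (238, 230, 1)],    [(155, 122, -1), (160, 129, 1), (198, 168,
   1), (208, 173, 1), (215, 180, -1), (217, 183, 1), (220, 190, -1), (222, 193, 1), (224, 202, -1), (225, 212,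
   -1), (235, 228, -1), (237, 230, 1)],    [(155, 125, -1), (158, 129, 1), (196, 168, 1), (206, 173, 1), (215,
   182, 1), (216, 183, 1), (220, 192, 1), (221, 193, 1), (224, 203, 1), (225, 213, 1), (235, 229, 1), (236,
   230, 1)],    [(151, 120, -1), (161, 134, 1), (193, 168, 1), (209, 177, -1), (212, 180, -1), (213, 182, -1),
   (221, 196, 1), (222, 198, 1), (223, 201, 1), (225, 215, -1), (234, 227, 1), (238, 231, -1)],    [(151, 122,
   -1), (160, 134, 1), (192, 168, 1), (208, 177, -1), (211, 180, -1), (213, 183, 1), (220, 196, 1), (222, 199,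
   -1), (223, 202, -1), (225, 216, 1), (234, 228, -1), (237, 231, -1)],    [(151, 125, -1), (158, 134, 1),
   (190, 168, 1), (206, 177, -1), (211, 182, 1), (212, 183, 1), (220, 198, -1), (221, 199, -1), (223, 203, 1),
   (225, 217, -1), (234, 229, 1), (236, 231, -1)],    [(151, 129, -1), (155, 134, 1), (187, 168, 1), (206,
   180, 1), (208, 182, 1), (209, 183, 1), (220, 201, 1), (221, 202, 1), (222, 203, 1), (225, 218, 1), (234,
   230, -1), (235, 231, -1)],    [(146, 120, -1), (161, 140, 1), (183, 168, 1), (209, 187, 1), (212, 190, 1),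
   (213, 192, 1), (216, 196, 1), (217, 198, 1), (218, 201, 1), (225, 220, 1), (233, 227, 1), (238, 232, 1)],
   [(146, 122, -1), (160, 140, 1), (182, 168, 1), (208, 187, 1), (211, 190, 1), (213, 193, -1), (215, 196, 1),
   (217, 199, -1), (218, 202, -1), (225, 221, -1), (233, 228, -1), (237, 232, 1)],    [(146, 125, -1), (158,
   140, 1), (180, 168, 1), (206, 187, 1), (211, 192, -1), (212, 193, -1), (215, 198, -1), (216, 199, -1),
   (218, 203, 1), (225, 222, 1), (233, 229, 1), (236, 232, 1)],    [(146, 129, -1), (155, 140, 1), (177, 168,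
   1), (206, 190, -1), (208, 192, -1), (209, 193, -1), (215, 201, 1), (216, 202, 1), (217, 203, 1), (225, 223,
   -1), (233, 230, -1), (235, 232, 1)],    [(146, 134, -1), (151, 140, 1), (173, 168, 1), (206, 196, 1), (208,
   198, 1), (209, 199, 1), (211, 201, 1), (212, 202, 1), (213, 203, 1), (225, 224, 1), (233, 231, 1), (234,
   232, 1)],    [(140, 120, -1), (161, 146, 1), (193, 173, -1), (199, 177, -1), (202, 180, -1), (203, 182,
   -1), (221, 206, -1), (222, 208, -1), (223, 211, -1), (224, 215, -1), (232, 227, 1), (238, 233, 1)],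
   [(140, 122, -1), (160, 146, 1), (192, 173, -1), (198, 177, -1), (201, 180, -1), (203, 183, 1), (220, 206,
   -1), (222, 209, 1), (223, 212, 1), (224, 216, 1), (232, 228, -1), (237, 233, 1)],    [(140, 125, -1), (158,
   146, 1), (190, 173, -1), (196, 177, -1), (201, 182, 1), (202, 183, 1), (220, 208, 1), (221, 209, 1), (223,
   213, -1), (224, 217, -1), (232, 229, 1), (236, 233, 1)],    [(140, 129, -1), (155, 146, 1), (187, 173, -1),
   (196, 180, 1), (198, 182, 1), (199, 183, 1), (220, 211, -1), (221, 212, -1), (222, 213, -1), (224, 218, 1),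
   (232, 230, -1), (235, 233, 1)],    [(140, 134, -1), (151, 146, 1), (187, 177, 1), (190, 180, 1), (192, 182,
   1), (193, 183, 1), (220, 215, 1), (221, 216, 1), (222, 217, 1), (223, 218, 1), (232, 231, 1), (234, 233,
   1)],    [(134, 120, -1), (161, 151, 1), (183, 173, 1), (199, 187, -1), (202, 190, -1), (203, 192, -1),
   (216, 206, 1), (217, 208, 1), (218, 211, 1), (224, 220, -1), (231, 227, -1), (238, 234, 1)],    [(134, 122,
   -1), (160, 151, 1), (182, 173, 1), (198, 187, -1), (201, 190, -1), (203, 193, 1), (215, 206, 1), (217, 209,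
   -1), (218, 212, -1), (224, 221, 1), (231, 228, 1), (237, 234, 1)],    [(134, 125, -1), (158, 151, 1), (180,
   173, 1), (196, 187, -1), (201, 192, 1), (202, 193, 1), (215, 208, -1), (216, 209, -1), (218, 213, 1), (224,
   222, -1), (231, 229, -1), (236, 234, 1)],    [(134, 129, -1), (155, 151, 1), (177, 173, 1), (196, 190, 1),
   (198, 192, 1), (199, 193, 1), (215, 211, 1), (216, 212, 1), (217, 213, 1), (224, 223, 1), (231, 230, 1),
   (235, 234, 1)],    [(129, 120, -1), (161, 155, 1), (183, 177, 1), (193, 187, 1), (202, 196, -1), (203, 198,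
   -1), (212, 206, -1), (213, 208, -1), (218, 215, 1), (223, 220, 1), (230, 227, 1), (238, 235, 1)],    [(129,
   122, -1), (160, 155, 1), (182, 177, 1), (192, 187, 1), (201, 196, -1), (203, 199, 1), (211, 206, -1), (213,
   209, 1), (218, 216, -1), (223, 221, -1), (230, 228, -1), (237, 235, 1)],    [(129, 125, -1), (158, 155, 1),
   (180, 177, 1), (190, 187, 1), (201, 198, 1), (202, 199, 1), (211, 208, 1), (212, 209, 1), (218, 217, 1),
   (223, 222, 1), (230, 229, 1), (236, 235, 1)],    [(125, 120, -1), (161, 158, 1), (183, 180, 1), (193, 190,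
   1), (199, 196, 1), (203, 201, -1), (209, 206, 1), (213, 211, -1), (217, 215, -1), (222, 220, -1), (229,
   227, -1), (238, 236, 1)],    [(125, 122, -1), (160, 158, 1), (182, 180, 1), (192, 190, 1), (198, 196, 1),
   (203, 202, 1), (208, 206, 1), (213, 212, 1), (217, 216, 1), (222, 221, 1), (229, 228, 1), (237, 236, 1)],
   [(122, 120, -1), (161, 160, 1), (183, 182, 1), (193, 192, 1), (199, 198, 1), (202, 201, 1), (209, 208, 1),
   (212, 211, 1), (216, 215, 1), (221, 220, 1), (228, 227, 1), (238, 237, 1)],    [(120, 122, -1), (160, 161,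
   1), (182, 183, 1), (192, 193, 1), (198, 199, 1), (201, 202, 1), (208, 209, 1), (211, 212, 1), (215, 216,
   1), (220, 221, 1), (227, 228, 1), (237, 238, 1)],    [(122, 125, -1), (158, 160, 1), (180, 182, 1), (190,
   192, 1), (196, 198, 1), (202, 203, 1), (206, 208, 1), (212, 213, 1), (216, 217, 1), (221, 222, 1), (228,
   229, 1), (236, 237, 1)],    [(120, 125, -1), (158, 161, 1), (180, 183, 1), (190, 193, 1), (196, 199, 1),
   (201, 203, -1), (206, 209, 1), (211, 213, -1), (215, 217, -1), (220, 222, -1), (227, 229, -1), (236, 238,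
   1)],    [(125, 129, -1), (155, 158, 1), (177, 180, 1), (187, 190, 1), (198, 201, 1), (199, 202, 1), (208,
   211, 1), (209, 212, 1), (217, 218, 1), (222, 223, 1), (229, 230, 1), (235, 236, 1)],    [(122, 129, -1),
   (155, 160, 1), (177, 182, 1), (187, 192, 1), (196, 201, -1), (199, 203, 1), (206, 211, -1), (209, 213, 1),
   (216, 218, -1), (221, 223, -1), (228, 230, -1), (235, 237, 1)],    [(120, 129, -1), (155, 161, 1), (177,
   183, 1), (187, 193, 1), (196, 202, -1), (198, 203, -1), (206, 212, -1), (208, 213, -1), (215, 218, 1),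
   (220, 223, 1), (227, 230, 1), (235, 238, 1)],    [(129, 134, -1), (151, 155, 1), (173, 177, 1), (190, 196,
   1), (192, 198, 1), (193, 199, 1), (211, 215, 1), (212, 216, 1), (213, 217, 1), (223, 224, 1), (230, 231,
   1), (234, 235, 1)],    [(125, 134, -1), (151, 158, 1), (173, 180, 1), (187, 196, -1), (192, 201, 1), (193,
   202, 1), (208, 215, -1), (209, 216, -1), (213, 218, 1), (222, 224, -1), (229, 231, -1), (234, 236, 1)],
   [(122, 134, -1), (151, 160, 1), (173, 182, 1), (187, 198, -1), (190, 201, -1), (193, 203, 1), (206, 215,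
   1), (209, 217, -1), (212, 218, -1), (221, 224, 1), (228, 231, 1), (234, 237, 1)],    [(120, 134, -1), (151,
   161, 1), (173, 183, 1), (187, 199, -1), (190, 202, -1), (192, 203, -1), (206, 216, 1), (208, 217, 1), (211,
   218, 1), (220, 224, -1), (227, 231, -1), (234, 238, 1)],    [(134, 140, -1), (146, 151, 1), (177, 187, 1),
   (180, 190, 1), (182, 192, 1), (183, 193, 1), (215, 220, 1), (216, 221, 1), (217, 222, 1), (218, 223, 1),
   (231, 232, 1), (233, 234, 1)],    [(129, 140, -1), (146, 155, 1), (173, 187, -1), (180, 196, 1), (182, 198,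
   1), (183, 199, 1), (211, 220, -1), (212, 221, -1), (213, 222, -1), (218, 224, 1), (230, 232, -1), (233,
   235, 1)],    [(125, 140, -1), (146, 158, 1), (173, 190, -1), (177, 196, -1), (182, 201, 1), (183, 202, 1),
   (208, 220, 1), (209, 221, 1), (213, 223, -1), (217, 224, -1), (229, 232, 1), (233, 236, 1)],    [(122, 140,
   -1), (146, 160, 1), (173, 192, -1), (177, 198, -1), (180, 201, -1), (183, 203, 1), (206, 220, -1), (209,
   222, 1), (212, 223, 1), (216, 224, 1), (228, 232, -1), (233, 237, 1)],    [(120, 140, -1), (146, 161, 1),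
   (173, 193, -1), (177, 199, -1), (180, 202, -1), (182, 203, -1), (206, 221, -1), (208, 222, -1), (211, 223,
   -1), (215, 224, -1), (227, 232, 1), (233, 238, 1)],    [(134, 146, -1), (140, 151, 1), (168, 173, 1), (196,
   206, 1), (198, 208, 1), (199, 209, 1), (201, 211, 1), (202, 212, 1), (203, 213, 1), (224, 225, 1), (231,
   233, 1), (232, 234, 1)],    [(129, 146, -1), (140, 155, 1), (168, 177, 1), (190, 206, -1), (192, 208, -1),
   (193, 209, -1), (201, 215, 1), (202, 216, 1), (203, 217, 1), (223, 225, -1), (230, 233, -1), (232, 235,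
   1)],    [(125, 146, -1), (140, 158, 1), (168, 180, 1), (187, 206, 1), (192, 211, -1), (193, 212, -1), (198,
   215, -1), (199, 216, -1), (203, 218, 1), (222, 225, 1), (229, 233, 1), (232, 236, 1)],    [(122, 146, -1),
   (140, 160, 1), (168, 182, 1), (187, 208, 1), (190, 211, 1), (193, 213, -1), (196, 215, 1), (199, 217, -1),
   (202, 218, -1), (221, 225, -1), (228, 233, -1), (232, 237, 1)],    [(120, 146, -1), (140, 161, 1), (168,
   183, 1), (187, 209, 1), (190, 212, 1), (192, 213, 1), (196, 216, 1), (198, 217, 1), (201, 218, 1), (220,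
   225, 1), (227, 233, 1), (232, 238, 1)],    [(129, 151, -1), (134, 155, 1), (168, 187, 1), (180, 206, 1),
   (182, 208, 1), (183, 209, 1), (201, 220, 1), (202, 221, 1), (203, 222, 1), (218, 225, 1), (230, 234, -1),
   (231, 235, -1)],    [(125, 151, -1), (134, 158, 1), (168, 190, 1), (177, 206, -1), (182, 211, 1), (183,
   212, 1), (198, 220, -1), (199, 221, -1), (203, 223, 1), (217, 225, -1), (229, 234, 1), (231, 236, -1)],
   [(122, 151, -1), (134, 160, 1), (168, 192, 1), (177, 208, -1), (180, 211, -1), (183, 213, 1), (196, 220,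
   1), (199, 222, -1), (202, 223, -1), (216, 225, 1), (228, 234, -1), (231, 237, -1)],    [(120, 151, -1),
   (134, 161, 1), (168, 193, 1), (177, 209, -1), (180, 212, -1), (182, 213, -1), (196, 221, 1), (198, 222, 1),
   (201, 223, 1), (215, 225, -1), (227, 234, 1), (231, 238, -1)],    [(125, 155, -1), (129, 158, 1), (168,
   196, 1), (173, 206, 1), (182, 215, 1), (183, 216, 1), (192, 220, 1), (193, 221, 1), (203, 224, 1), (213,
   225, 1), (229, 235, 1), (230, 236, 1)],    [(122, 155, -1), (129, 160, 1), (168, 198, 1), (173, 208, 1),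
   (180, 215, -1), (183, 217, 1), (190, 220, -1), (193, 222, 1), (202, 224, -1), (212, 225, -1), (228, 235,
   -1), (230, 237, 1)],    [(120, 155, -1), (129, 161, 1), (168, 199, 1), (173, 209, 1), (180, 216, -1), (182,
   217, -1), (190, 221, -1), (192, 222, -1), (201, 224, 1), (211, 225, 1), (227, 235, 1), (230, 238, 1)],
   [(122, 158, -1), (125, 160, 1), (168, 201, 1), (173, 211, 1), (177, 215, 1), (183, 218, 1), (187, 220, 1),
   (193, 223, 1), (199, 224, 1), (209, 225, 1), (228, 236, -1), (229, 237, -1)],    [(120, 158, -1), (125,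
   161, 1), (168, 202, 1), (173, 212, 1), (177, 216, 1), (182, 218, -1), (187, 221, 1), (192, 223, -1), (198,
   224, -1), (208, 225, -1), (227, 236, 1), (229, 238, -1)],    [(120, 160, -1), (122, 161, 1), (168, 203, 1),
   (173, 213, 1), (177, 217, 1), (180, 218, 1), (187, 222, 1), (190, 223, 1), (196, 224, 1), (206, 225, 1),
   (227, 237, 1), (228, 238, 1)],    [(140, 168, -1), (151, 173, -1), (155, 177, -1), (158, 180, -1), (160,
   182, -1), (161, 183, -1), (220, 227, 1), (221, 228, 1), (222, 229, 1), (223, 230, 1), (224, 231, 1), (225,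
   233, 1)],    [(134, 168, -1), (146, 173, 1), (155, 187, -1), (158, 190, -1), (160, 192, -1), (161, 193,
   -1), (215, 227, -1), (216, 228, -1), (217, 229, -1), (218, 230, -1), (224, 232, 1), (225, 234, 1)],
   [(129, 168, -1), (146, 177, 1), (151, 187, 1), (158, 196, -1), (160, 198, -1), (161, 199, -1), (211, 227,
   1), (212, 228, 1), (213, 229, 1), (218, 231, -1), (223, 232, -1), (225, 235, 1)],    [(125, 168, -1), (146,
   180, 1), (151, 190, 1), (155, 196, 1), (160, 201, -1), (161, 202, -1), (208, 227, -1), (209, 228, -1),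
   (213, 230, 1), (217, 231, 1), (222, 232, 1), (225, 236, 1)],    [(122, 168, -1), (146, 182, 1), (151, 192,
   1), (155, 198, 1), (158, 201, 1), (161, 203, -1), (206, 227, 1), (209, 229, -1), (212, 230, -1), (216, 231,
   -1), (221, 232, -1), (225, 237, 1)],    [(120, 168, -1), (146, 183, 1), (151, 193, 1), (155, 199, 1), (158,
   202, 1), (160, 203, 1), (206, 228, 1), (208, 229, 1), (211, 230, 1), (215, 231, 1), (220, 232, 1), (225,
   238, 1)],    [(129, 173, -1), (134, 177, 1), (140, 187, -1), (158, 206, -1), (160, 208, -1), (161, 209,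
   -1), (201, 227, -1), (202, 228, -1), (203, 229, -1), (218, 233, -1), (223, 234, -1), (224, 235, -1)],
   [(125, 173, -1), (134, 180, 1), (140, 190, -1), (155, 206, 1), (160, 211, -1), (161, 212, -1), (198, 227,
   1), (199, 228, 1), (203, 230, -1), (217, 233, 1), (222, 234, 1), (224, 236, -1)],    [(122, 173, -1), (134,
   182, 1), (140, 192, -1), (155, 208, 1), (158, 211, 1), (161, 213, -1), (196, 227, -1), (199, 229, 1), (202,
   230, 1), (216, 233, -1), (221, 234, -1), (224, 237, -1)],    [(120, 173, -1), (134, 183, 1), (140, 193,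
   -1), (155, 209, 1), (158, 212, 1), (160, 213, 1), (196, 228, -1), (198, 229, -1), (201, 230, -1), (215,
   233, 1), (220, 234, 1), (224, 238, -1)],    [(125, 177, -1), (129, 180, 1), (140, 196, -1), (151, 206, -1),
   (160, 215, -1), (161, 216, -1), (192, 227, -1), (193, 228, -1), (203, 231, -1), (213, 233, -1), (222, 235,
   1), (223, 236, 1)],    [(122, 177, -1), (129, 182, 1), (140, 198, -1), (151, 208, -1), (158, 215, 1), (161,
   217, -1), (190, 227, 1), (193, 229, -1), (202, 231, 1), (212, 233, 1), (221, 235, -1), (223, 237, 1)],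
   [(120, 177, -1), (129, 183, 1), (140, 199, -1), (151, 209, -1), (158, 216, 1), (160, 217, 1), (190, 228,
   1), (192, 229, 1), (201, 231, -1), (211, 233, -1), (220, 235, 1), (223, 238, 1)],    [(122, 180, -1), (125,
   182, 1), (140, 201, -1), (151, 211, -1), (155, 215, -1), (161, 218, -1), (187, 227, -1), (193, 230, -1),
   (199, 231, -1), (209, 233, -1), (221, 236, -1), (222, 237, -1)],    [(120, 180, -1), (125, 183, 1), (140,
   202, -1), (151, 212, -1), (155, 216, -1), (160, 218, 1), (187, 228, -1), (192, 230, 1), (198, 231, 1),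
   (208, 233, 1), (220, 236, 1), (222, 238, -1)],    [(120, 182, -1), (122, 183, 1), (140, 203, -1), (151,
   213, -1), (155, 217, -1), (158, 218, -1), (187, 229, -1), (190, 230, -1), (196, 231, -1), (206, 233, -1),
   (220, 237, 1), (221, 238, 1)],    [(125, 187, -1), (129, 190, 1), (134, 196, -1), (146, 206, 1), (160, 220,
   -1), (161, 221, -1), (182, 227, 1), (183, 228, 1), (203, 232, -1), (213, 234, -1), (217, 235, -1), (218,
   236, -1)],    [(122, 187, -1), (129, 192, 1), (134, 198, -1), (146, 208, 1), (158, 220, 1), (161, 222, -1),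
   (180, 227, -1), (183, 229, 1), (202, 232, 1), (212, 234, 1), (216, 235, 1), (218, 237, -1)],    [(120, 187,
   -1), (129, 193, 1), (134, 199, -1), (146, 209, 1), (158, 221, 1), (160, 222, 1), (180, 228, -1), (182, 229,
   -1), (201, 232, -1), (211, 234, -1), (215, 235, -1), (218, 238, -1)],    [(122, 190, -1), (125, 192, 1),
   (134, 201, -1), (146, 211, 1), (155, 220, -1), (161, 223, -1), (177, 227, 1), (183, 230, 1), (199, 232,
   -1), (209, 234, -1), (216, 236, 1), (217, 237, 1)],    [(120, 190, -1), (125, 193, 1), (134, 202, -1),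
   (146, 212, 1), (155, 221, -1), (160, 223, 1), (177, 228, 1), (182, 230, -1), (198, 232, 1), (208, 234, 1),
   (215, 236, -1), (217, 238, 1)],    [(120, 192, -1), (122, 193, 1), (134, 203, -1), (146, 213, 1), (155,
   222, -1), (158, 223, -1), (177, 229, 1), (180, 230, 1), (196, 232, -1), (206, 234, -1), (215, 237, -1),
   (216, 238, -1)],    [(122, 196, -1), (125, 198, 1), (129, 201, -1), (146, 215, 1), (151, 220, 1), (161,
   224, -1), (173, 227, -1), (183, 231, 1), (193, 232, 1), (209, 235, -1), (212, 236, -1), (213, 237, -1)],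
   [(120, 196, -1), (125, 199, 1), (129, 202, -1), (146, 216, 1), (151, 221, 1), (160, 224, 1), (173, 228,
   -1), (182, 231, -1), (192, 232, -1), (208, 235, 1), (211, 236, 1), (213, 238, -1)],    [(120, 198, -1),
   (122, 199, 1), (129, 203, -1), (146, 217, 1), (151, 222, 1), (158, 224, -1), (173, 229, -1), (180, 231, 1),
   (190, 232, 1), (206, 235, -1), (211, 237, 1), (212, 238, 1)],    [(120, 201, -1), (122, 202, 1), (125, 203,
   -1), (146, 218, 1), (151, 223, 1), (155, 224, 1), (173, 230, -1), (177, 231, -1), (187, 232, -1), (206,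
   236, -1), (208, 237, -1), (209, 238, -1)],    [(122, 206, -1), (125, 208, 1), (129, 211, -1), (134, 215,
   1), (140, 220, -1), (161, 225, -1), (168, 227, 1), (183, 233, 1), (193, 234, 1), (199, 235, 1), (202, 236,
   1), (203, 237, 1)],    [(120, 206, -1), (125, 209, 1), (129, 212, -1), (134, 216, 1), (140, 221, -1), (160,
   225, 1), (168, 228, 1), (182, 233, -1), (192, 234, -1), (198, 235, -1), (201, 236, -1), (203, 238, 1)],
   [(120, 208, -1), (122, 209, 1), (129, 213, -1), (134, 217, 1), (140, 222, -1), (158, 225, -1), (168, 229,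
   1), (180, 233, 1), (190, 234, 1), (196, 235, 1), (201, 237, -1), (202, 238, -1)],    [(120, 211, -1), (122,
   212, 1), (125, 213, -1), (134, 218, 1), (140, 223, -1), (155, 225, 1), (168, 230, 1), (177, 233, -1), (187,
   234, -1), (196, 236, 1), (198, 237, 1), (199, 238, 1)],    [(120, 215, -1), (122, 216, 1), (125, 217, -1),
   (129, 218, 1), (140, 224, -1), (151, 225, -1), (168, 231, 1), (173, 233, 1), (187, 235, -1), (190, 236,
   -1), (192, 237, -1), (193, 238, -1)],    [(120, 220, -1), (122, 221, 1), (125, 222, -1), (129, 223, 1),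
   (134, 224, -1), (146, 225, 1), (168, 232, 1), (173, 234, 1), (177, 235, 1), (180, 236, 1), (182, 237, 1),
   (183, 238, 1)],    [(120, 227, -1), (122, 228, 1), (125, 229, -1), (129, 230, 1), (134, 231, -1), (140,
   232, 1), (146, 233, 1), (151, 234, 1), (155, 235, 1), (158, 236, 1), (160, 237, 1), (161, 238, 1)]]

/-- the entries of the table at `r`, `s` -/
def F56 (r s : ℕ) : List (ℕ × ℤ) := ((T56.getD r []).filter fun x => Nat.beq x.1 s).map fun x => x.2

/-- the check of the row `r` -/
def chkRow (r : ℕ) : Bool :=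
  (((chevE8.chain.getD (ι78 r) #[]).toList.filter fun e => decide (rt chevE8 e.1 7 = 1)).map fun e => (e.1, e.2.toList)) ==
    (T56.getD r []).map fun x => (x.1, [(x.2.1, x.2.2)])

theorem chkRow_a : (List.range 32).all chkRow = true := by decide +kernel
theorem chkRow_b : (List.range' 32 32).all chkRow = true := by decide +kernel
theorem chkRow_c : (List.range' 64 32).all chkRow = true := by decide +kernel
theorem chkRow_d : (List.range' 96 30).all chkRow = true := by decide +kernel

theorem chkRow_all {r : ℕ} (hr : r < 126) : chkRow r = true := by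
  by_cases h1 : r < 32
  · exact List.all_eq_true.1 chkRow_a r (List.mem_range.2 h1)
  by_cases h2 : r < 64
  · exact List.all_eq_true.1 chkRow_b r (List.mem_range'_1.2 ⟨by omega, by omega⟩)
  by_cases h3 : r < 96
  · exact List.all_eq_true.1 chkRow_c r (List.mem_range'_1.2 ⟨by omega, by omega⟩)
  · exact List.all_eq_true.1 chkRow_d r (List.mem_range'_1.2 ⟨by omega, by omega⟩)

theorem chainCoeff_eq {r : ℕ} (hr : r < 126) {s : ℕ} (hs : rt chevE8 s 7 = 1) (u : ℕ) :
    chevE8.chainCoeff (ι78 r) s u = ((F56 r s).filter fun q => Nat.beq q.1 u).map fun q => (1, q.2) := by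
  have h := chkRow_all hr
  unfold chkRow at h
  rw [beq_iff_eq] at h
  unfold ChevalleyDatum.chainCoeff
  set Lc := (chevE8.chain.getD (ι78 r) #[]).toList with hLc
  have h1 : (Lc.filter fun e => decide (e.1 = s)) =
      (Lc.filter fun e => decide (rt chevE8 e.1 7 = 1)).filter fun e => decide (e.1 = s) := by
    rw [List.filter_filter]
    refine List.filter_congr fun e _ => ?_
    by_cases h2 : e.1 = s
    · simp [h2, hs]
    · simp [h2]
  rw [h1]
  set Ld := Lc.filter fun e => decide (rt chevE8 e.1 7 = 1) with hLd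
  have h2 : ∀ (A : List (ℕ × Array (ℕ × ℤ))) (B : List (ℕ × ℕ × ℤ)),
      (A.map fun e => (e.1, e.2.toList)) = (B.map fun x => (x.1, [(x.2.1, x.2.2)])) →
      ((A.filter fun e => decide (e.1 = s)).flatMap fun e =>
        ((e.2.toList.zipIdx).filter (fun q => q.1.1 = u)).map fun q => (q.2 + 1, q.1.2)) =
      ((((B.filter fun x => Nat.beq x.1 s).map fun x => x.2)).filter fun q => Nat.beq q.1 u).map fun q => (1, q.2) := by
    intro A
    induction A with
    | nil =>
      intro B hB
      cases B with
      | nil => rfl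
      | cons b B => simp at hB
    | cons a A ih =>
      intro B hB
      cases B with
      | nil => simp at hB
      | cons b B =>
        rw [List.map_cons, List.map_cons, List.cons.injEq, Prod.mk.injEq] at hB
        obtain ⟨⟨h3, h4⟩, h5⟩ := hB
        have h6 := ih B h5
        by_cases hs' : b.1 = s
        · have e1 : decide (a.1 = s) = true := by simp [h3, hs']
          have e2 : Nat.beq b.1 s = true := by simp [hs']
          rw [List.filter_cons_of_pos (by simpa using e1), List.filter_cons_of_pos (by simpa using e2), List.flatMap_cons,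
            h6, h4, List.map_cons]
          by_cases hu : b.2.1 = u
          · have e3 : Nat.beq b.2.1 u = true := by simp [hu]
            rw [List.filter_cons_of_pos (by simpa using e3), List.map_cons]
            simp [hu]
          · have e3 : ¬ Nat.beq b.2.1 u = true := by simp [hu]
            rw [List.filter_cons_of_neg (by simpa using e3)]
            simp [hu]
        · have e1 : ¬ decide (a.1 = s) = true := by simp [h3, hs']
          have e2 : ¬ Nat.beq b.1 s = true := by simp [hs']
          rw [List.filter_cons_of_neg (by simpa using e1), List.filter_cons_of_neg (by simpa using e2), h6]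
  exact h2 Ld _ h

/-- the image of the basis vector `s` -/
def mv (r s : ℕ) : Option (ℕ × ℤ) := (F56 r s).head?

/-- the check of the action of the root `r` -/
def chkMv (r : ℕ) : Bool := (List.range 240).all fun s => bif decide (rt chevE8 s 7 = 1) then
    (match F56 r s with
      | [] => true
      | [(u, c)] => (c * c == 1) && decide (u < 240) && decide (rt chevE8 u 7 = 1) && (F56 r u == []) &&
          (F56 (125 - r) u == [(s, c)])
      | _ => false) else true

theorem chkMv_a : (List.range 32).all chkMv = true := by decide +kernel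
theorem chkMv_b : (List.range' 32 32).all chkMv = true := by decide +kernel
theorem chkMv_c : (List.range' 64 32).all chkMv = true := by decide +kernel
theorem chkMv_d : (List.range' 96 30).all chkMv = true := by decide +kernel

theorem chkMv_all {r : ℕ} (hr : r < 126) : chkMv r = true := by
  by_cases h1 : r < 32
  · exact List.all_eq_true.1 chkMv_a r (List.mem_range.2 h1)
  by_cases h2 : r < 64
  · exact List.all_eq_true.1 chkMv_b r (List.mem_range'_1.2 ⟨by omega, by omega⟩)
  by_cases h3 : r < 96
  · exact List.all_eq_true.1 chkMv_c r (List.mem_range'_1.2 ⟨by omega, by omega⟩)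
  · exact List.all_eq_true.1 chkMv_d r (List.mem_range'_1.2 ⟨by omega, by omega⟩)

theorem F56_cases {r : ℕ} (hr : r < 126) {s : ℕ} (hs : s < 240) (h7 : rt chevE8 s 7 = 1) :
    (F56 r s = [] ∧ mv r s = none) ∨ ∃ u c, F56 r s = [(u, c)] ∧ mv r s = some (u, c) ∧ c * c = 1 ∧ u < 240 ∧
      rt chevE8 u 7 = 1 ∧ F56 r u = [] ∧ F56 (125 - r) u = [(s, c)] := by
  have h := List.all_eq_true.1 (chkMv_all hr) s (List.mem_range.2 hs)
  have h6 : decide (rt chevE8 s 7 = 1) = true := decide_eq_true h7
  rw [h6, cond_true] at h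
  unfold mv
  rcases hF : F56 r s with _ | ⟨⟨u, c⟩, l⟩
  · exact Or.inl ⟨rfl, rfl⟩
  · right
    rw [hF] at h
    cases l with
    | cons a l => simp at h
    | nil =>
      simp only [Bool.and_eq_true, beq_iff_eq, decide_eq_true_eq] at h
      obtain ⟨⟨⟨⟨h1, h2⟩, h3⟩, h4⟩, h5⟩ := h
      exact ⟨u, c, rfl, rfl, h1, h2, h3, h4, h5⟩

end Cfsg.Agent.R2.T1
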