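import Cfsg.Agent.R2.T1.Inf.Tab
import Cfsg.Agent.R2.T1.Five.Alc

/-!
# S5771, S5929: the patterns of the elements of small order (helper11)

* `exists_pat` : the joint multiplicities on `V` and `L` of an element of order dividing `N` are in the table;
* `T2`, `T3`, `T4`, `T5`, `T7` : tables (multiplicities of `1, ζ, ζ², …` on `V` and on `L`), `chk2`, ..., `chk7`;
* `pat2`, ..., `pat7` : over finite fields.
-/

set_option autoImplicit false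
set_option maxRecDepth 100000

namespace Cfsg.Agent.R2.T1

open Cfsg Cfsg.Lie Module
open Cfsg.Agent.H943.E7V.Block (D1 rho)
open Cfsg.Agent.H952.F4 (ev es)
open Cfsg.Agent.H944.Tab (allAlc allAlc_spec dotN)
open Cfsg.Agent.H944.E7Two (th7)

universe u

/-- the test of a table -/
def chk (N : ℕ) (T : List (List ℕ × List ℕ)) : Bool :=
  allAlc th7 N fun y => (List.range N).all fun t => !((2 * t + dt [2, 3, 4, 6, 5, 4, 3] y) % N == 0) ||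
    T.contains ((List.range N).map (cV N y t), (List.range N).map (cL N y))

section
variable {K : Type u} [Field K]

theorem wt_pow_one {N : ℕ} {c : Fin chevE7.rank → Kˣ} (h : c ^ N = 1) (s : D1) : wt s c ^ N = 1 := by
  unfold wt
  rw [← Finset.prod_pow]
  refine Finset.prod_eq_one fun i _ => ?_
  rw [← zpow_natCast, ← zpow_mul, mul_comm, zpow_mul, zpow_natCast]
  have h4 : c i ^ N = 1 := congrFun h i
  rw [h4, one_zpow]

/-- **the patterns of the elements of order dividing `N`** -/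
theorem exists_pat {N : ℕ} {T : List (List ℕ × List ℕ)} (hchk : chk N T = true) (hN : 0 < N) {ζ : Kˣ}
    (hζ : IsPrimitiveRoot ζ N) {x : Gh K}
    (h : ∃ (g : Gh K) (c : Fin chevE7.rank → Kˣ), Phi K c = g * x * g⁻¹ ∧ c ^ N = 1) :
    ∃ P ∈ T, ∀ k < N, ev (V K x) ((ζ : K) ^ k) = P.1.getD k 0 ∧ ev (L K x) ((ζ : K) ^ k) = P.2.getD k 0 := by
  obtain ⟨g, c, y, h1, h2, h3, h4⟩ := Five.exists_alc hN hζ h
  have hζ' : IsPrimitiveRoot (ζ : K) N := IsPrimitiveRoot.coe_units_iff.2 hζ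
  have : NeZero N := ⟨hN.ne'⟩
  obtain ⟨t, htN, ht⟩ : ∃ t < N, ζ ^ t = wt botv c := by
    have h5 : ((wt botv c : Kˣ) : K) ^ N = 1 := by
      rw [← Units.val_pow_eq_pow_val, wt_pow_one h2, Units.val_one]
    obtain ⟨t, htN, ht⟩ := hζ'.eq_pow_of_pow_eq_one h5
    exact ⟨t, htN, Units.ext (by rw [Units.val_pow_eq_pow_val, ht])⟩
  set Y := List.ofFn y with hY
  have hlen : Y.length = 7 := by rw [hY, List.length_ofFn]
  have hv : ∀ j < 7, rtv (chevE7.simple j) c = ζ ^ Y.getD j 0 := by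
    intro j hj
    have h5 := h3 ⟨j, hj⟩
    have h6 : Y.getD j 0 = y ⟨j, hj⟩ := by
      rw [hY, List.getD_eq_getElem _ _ (by rw [List.length_ofFn]; exact hj), List.getElem_ofFn]
    rw [h6]
    exact h5
  have hc := allAlc_spec th7 N _ (by decide) hchk Y (by rw [hlen]; rfl) h4
  rw [List.all_eq_true] at hc
  have hc' := hc t (List.mem_range.2 htN)
  rw [core_rel hlen hv hζ ht.symm] at hc'
  simp only [beq_self_eq_true, Bool.not_true, Bool.false_or, List.contains_iff_mem] at hc'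
  refine ⟨_, hc', fun k hk => ⟨?_, ?_⟩⟩
  · rw [ev_V_of_conj h1, ev_V_core hlen hv hζ ht.symm hk]
    simp only [List.getD_eq_getElem?_getD, List.getElem?_map, List.getElem?_range hk, Option.map_some, Option.getD_some]
  · rw [ev_L_of_conj h1, ev_L_core hlen hv hζ hk]
    simp only [List.getD_eq_getElem?_getD, List.getElem?_map, List.getElem?_range hk, Option.map_some, Option.getD_some]

end

/-- the patterns of the elements of order dividing 2 -/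
def T2 : List (List ℕ × List ℕ) :=
  [([56, 0], [133, 0]), ([0, 56], [133, 0]), ([32, 24], [69, 64]), ([24, 32], [69, 64])]

/-- the patterns of the elements of order dividing 3 -/
def T3 : List (List ℕ × List ℕ) :=
  [([56, 0, 0], [133, 0, 0]), ([2, 27, 27], [79, 27, 27]), ([32, 12, 12], [67, 33, 33]),
   ([20, 18, 18], [49, 42, 42]), ([14, 21, 21], [49, 42, 42]), ([20, 18, 18], [43, 45, 45])]

/-- the patterns of the elements of order dividing 4 -/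
def T4 : List (List ℕ × List ℕ) :=
  [([56, 0, 0, 0], [133, 0, 0, 0]), ([0, 0, 56, 0], [133, 0, 0, 0]), ([0, 28, 0, 28], [79, 0, 54, 0]),
   ([32, 0, 24, 0], [69, 0, 64, 0]), ([24, 0, 32, 0], [69, 0, 64, 0]), ([32, 12, 0, 12], [67, 32, 2, 32]),
   ([0, 12, 32, 12], [67, 32, 2, 32]), ([0, 28, 0, 28], [63, 0, 70, 0]), ([20, 16, 4, 16], [49, 32, 20, 32]),
   ([4, 16, 20, 16], [49, 32, 20, 32]), ([20, 12, 12, 12], [39, 32, 30, 32]), ([12, 12, 20, 12], [39, 32, 30, 32]),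
   ([12, 16, 12, 16], [37, 32, 32, 32]), ([16, 12, 16, 12], [35, 32, 34, 32]), ([12, 16, 12, 16], [33, 32, 36, 32])]

/-- the patterns of the elements of order dividing 5 -/
def T5 : List (List ℕ × List ℕ) :=
  [([56, 0, 0, 0, 0], [133, 0, 0, 0, 0]), ([0, 1, 27, 27, 1], [79, 27, 0, 0, 27]),
   ([0, 27, 1, 1, 27], [79, 0, 27, 27, 0]), ([32, 0, 12, 12, 0], [67, 1, 32, 32, 1]),
   ([32, 12, 0, 0, 12], [67, 32, 1, 1, 32]), ([20, 2, 16, 16, 2], [49, 10, 32, 32, 10]),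
   ([20, 16, 2, 2, 16], [49, 32, 10, 10, 32]), ([0, 7, 21, 21, 7], [49, 35, 7, 7, 35]),
   ([0, 21, 7, 7, 21], [49, 7, 35, 35, 7]), ([2, 10, 17, 17, 10], [47, 26, 17, 17, 26]),
   ([2, 17, 10, 10, 17], [47, 17, 26, 26, 17]), ([20, 6, 12, 12, 6], [39, 17, 30, 30, 17]),
   ([20, 12, 6, 6, 12], [39, 30, 17, 17, 30]), ([12, 7, 15, 15, 7], [37, 22, 26, 26, 22]),
   ([12, 15, 7, 7, 15], [37, 26, 22, 22, 26]), ([16, 10, 10, 10, 10], [33, 25, 25, 25, 25]),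
   ([6, 10, 15, 15, 10], [33, 30, 20, 20, 30]), ([6, 15, 10, 10, 15], [33, 20, 30, 30, 20]),
   ([10, 11, 12, 12, 11], [29, 27, 25, 25, 27]), ([10, 12, 11, 11, 12], [29, 25, 27, 27, 25]),
   ([12, 10, 12, 12, 10], [27, 26, 27, 27, 26]), ([12, 12, 10, 10, 12], [27, 27, 26, 26, 27])]

/-- the patterns of the elements of order dividing 7 -/
def T7 : List (List ℕ × List ℕ) :=
  [([56, 0, 0, 0, 0, 0, 0], [133, 0, 0, 0, 0, 0, 0]), ([0, 0, 1, 27, 27, 1, 0], [79, 27, 0, 0, 0, 0, 27]),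
   ([0, 1, 27, 0, 0, 27, 1], [79, 0, 0, 27, 27, 0, 0]), ([0, 27, 0, 1, 1, 0, 27], [79, 0, 27, 0, 0, 27, 0]),
   ([32, 0, 0, 12, 12, 0, 0], [67, 1, 0, 32, 32, 0, 1]), ([32, 0, 12, 0, 0, 12, 0], [67, 0, 32, 1, 1, 32, 0]),
   ([32, 12, 0, 0, 0, 0, 12], [67, 32, 1, 0, 0, 1, 32]), ([20, 0, 16, 2, 2, 16, 0], [49, 0, 32, 10, 10, 32, 0]),
   ([20, 2, 0, 16, 16, 0, 2], [49, 10, 0, 32, 32, 0, 10]), ([20, 16, 2, 0, 0, 2, 16], [49, 32, 10, 0, 0, 10, 32]),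
   ([0, 0, 7, 21, 21, 7, 0], [49, 35, 7, 0, 0, 7, 35]), ([0, 7, 21, 0, 0, 21, 7], [49, 7, 0, 35, 35, 0, 7]),
   ([0, 21, 0, 7, 7, 0, 21], [49, 0, 35, 7, 7, 35, 0]), ([2, 1, 16, 10, 10, 16, 1], [47, 17, 16, 10, 10, 16, 17]),
   ([2, 10, 1, 16, 16, 1, 10], [47, 10, 17, 16, 16, 17, 10]),
   ([2, 16, 10, 1, 1, 10, 16], [47, 16, 10, 17, 17, 10, 16]),
   ([0, 1, 10, 17, 17, 10, 1], [47, 26, 16, 1, 1, 16, 26]), ([0, 10, 17, 1, 1, 17, 10], [47, 16, 1, 26, 26, 1, 16]),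
   ([0, 17, 1, 10, 10, 1, 17], [47, 1, 26, 16, 16, 26, 1]), ([20, 0, 12, 6, 6, 12, 0], [39, 2, 30, 15, 15, 30, 2]),
   ([20, 6, 0, 12, 12, 0, 6], [39, 15, 2, 30, 30, 2, 15]), ([20, 12, 6, 0, 0, 6, 12], [39, 30, 15, 2, 2, 15, 30]),
   ([20, 6, 6, 6, 6, 6, 6], [37, 16, 16, 16, 16, 16, 16]), ([12, 1, 15, 6, 6, 15, 1], [37, 6, 26, 16, 16, 26, 6]),
   ([12, 6, 1, 15, 15, 1, 6], [37, 16, 6, 26, 26, 6, 16]), ([12, 15, 6, 1, 1, 6, 15], [37, 26, 16, 6, 6, 16, 26]),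
   ([0, 6, 7, 15, 15, 7, 6], [37, 21, 20, 7, 7, 20, 21]), ([0, 7, 15, 6, 6, 15, 7], [37, 20, 7, 21, 21, 7, 20]),
   ([0, 15, 6, 7, 7, 6, 15], [37, 7, 21, 20, 20, 21, 7]), ([16, 2, 10, 8, 8, 10, 2], [33, 9, 24, 17, 17, 24, 9]),
   ([16, 8, 2, 10, 10, 2, 8], [33, 17, 9, 24, 24, 9, 17]), ([16, 10, 8, 2, 2, 8, 10], [33, 24, 17, 9, 9, 17, 24]),
   ([0, 3, 10, 15, 15, 10, 3], [33, 30, 15, 5, 5, 15, 30]), ([0, 10, 15, 3, 3, 15, 10], [33, 15, 5, 30, 30, 5, 15]),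
   ([0, 15, 3, 10, 10, 3, 15], [33, 5, 30, 15, 15, 30, 5]), ([2, 9, 9, 9, 9, 9, 9], [31, 17, 17, 17, 17, 17, 17]),
   ([10, 3, 10, 10, 10, 10, 3], [29, 15, 22, 15, 15, 22, 15]),
   ([10, 10, 3, 10, 10, 3, 10], [29, 15, 15, 22, 22, 15, 15]),
   ([10, 10, 10, 3, 3, 10, 10], [29, 22, 15, 15, 15, 15, 22]),
   ([4, 5, 10, 11, 11, 10, 5], [29, 20, 20, 12, 12, 20, 20]),
   ([4, 10, 11, 5, 5, 11, 10], [29, 20, 12, 20, 20, 12, 20]),
   ([4, 11, 5, 10, 10, 5, 11], [29, 12, 20, 20, 20, 20, 12]),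
   ([2, 5, 10, 12, 12, 10, 5], [29, 25, 15, 12, 12, 15, 25]),
   ([2, 10, 12, 5, 5, 12, 10], [29, 15, 12, 25, 25, 12, 15]),
   ([2, 12, 5, 10, 10, 5, 12], [29, 12, 25, 15, 15, 25, 12]),
   ([12, 4, 12, 6, 6, 12, 4], [27, 11, 24, 18, 18, 24, 11]),
   ([12, 6, 4, 12, 12, 4, 6], [27, 18, 11, 24, 24, 11, 18]),
   ([12, 12, 6, 4, 4, 6, 12], [27, 24, 18, 11, 11, 18, 24]),
   ([10, 6, 6, 11, 11, 6, 6], [27, 17, 16, 20, 20, 16, 17]),
   ([10, 6, 11, 6, 6, 11, 6], [27, 16, 20, 17, 17, 20, 16]),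
   ([10, 11, 6, 6, 6, 6, 11], [27, 20, 17, 16, 16, 17, 20]), ([6, 6, 7, 12, 12, 7, 6], [25, 22, 16, 16, 16, 16, 22]),
   ([6, 7, 12, 6, 6, 12, 7], [25, 16, 16, 22, 22, 16, 16]), ([6, 12, 6, 7, 7, 6, 12], [25, 16, 22, 16, 16, 22, 16]),
   ([12, 6, 8, 8, 8, 8, 6], [23, 16, 20, 19, 19, 20, 16]), ([12, 8, 6, 8, 8, 6, 8], [23, 19, 16, 20, 20, 16, 19]),
   ([12, 8, 8, 6, 6, 8, 8], [23, 20, 19, 16, 16, 19, 20]), ([8, 7, 8, 9, 9, 8, 7], [21, 19, 18, 19, 19, 18, 19]),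
   ([8, 8, 9, 7, 7, 9, 8], [21, 18, 19, 19, 19, 19, 18]), ([8, 9, 7, 8, 8, 7, 9], [21, 19, 19, 18, 18, 19, 19]),
   ([6, 7, 9, 9, 9, 9, 7], [21, 21, 18, 17, 17, 18, 21]), ([6, 9, 7, 9, 9, 7, 9], [21, 17, 21, 18, 18, 21, 17]),
   ([6, 9, 9, 7, 7, 9, 9], [21, 18, 17, 21, 21, 17, 18]), ([8, 8, 8, 8, 8, 8, 8], [19, 19, 19, 19, 19, 19, 19])]


theorem chk2 : chk 2 T2 = true := by decide +kernel
theorem chk3 : chk 3 T3 = true := by decide +kernel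
theorem chk4 : chk 4 T4 = true := by decide +kernel
theorem chk5 : chk 5 T5 = true := by decide +kernel
theorem chk7 : chk 7 T7 = true := by decide +kernel

/-- **over finite fields** -/
theorem pat {N : ℕ} {T : List (List ℕ × List ℕ)} (hchk : chk N T = true) (hN0 : N ≠ 0) (p : ℕ) [Fact p.Prime]
    {F : Type u} [Field F] [Finite F] [CharP F p] (hN : N.Coprime p) {x : Gh F} (hx : x ^ N = 1) :
    ∃ ζ : AlgebraicClosure F, IsPrimitiveRoot ζ N ∧ ∃ P ∈ T, ∀ k < N,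
      ev (V (AlgebraicClosure F) (emb (algebraMap F (AlgebraicClosure F)) x)) (ζ ^ k) = P.1.getD k 0 ∧
      ev (L (AlgebraicClosure F) (emb (algebraMap F (AlgebraicClosure F)) x)) (ζ ^ k) = P.2.getD k 0 := by
  have : NeZero N := ⟨hN0⟩
  have hch : CharP (AlgebraicClosure F) p :=
    charP_of_injective_algebraMap (algebraMap F (AlgebraicClosure F)).injective p
  have hNk : ((N : ℕ) : AlgebraicClosure F) ≠ 0 := by
    intro h0
    have h1 : p ∣ N := (CharP.cast_eq_zero_iff (AlgebraicClosure F) p N).1 h0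
    have h2 : p ∣ 1 := by
      rw [← hN]
      exact Nat.dvd_gcd h1 dvd_rfl
    exact (Fact.out : p.Prime).one_lt.ne' (Nat.dvd_one.1 h2)
  have : NeZero ((N : ℕ) : AlgebraicClosure F) := ⟨hNk⟩
  obtain ⟨ζ, hζ⟩ : ∃ ζ : AlgebraicClosure F, IsPrimitiveRoot ζ N :=
    HasEnoughRootsOfUnity.exists_primitiveRoot (AlgebraicClosure F) N
  have hζ0 : ζ ≠ 0 := hζ.ne_zero hN0
  have hζu : IsPrimitiveRoot (Units.mk0 ζ hζ0) N := IsPrimitiveRoot.coe_units_iff.1 hζ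
  obtain ⟨P, hP, h1⟩ := exists_pat hchk (Nat.pos_of_ne_zero hN0) hζu (frame p hN0 hN hx)
  exact ⟨ζ, hζ, P, hP, h1⟩

end Cfsg.Agent.R2.T1
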