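import Cfsg.Agent.R2.T1.Inf.PatF

/-!
# S5771, S5929: the torus attached to an element of order 3 (helper11)

* `Rep z N x v` : `x` is conjugate to the element `c` of the torus with `c ^ N = 1`, `α_i(c) = z ^ v_i`; `Rep.word`;
* `exists_nf` : the representatives in the alcove of a class given by `ev (V K x) 1`, `ev (L K x) 1`;
* `lam l μ` : one-parameter subgroups; `Rep.lam`;
* `TL l j0 d c0 χ₁ χ₂` : conditions on the cocharacter `l`; `TL.exists_lam` : the classes of elements of order 3;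
* `tor32` : for `x` of order 3 with `ev (V F x) 1 = 32`, a cyclic group of order `q ± 1` containing `x`, of polynomials
  in `x`.
-/

set_option autoImplicit false
set_option maxRecDepth 100000

namespace Cfsg.Agent.R2.T1

open Cfsg Cfsg.Lie Module
open Cfsg.Agent.ChevalleyStructure Cfsg.Agent.ChevalleyStructure.Elts Cfsg.Agent.ChevalleyStructure.RootVec
  Cfsg.Agent.ChevalleyStructure.RootVecTab Cfsg.Agent.ChevalleyStructure.CoxeterGeomTypes
open Cfsg.Agent.ChevalleyStructure.StBasic Cfsg.Agent.H129.StCover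
open Cfsg.Agent.H943.E7V.Block (D1 rho)
open Cfsg.Agent.H944.Kac Cfsg.Agent.H944.Tab Cfsg.Agent.H944.E7Two
open Cfsg.Agent.H952.F4 (ev es)

universe u

section
variable {K : Type u} [Field K]

/-- `x` is conjugate to the element of exponent `N` of the torus with `α_i = z ^ v_i` -/
def Rep (z : Kˣ) (N : ℕ) (x : Gh K) (v : Fin 7 → ZMod N) : Prop :=
  ∃ (g : Gh K) (c : Fin chevE7.rank → Kˣ), Phi K c = g * x * g⁻¹ ∧ c ^ N = 1 ∧
    ∀ i : Fin 7, rtv (chevE7.simple i) c = z ^ (v i).val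

variable {z : Kˣ} {N : ℕ} [NeZero N] {x : Gh K} {v : Fin 7 → ZMod N}

theorem Rep.step (hzN : z ^ N = 1) (h : Rep z N x v) (j : Fin 7) : Rep z N x (srefl chevE7 7 j v) := by
  obtain ⟨g, c, h1, h2, h3⟩ := h
  let j' : Fin chevE7.rank := j
  refine ⟨stn chevE7 (chevE7.simple j') (1 : K) * g, sAct chevE7 K j' c, ?_, ?_, fun i => ?_⟩
  · rw [← conj_n_phi e7T.inList isPhi, h1]
    group
  · rw [← map_pow, h2, map_one]
  · refine (Five.rtv_sAct j' _ c).trans ?_
    rw [h3 i]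
    have h4 : rtv (chevE7.simple j') c = z ^ (v j).val := h3 j
    rw [h4, ← Five.val_sub_mul hzN]
    rfl

theorem Rep.word (hzN : z ^ N = 1) (w : List (Fin 7)) : ∀ {v : Fin 7 → ZMod N}, Rep z N x v →
    Rep z N x (w.foldl (fun v j => srefl chevE7 7 j v) v) := by
  induction w with
  | nil => exact fun h => h
  | cons j w ih => exact fun h => ih (h.step hzN j)

/-- the test of the representatives in the alcove -/
def chkNf (N v0 l0 : ℕ) (S : List (List ℕ)) : Bool := allAlc th7 N fun y => (List.range N).all fun t =>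
  !((2 * t + dt [2, 3, 4, 6, 5, 4, 3] y) % N == 0) || (!(cV N y t 0 == v0 && cL N y 0 == l0) || S.contains y)

/-- **representatives in the alcove** -/
theorem exists_nf {v0 l0 : ℕ} {S : List (List ℕ)} (hchk : chkNf N v0 l0 S = true) {ζ : Kˣ}
    (hζ : IsPrimitiveRoot ζ N) (h : ∃ (g : Gh K) (c : Fin chevE7.rank → Kˣ), Phi K c = g * x * g⁻¹ ∧ c ^ N = 1)
    (hv : ev (V K x) 1 = v0) (hl : ev (L K x) 1 = l0) :
    ∃ Y ∈ S, Rep ζ N x fun i => ((Y.getD i 0 : ℕ) : ZMod N) := by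
  have hN : 0 < N := Nat.pos_of_ne_zero (NeZero.ne N)
  obtain ⟨g, c, y, h1, h2, h3, h4⟩ := Five.exists_alc hN hζ h
  have hζ' : IsPrimitiveRoot (ζ : K) N := IsPrimitiveRoot.coe_units_iff.2 hζ
  obtain ⟨t, htN, ht⟩ : ∃ t < N, ζ ^ t = wt botv c := by
    have h5 : ((wt botv c : Kˣ) : K) ^ N = 1 := by
      rw [← Units.val_pow_eq_pow_val, wt_pow_one h2, Units.val_one]
    obtain ⟨t, htN, ht⟩ := hζ'.eq_pow_of_pow_eq_one h5
    exact ⟨t, htN, Units.ext (by rw [Units.val_pow_eq_pow_val, ht])⟩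
  set Y := List.ofFn y with hY
  have hlen : Y.length = 7 := by rw [hY, List.length_ofFn]
  have hget : ∀ j : Fin 7, Y.getD j 0 = y j := by
    intro j
    rw [hY, List.getD_eq_getElem _ _ (by rw [List.length_ofFn]; exact j.2), List.getElem_ofFn]
  have hv' : ∀ j < 7, rtv (chevE7.simple j) c = ζ ^ Y.getD j 0 := by
    intro j hj
    have h5 := h3 ⟨j, hj⟩
    rw [← hget ⟨j, hj⟩] at h5
    exact h5
  have hc := allAlc_spec th7 N _ (by decide) hchk Y (by rw [hlen]; rfl) h4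
  rw [List.all_eq_true] at hc
  have hc' := hc t (List.mem_range.2 htN)
  rw [core_rel hlen hv' hζ ht.symm] at hc'
  have e1 := ev_V_core hlen hv' hζ ht.symm hN
  have e2 := ev_L_core hlen hv' hζ hN
  rw [pow_zero, ← ev_V_of_conj h1, hv] at e1
  rw [pow_zero, ← ev_L_of_conj h1, hl] at e2
  rw [← e1, ← e2] at hc'
  simp only [beq_self_eq_true, Bool.and_self, Bool.not_true, Bool.false_or, List.contains_iff_mem] at hc'
  refine ⟨Y, hc', g, c, h1, h2, fun i => ?_⟩
  rw [h3 i, ← hget i, ← Five.pow_val hζ.pow_eq_one]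

/-- one-parameter subgroups of the torus -/
def lam (l : Fin chevE7.rank → ℤ) (μ : Kˣ) : Fin chevE7.rank → Kˣ := fun i => μ ^ l i

/-- the exponents -/
def chW (l : Fin chevE7.rank → ℤ) (k : ℕ) : ℤ := ∑ i : Fin chevE7.rank, chevE8.cartan i k * l i

/-- the exponents -/
def chR (l : Fin chevE7.rank → ℤ) (r : ℕ) : ℤ := ∑ i : Fin chevE7.rank, chevE7.cartan i r * l i

theorem wt_lam (l : Fin chevE7.rank → ℤ) (μ : Kˣ) (s : D1) : wt s (lam l μ) = μ ^ chW l (nn s) := by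
  unfold wt lam chW
  rw [← prod_zpow_sum]
  exact Finset.prod_congr rfl fun i _ => by rw [← zpow_mul, mul_comm]

theorem rtv_lam (l : Fin chevE7.rank → ℤ) (μ : Kˣ) (r : ℕ) : rtv r (lam l μ) = μ ^ chR l r := by
  unfold rtv lam chR
  rw [← prod_zpow_sum]
  exact Finset.prod_congr rfl fun i _ => by rw [← zpow_mul, mul_comm]

theorem lam_mul (l : Fin chevE7.rank → ℤ) (μ ν : Kˣ) : lam l (μ * ν) = lam l μ * lam l ν := by
  funext i
  exact mul_zpow _ _ _

theorem lam_one (l : Fin chevE7.rank → ℤ) : lam l (1 : Kˣ) = 1 := by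
  funext i
  exact one_zpow _

theorem lam_pow (l : Fin chevE7.rank → ℤ) {μ : Kˣ} {M : ℕ} (h : μ ^ M = 1) : lam l μ ^ M = 1 := by
  funext i
  show (μ ^ l i) ^ M = 1
  rw [← zpow_natCast, ← zpow_mul, mul_comm, zpow_mul, zpow_natCast, h, one_zpow]

omit [NeZero N] in
/-- elements of odd order of the torus are determined by the values of the roots -/
theorem Phi_eq (hN : Odd N) {c c' : Fin chevE7.rank → Kˣ} (hc : c ^ N = 1) (hc' : c' ^ N = 1)
    (h : ∀ i : Fin 7, rtv (chevE7.simple i) c = rtv (chevE7.simple i) c') : Phi K c = Phi K c' := by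
  have h1 : ∀ i < 7, rtv (chevE7.simple i) (c * c'⁻¹) = 1 := by
    intro i hi
    have h2 := h ⟨i, hi⟩
    have h3 : rtv (chevE7.simple i) (c * c'⁻¹) = rtv (chevE7.simple i) c * (rtv (chevE7.simple i) c')⁻¹ := by
      unfold rtv
      rw [← Finset.prod_inv_distrib, ← Finset.prod_mul_distrib]
      exact Finset.prod_congr rfl fun j _ => by rw [Pi.mul_apply, Pi.inv_apply, mul_zpow, inv_zpow]
    have h4 : rtv (chevE7.simple i) c = rtv (chevE7.simple i) c' := h2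
    rw [h3, h4, mul_inv_cancel]
  obtain ⟨h2, h3⟩ := rho_Phi_center' h1
  have h4 : (c * c'⁻¹) ^ N = 1 := by rw [mul_pow, inv_pow, hc, hc', inv_one, mul_one]
  have h5 := wt_pow_one h4 topv
  have h6 : wt topv (c * c'⁻¹) = 1 := by
    obtain ⟨k, hk⟩ := hN
    rw [hk, pow_succ, pow_mul, pow_two, h2, one_pow, one_mul] at h5
    exact h5
  have h7 : Phi K (c * c'⁻¹) = 1 := by
    apply rho_injective
    rw [h3, h6, map_one]
    exact Matrix.diagonal_one
  rw [map_mul, map_inv, mul_inv_eq_one] at h7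
  exact h7

omit [NeZero N] in
/-- representatives in one-parameter subgroups -/
theorem Rep.lam {ζ : Kˣ} (hζ : ζ ^ N = 1) (hN : Odd N) (h : Rep ζ N x v) (l : Fin chevE7.rank → ℤ)
    (hl : ∀ i : Fin 7, ζ ^ chR l (chevE7.simple i) = ζ ^ (v i).val) : ∃ g : Gh K, Phi K (lam l ζ) = g * x * g⁻¹ := by
  obtain ⟨g, c, h1, h2, h3⟩ := h
  refine ⟨g, ?_⟩
  rw [← h1]
  refine Phi_eq hN (lam_pow l hζ) h2 fun i => ?_
  rw [rtv_lam, h3, hl]

/-- the exponent of the weight `w` -/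
def chv (j0 : ℕ) (d c0 : ℤ) (w : ℕ × List ℕ) : ℤ := c0 + d * (w.2.getD j0 0 : ℕ)

/-- the conditions on the cocharacter `l`: only the simple root `j0` is non-trivial, with the value `d` -/
structure TL (l : Fin chevE7.rank → ℤ) (j0 : ℕ) (d c0 χ₁ χ₂ : ℤ) : Prop where
  simple : ∀ i < 7, chR l (chevE7.simple i) = if i = j0 then d else 0
  lt : j0 < 7
  bot : chW l 120 = c0
  mod : ∀ w ∈ RL, (d * (w.2.getD j0 0 : ℕ)) % 3 = 0 → w.2.getD j0 0 = 0
  diff : χ₁ - χ₂ = d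
  inj : ∃ (i j : Fin chevE7.rank) (a b : ℤ), a * l i + b * l j = 1
  dom₁ : ∀ e : ℤ, e = 1 ∨ e = -1 → (WL.map fun w => if (chv j0 d c0 w ≠ e * χ₁ ∧ (chv j0 d c0 w - e * χ₁) % 3 = 0) then
    1 else 0).sum < (WL.map fun w => if chv j0 d c0 w = χ₁ then 1 else 0).sum
  dom₂ : ∀ e : ℤ, e = 1 ∨ e = -1 → (WL.map fun w => if (chv j0 d c0 w ≠ e * χ₂ ∧ (chv j0 d c0 w - e * χ₂) % 3 = 0) then
    1 else 0).sum < (WL.map fun w => if chv j0 d c0 w = χ₂ then 1 else 0).sum

/-- the cocharacter of type `D₆` (the highest coroot) -/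
def lTh : Fin chevE7.rank → ℤ := fun i => [2, 2, 3, 4, 3, 2, 1].getD i 0

/-- the cocharacter of type `D₅ A₁` -/
def l6 : Fin chevE7.rank → ℤ := fun i => [2, 3, 4, 6, 5, 4, 2].getD i 0

/-- the cocharacter of type `E₆` -/
def l7 : Fin chevE7.rank → ℤ := fun i => [2, 3, 4, 6, 5, 4, 3].getD i 0

/-- the cocharacter of type `A₆` -/
def l2 : Fin chevE7.rank → ℤ := fun i => [4, 7, 8, 12, 9, 6, 3].getD i 0

theorem TL1 : TL lTh 0 1 (-1) 1 0 where
  inj := ⟨⟨0, by decide⟩, ⟨2, by decide⟩, -1, 1, by decide⟩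
  simple := by decide +kernel
  lt := by decide
  bot := by decide +kernel
  mod := by decide +kernel
  diff := by decide
  dom₁ := by rintro e (rfl | rfl) <;> decide +kernel
  dom₂ := by rintro e (rfl | rfl) <;> decide +kernel

theorem TL6 : TL l6 5 1 (-2) 1 0 where
  inj := ⟨⟨0, by decide⟩, ⟨1, by decide⟩, -1, 1, by decide⟩
  simple := by decide +kernel
  lt := by decide
  bot := by decide +kernel
  mod := by decide +kernel
  diff := by decide
  dom₁ := by rintro e (rfl | rfl) <;> decide +kernel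
  dom₂ := by rintro e (rfl | rfl) <;> decide +kernel

theorem TL7 : TL l7 6 2 (-3) 1 (-1) where
  inj := ⟨⟨0, by decide⟩, ⟨1, by decide⟩, -1, 1, by decide⟩
  simple := by decide +kernel
  lt := by decide
  bot := by decide +kernel
  mod := by decide +kernel
  diff := by decide
  dom₁ := by rintro e (rfl | rfl) <;> decide +kernel
  dom₂ := by rintro e (rfl | rfl) <;> decide +kernel

theorem TL2 : TL l2 1 2 (-3) 1 (-1) where
  inj := ⟨⟨0, by decide⟩, ⟨1, by decide⟩, 2, -1, by decide⟩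
  simple := by decide +kernel
  lt := by decide
  bot := by decide +kernel
  mod := by decide +kernel
  diff := by decide
  dom₁ := by rintro e (rfl | rfl) <;> decide +kernel
  dom₂ := by rintro e (rfl | rfl) <;> decide +kernel

variable {l : Fin chevE7.rank → ℤ} {j0 : ℕ} {d c0 χ₁ χ₂ : ℤ}

/-- elements of the torus with only one non-trivial value on the simple roots -/
theorem wt_one (hj : j0 < 7) {t : Fin chevE7.rank → Kˣ} (h : ∀ i < 7, i ≠ j0 → rtv (chevE7.simple i) t = 1) (s : D1) :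
    wt s t = wt botv t * rtv (chevE7.simple j0) t ^ rt chevE8 (nn s) j0 := by
  rw [wt_eq', Finset.prod_eq_single j0]
  · intro j hj1 hj2
    rw [h j (Finset.mem_range.1 hj1) hj2, one_zpow]
  · intro h1
    exact absurd (Finset.mem_range.2 hj) h1

theorem TL.wt_lam (hT : TL l j0 d c0 χ₁ χ₂) (s : D1) (μ : Kˣ) :
    wt s (R2.T1.lam l μ) = μ ^ (c0 + d * rt chevE8 (nn s) j0) := by
  have h1 : ∀ i < 7, i ≠ j0 → rtv (chevE7.simple i) (R2.T1.lam l μ) = 1 := by
    intro i hi hij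
    rw [rtv_lam, hT.simple i hi, if_neg hij, zpow_zero]
  rw [wt_one hT.lt h1, R2.T1.wt_lam, rtv_lam, hT.simple j0 hT.lt, if_pos rfl]
  have h2 : chW l (nn botv) = c0 := hT.bot
  rw [h2, zpow_add, zpow_mul]

theorem L_Phi_apply (a : Fin chevE7.rank → Kˣ) (X : chevE7.Idx → K) (i : chevE7.Idx) :
    L K (Phi K a) X i = dL a i * X i := by
  rw [L_Phi, Matrix.toLin'_apply, Matrix.mulVec_diagonal]

theorem TL.rtv_lam (hT : TL l j0 d c0 χ₁ χ₂) {r : ℕ} (hr : r < 126) (μ : Kˣ) :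
    rtv r (R2.T1.lam l μ) = μ ^ (d * rt chevE7 r j0) := by
  rw [rtv_eq hr, Finset.prod_eq_single j0]
  · rw [R2.T1.rtv_lam, hT.simple j0 hT.lt, if_pos rfl, zpow_mul]
  · intro j hj1 hj2
    rw [R2.T1.rtv_lam, hT.simple j (Finset.mem_range.1 hj1), if_neg hj2, zpow_zero, one_zpow]
  · intro h1
    exact absurd (Finset.mem_range.2 hT.lt) h1

theorem TL.mod' (hT : TL l j0 d c0 χ₁ χ₂) {r : ℕ} (hr : r < 126) (h : (3 : ℤ) ∣ d * rt chevE7 r j0) :
    rt chevE7 r j0 = 0 := by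
  have h1 : ∀ k, 63 ≤ k → k < 126 → ∃ w ∈ RL, w.1 = k := by
    intro k hk1 hk2
    have h2 : k ∈ RL.map Prod.fst := by
      rw [RL_fst, List.mem_range'_1]
      omega
    obtain ⟨w, hw, hwk⟩ := List.mem_map.1 h2
    exact ⟨w, hw, hwk⟩
  by_cases h63 : 63 ≤ r
  · obtain ⟨w, hw, rfl⟩ := h1 r h63 hr
    rw [RL_rt w hw j0 hT.lt] at h ⊢
    have h2 := hT.mod w hw (Int.emod_eq_zero_of_dvd h)
    rw [h2]
    rfl
  · obtain ⟨w, hw, hwr⟩ := h1 (125 - r) (by omega) (by omega)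
    have h3 : r = 125 - w.1 := by omega
    rw [h3, RL_rt' w hw j0 hT.lt] at h ⊢
    rw [mul_neg, dvd_neg] at h
    have h2 := hT.mod w hw (Int.emod_eq_zero_of_dvd h)
    rw [h2]
    rfl

/-- the torus acts trivially on the fixed points of `x` on the adjoint module -/
theorem TL.fix (hT : TL l j0 d c0 χ₁ χ₂) {ζ : Kˣ} (hζ : IsPrimitiveRoot ζ 3) {X : chevE7.Idx → K}
    (hX : L K (Phi K (R2.T1.lam l ζ)) X = X) (μ : Kˣ) : L K (Phi K (R2.T1.lam l μ)) X = X := by
  funext i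
  have h1 := congrFun hX i
  rw [L_Phi_apply] at h1 ⊢
  rcases i with i | r
  · exact one_mul _
  · have h5 : ∀ a : Fin chevE7.rank → Kˣ, dL a (Sum.inr r) = ((rtv r a : Kˣ) : K) := fun _ => rfl
    rw [h5] at h1 ⊢
    have hr : (r : ℕ) < 126 := r.2
    rw [hT.rtv_lam hr] at h1 ⊢
    by_cases h2 : X (Sum.inr r) = 0
    · rw [h2, mul_zero]
    · have h3 : ((ζ ^ (d * rt chevE7 r j0) : Kˣ) : K) = 1 := by
        apply mul_right_cancel₀ h2
        rw [h1, one_mul]
      have h4 : ζ ^ (d * rt chevE7 r j0) = 1 := Units.ext h3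
      rw [hζ.zpow_eq_one_iff_dvd] at h4
      rw [hT.mod' hr h4, mul_zero, zpow_zero, Units.val_one, one_mul]

/-- the one-parameter subgroup is injective -/
theorem TL.lam_injective (hT : TL l j0 d c0 χ₁ χ₂) : Function.Injective fun μ : Kˣ => R2.T1.lam l μ := by
  obtain ⟨i, j, a, b, h⟩ := hT.inj
  intro μ ν hμν
  have h1 : μ ^ l i = ν ^ l i := congrFun hμν i
  have h2 : μ ^ l j = ν ^ l j := congrFun hμν j
  rw [← zpow_one μ, ← zpow_one ν, ← h, zpow_add, zpow_add, mul_comm a, mul_comm b, zpow_mul, zpow_mul, zpow_mul,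
    zpow_mul, h1, h2]

/-- **the classes of elements of order 3 as values of one-parameter subgroups** -/
theorem TL.exists_lam (hT : TL l j0 d c0 χ₁ χ₂) {v0 l0 : ℕ} {S : List (List ℕ)} (hchk : chkNf 3 v0 l0 S = true)
    (hw : ∀ Y ∈ S, ∃ w : List (Fin 7), w.foldl (fun v j => srefl chevE7 7 j v) (fun i : Fin 7 =>
      ((Y.getD i 0 : ℕ) : ZMod 3)) = fun i : Fin 7 => ((if (i : ℕ) = j0 then d else 0 : ℤ) : ZMod 3))
    {ζ : Kˣ} (hζ : IsPrimitiveRoot ζ 3) {x : Gh K}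
    (h : ∃ (g : Gh K) (c : Fin chevE7.rank → Kˣ), Phi K c = g * x * g⁻¹ ∧ c ^ 3 = 1) (hv : ev (V K x) 1 = v0)
    (hl : ev (L K x) 1 = l0) : ∃ g : Gh K, Phi K (R2.T1.lam l ζ) = g * x * g⁻¹ := by
  obtain ⟨Y, hY, hR⟩ := exists_nf hchk hζ h hv hl
  obtain ⟨w, hw⟩ := hw Y hY
  have hR' := hR.word hζ.pow_eq_one w
  rw [hw] at hR'
  refine hR'.lam hζ.pow_eq_one (by decide) l fun i => ?_
  rw [hT.simple i i.2]
  exact Five.zpow_val hζ.pow_eq_one _

end

section c32

theorem nf32 : chkNf 3 32 67 [[0, 0, 0, 0, 0, 1, 1], [1, 0, 0, 0, 0, 0, 0]] = true := by decide +kernel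

theorem chW_lTh : ∀ k < 240, rt chevE8 k 7 = 1 → chW lTh k = 0 ∨ chW lTh k = 1 ∨ chW lTh k = -1 := by decide +kernel

variable {K : Type u} [Field K]

/-- the class of the elements of order 3 with 32 fixed weights: `h_θ(ζ)` -/
theorem exists_lTh {ζ : Kˣ} (hζ : IsPrimitiveRoot ζ 3) {x : Gh K}
    (h : ∃ (g : Gh K) (c : Fin chevE7.rank → Kˣ), Phi K c = g * x * g⁻¹ ∧ c ^ 3 = 1) (h32 : ev (V K x) 1 = 32) :
    ∃ g : Gh K, Phi K (lam lTh ζ) = g * x * g⁻¹ := by
  have h67 : ev (L K x) 1 = 67 := by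
    obtain ⟨P, hP, h1⟩ := exists_pat chk3 (by norm_num) hζ h
    obtain ⟨h2, h3⟩ := h1 0 (by norm_num)
    rw [pow_zero] at h2 h3
    rw [h32] at h2
    rw [h3]
    have key : ∀ P ∈ T3, 32 = P.1.getD 0 0 → P.2.getD 0 0 = 67 := by decide
    exact key P hP h2
  refine TL1.exists_lam nf32 (fun Y hY => ?_) hζ h h32 h67
  simp only [List.mem_cons, List.not_mem_nil, or_false] at hY
  rcases hY with rfl | rfl
  · exact ⟨[6, 5, 4, 3, 1, 2, 0, 3, 2, 4, 3, 1, 5, 4, 3, 2, 0], by decide +kernel⟩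
  · exact ⟨[], by decide +kernel⟩

/-- the coefficients of the polynomial -/
theorem poly_coef {ζ μ : K} (h3 : (3 : K) ≠ 0) (hζ : IsPrimitiveRoot ζ 3) (hμ : μ ≠ 0) {k : ℤ}
    (hk : k = 0 ∨ k = 1 ∨ k = -1) : μ ^ k = (1 + μ + μ⁻¹) / 3 + (1 + ζ⁻¹ * μ + ζ * μ⁻¹) / 3 * ζ ^ k +
      (1 + ζ * μ + ζ⁻¹ * μ⁻¹) / 3 * (ζ ^ k * ζ ^ k) := by
  have h0 : ζ ≠ 0 := hζ.ne_zero (by norm_num)
  have h1 : ζ ^ 2 + ζ + 1 = 0 := by
    have h2 := hζ.geom_sum_eq_zero (by norm_num)
    simp only [Finset.sum_range_succ, Finset.sum_range_zero, pow_zero, pow_one] at h2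
    linear_combination h2
  have hi : ζ⁻¹ = -ζ - 1 := by
    field_simp
    linear_combination h1
  have hT : (3 : K) * 3⁻¹ = 1 := mul_inv_cancel₀ h3
  have hμi : μ * μ⁻¹ = 1 := mul_inv_cancel₀ hμ
  simp only [div_eq_mul_inv]
  rcases hk with rfl | rfl | rfl
  · rw [zpow_zero, zpow_zero, hi]
    linear_combination (-1 : K) * hT
  · rw [zpow_one, zpow_one, hi]
    linear_combination (-μ) * hT - (3 : K)⁻¹ * (1 + μ * (ζ - 2) - μ⁻¹ * (ζ - 1)) * h1
  · rw [zpow_neg_one, zpow_neg_one, hi]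
    linear_combination (-μ⁻¹) * hT - (3 : K)⁻¹ * (1 + μ * (ζ + 2) - μ⁻¹ * (ζ + 3)) * h1

/-- **the torus over `K`** -/
theorem tor32K (h3 : (3 : K) ≠ 0) {ζ : Kˣ} (hζ : IsPrimitiveRoot ζ 3) {x : Gh K}
    (h : ∃ (g : Gh K) (c : Fin chevE7.rank → Kˣ), Phi K c = g * x * g⁻¹ ∧ c ^ 3 = 1) (h32 : ev (V K x) 1 = 32) :
    ∃ Y : Kˣ →* Gh K, Function.Injective Y ∧ Y ζ = x ∧ ∀ μ : Kˣ, rho K (Y μ) =
      ((1 + (μ : K) + (μ : K)⁻¹) / 3) • (1 : Matrix D1 D1 K) +
      ((1 + (ζ : K)⁻¹ * μ + ζ * (μ : K)⁻¹) / 3) • rho K x +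
      ((1 + (ζ : K) * μ + (ζ : K)⁻¹ * (μ : K)⁻¹) / 3) • (rho K x * rho K x) ∧
      ∀ X, L K x X = X → L K (Y μ) X = X := by
  obtain ⟨g, hg⟩ := exists_lTh hζ h h32
  let Y : Kˣ →* Gh K :=
    { toFun := fun μ => g⁻¹ * Phi K (lam lTh μ) * g
      map_one' := by rw [lam_one, map_one]; group
      map_mul' := fun μ ν => by rw [lam_mul, map_mul]; group }
  have hYζ : Y ζ = x := by
    show g⁻¹ * Phi K (lam lTh ζ) * g = x
    rw [hg]; group
  have hζ' : IsPrimitiveRoot (ζ : K) 3 := IsPrimitiveRoot.coe_units_iff.2 hζ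
  have hch : ∀ s : D1, chW lTh (nn s) = 0 ∨ chW lTh (nn s) = 1 ∨ chW lTh (nn s) = -1 := fun s =>
    chW_lTh _ (nn_lt s) (rt_nn s)
  have hpoly : ∀ μ : Kˣ, rho K (Phi K (lam lTh μ)) =
      ((1 + (μ : K) + (μ : K)⁻¹) / 3) • (1 : Matrix D1 D1 K) +
      ((1 + (ζ : K)⁻¹ * μ + ζ * (μ : K)⁻¹) / 3) • rho K (Phi K (lam lTh ζ)) +
      ((1 + (ζ : K) * μ + (ζ : K)⁻¹ * (μ : K)⁻¹) / 3) • (rho K (Phi K (lam lTh ζ)) * rho K (Phi K (lam lTh ζ))) := by
    intro μ
    rw [rho_Phi, rho_Phi, Matrix.diagonal_mul_diagonal, ← Matrix.diagonal_one, ← Matrix.diagonal_smul,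
      ← Matrix.diagonal_smul, ← Matrix.diagonal_smul, Matrix.diagonal_add, Matrix.diagonal_add]
    refine congrArg Matrix.diagonal (funext fun s => ?_)
    simp only [wt_lam, Pi.smul_apply, smul_eq_mul, Units.val_zpow_eq_zpow_val, mul_one]
    exact poly_coef h3 hζ' μ.ne_zero (hch s)
  refine ⟨Y, ?_, hYζ, fun μ => ⟨?_, fun X hX => ?_⟩⟩
  · rw [injective_iff_map_eq_one]
    intro μ hμ
    have h1 : Phi K (lam lTh μ) = 1 := by
      have h2 : g⁻¹ * Phi K (lam lTh μ) * g = 1 := hμ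
      have h4 : Phi K (lam lTh μ) = g * (g⁻¹ * Phi K (lam lTh μ) * g) * g⁻¹ := by group
      rw [h4, h2]; group
    have h5 := isPhi.inj (h1.trans (map_one (Phi K)).symm)
    exact TL1.lam_injective (h5.trans (lam_one lTh).symm)
  · have h1 : rho K (Y μ) = rho K g⁻¹ * rho K (Phi K (lam lTh μ)) * rho K g := by
      rw [← map_mul, ← map_mul]; rfl
    have h2 : rho K x = rho K g⁻¹ * rho K (Phi K (lam lTh ζ)) * rho K g := by
      rw [← map_mul, ← map_mul, hg]
      congr 1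
      group
    have h4 : rho K g * rho K g⁻¹ = 1 := by rw [← map_mul, mul_inv_cancel, map_one]
    have h4' : rho K g⁻¹ * rho K g = 1 := by rw [← map_mul, inv_mul_cancel, map_one]
    have h5 : rho K x * rho K x = rho K g⁻¹ * (rho K (Phi K (lam lTh ζ)) * rho K (Phi K (lam lTh ζ))) * rho K g := by
      rw [h2]
      calc _ = rho K g⁻¹ * rho K (Phi K (lam lTh ζ)) * (rho K g * rho K g⁻¹) * rho K (Phi K (lam lTh ζ)) * rho K g := by
            simp only [mul_assoc]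
        _ = _ := by rw [h4, mul_one]; simp only [mul_assoc]
    rw [h1, hpoly μ, h5, h2]
    simp only [mul_add, add_mul, mul_smul_comm, smul_mul_assoc, mul_one, h4', mul_assoc]
  · have h1 : L K (Phi K (lam lTh ζ)) (L K g X) = L K g X := by
      rw [hg, ← Module.End.mul_apply, ← map_mul, inv_mul_cancel_right, map_mul, Module.End.mul_apply, hX]
    show L K (g⁻¹ * Phi K (lam lTh μ) * g) X = X
    rw [map_mul, map_mul, Module.End.mul_apply, Module.End.mul_apply, TL1.fix hζ h1 μ, ← Module.End.mul_apply,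
      ← map_mul, inv_mul_cancel, map_one, Module.End.one_apply]

theorem toLin'_poly {F : Type u} [Field F] (A : Matrix D1 D1 F) (a b c : F) :
    Matrix.toLin' (a • (1 : Matrix D1 D1 F) + b • A + c • (A * A)) =
      a • (1 : Module.End F (D1 → F)) + b • Matrix.toLin' A + c • (Matrix.toLin' A * Matrix.toLin' A) := by
  rw [map_add, map_add, map_smul, map_smul, map_smul, Matrix.toLin'_mul, Matrix.toLin'_one]
  rfl

/-- **the torus of the elements of order 3 with 32 fixed weights**: a cyclic group of order `q - 1` or `q + 1` of polynomials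
in `x` -/
theorem tor32 {F : Type u} [Field F] [Finite F] (h3 : (3 : F) ≠ 0) {x : Gh F} (hx : x ^ 3 = 1)
    (h32 : ev (V F x) 1 = 32) :
    ∃ (y : Gh F) (a b c : F) (m : ℕ), (V F y = a • (1 : Module.End F (D1 → F)) + b • V F x + c • (V F x * V F x) ∧
      a + b + c = 1) ∧ y ^ m = x ∧ orderOf y = 3 * m ∧ (3 * m + 1 = Nat.card F ∨ 3 * m = Nat.card F + 1) ∧
      ∀ X, L F x X = X → L F y X = X := by
  have h3' : ((3 : ℕ) : F) ≠ 0 := by exact_mod_cast h3
  obtain ⟨p, hpp, hp, hcop⟩ := exists_char h3'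
  have hfr := frame p (by norm_num) hcop hx
  let K := AlgebraicClosure F
  let f : F →+* K := algebraMap F K
  obtain ⟨s, hs⟩ := exists_frob f
  have h3K : (3 : K) ≠ 0 := by
    have h := (map_ne_zero f).2 h3
    rwa [map_ofNat] at h
  have hq3 := card_mod (by norm_num) h3'
  have hq0 : ((Nat.card F : ℕ) : K) = 0 := by
    have := Fintype.ofFinite F
    have h7 : (Nat.card F : F) = 0 := by
      rw [Nat.card_eq_fintype_card]
      exact FiniteField.cast_card_eq_zero F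
    have h8 := congrArg f h7
    rwa [map_natCast, map_zero] at h8
  have hq1 : 1 < Nat.card F := Finite.one_lt_card
  obtain ⟨m, hm, hm0, hmK⟩ : ∃ m : ℕ, (3 * m + 1 = Nat.card F ∨ 3 * m = Nat.card F + 1) ∧ 0 < m ∧
      ((3 * m : ℕ) : K) ≠ 0 := by
    rcases (by omega : Nat.card F % 3 = 1 ∨ Nat.card F % 3 = 2) with h | h
    · refine ⟨Nat.card F / 3, by omega, by omega, ?_⟩
      have h4 : 3 * (Nat.card F / 3) + 1 = Nat.card F := by omega
      have h5 : ((3 * (Nat.card F / 3) : ℕ) : K) + 1 = 0 := by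
        rw [← hq0, ← h4]; push_cast; congr 3; omega
      intro h6
      rw [h6, zero_add] at h5
      exact one_ne_zero h5
    · refine ⟨(Nat.card F + 1) / 3, by omega, by omega, ?_⟩
      have h4 : 3 * ((Nat.card F + 1) / 3) = Nat.card F + 1 := by omega
      rw [h4, Nat.cast_add, hq0, zero_add, Nat.cast_one]
      exact one_ne_zero
  have : NeZero ((3 * m : ℕ) : K) := ⟨hmK⟩
  obtain ⟨μ', hμ'⟩ : ∃ μ : K, IsPrimitiveRoot μ (3 * m) := HasEnoughRootsOfUnity.exists_primitiveRoot K (3 * m)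
  have hμ0 : μ' ≠ 0 := hμ'.ne_zero (by omega)
  obtain ⟨μ, hμu⟩ : ∃ μ : Kˣ, (μ : K) = μ' := ⟨Units.mk0 μ' hμ0, rfl⟩
  rw [← hμu] at hμ'
  have hμ : IsPrimitiveRoot μ (3 * m) := IsPrimitiveRoot.coe_units_iff.1 hμ'
  have hζ : IsPrimitiveRoot (μ ^ m) 3 := hμ.pow (by omega) (mul_comm 3 m)
  have h32K : ev (V K (emb f x)) 1 = 32 := by rw [ev_V_one, h32]
  obtain ⟨Y, hYi, hYζ, hY⟩ := tor32K h3K hζ hfr h32K
  -- the Frobenius endomorphism
  have hsμ : s (μ : K) = μ ∨ s (μ : K) = (μ : K)⁻¹ := by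
    rw [hs]
    rcases hm with h | h
    · left
      rw [← h, pow_succ, ← Units.val_pow_eq_pow_val, hμ.pow_eq_one, Units.val_one, one_mul]
    · right
      have h5 : (μ : K) ^ Nat.card F * μ = 1 := by
        rw [← pow_succ, ← h, ← Units.val_pow_eq_pow_val, hμ.pow_eq_one, Units.val_one]
      exact eq_inv_of_mul_eq_one_left h5
  have hfix : ∀ t : K, s t = t → ∃ a : F, f a = t := fun t ht => exists_of_pow_eq f (by rw [← hs, ht])
  have s3 : s (3 : K) = 3 := map_ofNat s 3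
  obtain ⟨a, ha⟩ := hfix ((1 + (μ : K) + (μ : K)⁻¹) / 3) (by
    rw [map_div₀, map_add, map_add, map_inv₀, map_one, s3]
    rcases hsμ with h | h
    · rw [h]
    · rw [h, inv_inv, add_assoc, add_comm (μ : K)⁻¹, ← add_assoc])
  obtain ⟨b, hb⟩ := hfix ((1 + ((μ ^ m : Kˣ) : K)⁻¹ * μ + ((μ ^ m : Kˣ) : K) * (μ : K)⁻¹) / 3) (by
    rw [Units.val_pow_eq_pow_val, map_div₀, map_add, map_add, map_mul, map_mul, map_inv₀, map_inv₀, map_pow, map_one, s3]
    rcases hsμ with h | h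
    · rw [h]
    · rw [h, inv_inv, inv_pow, inv_inv, add_assoc, add_comm ((μ : K) ^ m * _), ← add_assoc])
  obtain ⟨c, hc⟩ := hfix ((1 + ((μ ^ m : Kˣ) : K) * μ + ((μ ^ m : Kˣ) : K)⁻¹ * (μ : K)⁻¹) / 3) (by
    rw [Units.val_pow_eq_pow_val, map_div₀, map_add, map_add, map_mul, map_mul, map_inv₀, map_inv₀, map_pow, map_one, s3]
    rcases hsμ with h | h
    · rw [h]
    · rw [h, inv_inv, inv_pow, inv_inv, add_assoc, add_comm (((μ : K) ^ m)⁻¹ * _), ← add_assoc])
  have hA : rho K (Y μ) = (a • (1 : Matrix D1 D1 F) + b • rho F x + c • (rho F x * rho F x)).map f := by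
    rw [(hY μ).1, ← ha, ← hb, ← hc, rho_emb]
    ext i j
    simp [Matrix.mul_apply, Matrix.one_apply, apply_ite f]
    rfl
  obtain ⟨y, hy1, hy2⟩ := exists_of_rho f hA
  refine ⟨y, a, b, c, m, ⟨?_, ?_⟩, ?_, ?_, hm, fun X hX => ?_⟩
  · rw [V_eq, V_eq, hy2, toLin'_poly]
  · apply f.injective
    have hζ' : IsPrimitiveRoot ((μ ^ m : Kˣ) : K) 3 := IsPrimitiveRoot.coe_units_iff.2 hζ
    have h5 := poly_coef h3K hζ' μ.ne_zero (Or.inl rfl)
    rw [zpow_zero, zpow_zero, mul_one, mul_one, mul_one] at h5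
    rw [map_add, map_add, map_one, ha, hb, hc, ← h5]
  · apply emb_injective f
    rw [map_pow, hy1, ← map_pow, hYζ]
  · rw [← orderOf_injective (emb f) (emb_injective f), hy1, orderOf_injective Y hYi, ← hμ.eq_orderOf]
  · have h5 := (hY μ).2 (fun i => f (X i)) (by rw [L_emb, hX])
    rw [← hy1, L_emb] at h5
    funext i
    exact f.injective (congrFun h5 i)

/-- subspaces stable under `x` are stable under the torus -/
theorem stable_of_poly {F : Type u} [Field F] {x y : Gh F} {a b c : F}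
    (hy : V F y = a • (1 : Module.End F (D1 → F)) + b • V F x + c • (V F x * V F x)) {W : Submodule F (D1 → F)}
    (hW : ∀ w ∈ W, V F x w ∈ W) : ∀ w ∈ W, V F y w ∈ W := by
  intro w hw
  rw [hy]
  exact add_mem (add_mem (W.smul_mem a hw) (W.smul_mem b (hW w hw))) (W.smul_mem c (hW _ (hW w hw)))

/-- fixed vectors of `x` are fixed by the torus -/
theorem fixed_of_poly {F : Type u} [Field F] {x y : Gh F} {a b c : F}
    (hy : V F y = a • (1 : Module.End F (D1 → F)) + b • V F x + c • (V F x * V F x)) (h1 : a + b + c = 1)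
    {v : D1 → F} (hv : V F x v = v) : V F y v = v := by
  rw [hy]
  show a • v + b • V F x v + c • V F x (V F x v) = v
  rw [hv, hv, ← add_smul, ← add_smul, h1, one_smul]

theorem commute_of_poly {F : Type u} [Field F] {x y g : Gh F} {a b c : F}
    (hy : V F y = a • (1 : Module.End F (D1 → F)) + b • V F x + c • (V F x * V F x)) (hg : g * x = x * g) :
    g * y = y * g := by
  apply V_injective
  have h1 : V F g * V F x = V F x * V F g := by rw [← map_mul, ← map_mul, hg]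
  rw [map_mul, map_mul, hy, mul_add, mul_add, add_mul, add_mul, mul_smul_comm, mul_smul_comm, mul_smul_comm,
    smul_mul_assoc, smul_mul_assoc, smul_mul_assoc, mul_one, one_mul, ← mul_assoc, h1, mul_assoc, h1, mul_assoc]

end c32

end Cfsg.Agent.R2.T1
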